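import Groth.Agent.HopfQuot.Descent
import Groth.Prelude.Def_AlgGrp
import Mathlib.AlgebraicGeometry.Group.Affine
import Mathlib.AlgebraicGeometry.Pullbacks
import Mathlib.AlgebraicGeometry.Morphisms.Flat
import Mathlib.AlgebraicGeometry.Morphisms.ClosedImmersion
import Mathlib.RingTheory.RingHom.FaithfullyFlat

/-!
# The affine quotient of an affine algebraic group by a normal subgroup
-/

set_option autoImplicit false
set_option backward.isDefEq.respectTransparency.types false

noncomputable section

universe u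

open CategoryTheory MonoidalCategory CartesianMonoidalCategory MonObj GrpObj AlgebraicGeometry CategoryTheory.Limits
open WithConv TensorProduct
open Groth.Agent.HopfLib

namespace Groth.Agent.HopfQuot

variable {k : Type u} [Field k]

/-- The group scheme of a Hopf algebra. -/
abbrev spec (A : Type u) [CommRing A] [HopfAlgebra k A] : Over (Spec (CommRingCat.of k)) :=
  (Spec (CommRingCat.of A)).asOver (Spec (CommRingCat.of k))

variable {A B : Type u} [CommRing A] [HopfAlgebra k A] [CommRing B] [HopfAlgebra k B]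

/-- The homomorphism of a bialgebra map. -/
def specHom (f : A →ₐc[k] B) : spec (k := k) B ⟶ spec A :=
  ((hopfSpec (CommRingCat.of k)).map (CommHopfAlgCat.ofHom f).op).hom.hom

instance isMonHom_specHom (f : A →ₐc[k] B) : IsMonHom (specHom f) :=
  inferInstanceAs (IsMonHom ((hopfSpec (CommRingCat.of k)).map (CommHopfAlgCat.ofHom f).op).hom.hom)

theorem specHom_left (f : A →ₐc[k] B) :
    (specHom f).left = Spec.map (CommRingCat.ofHom (f : A →+* B)) := rfl

theorem exists_spec (G : Over (Spec (CommRingCat.of k))) [GrpObj G] [IsAffine G.left] :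
    ∃ (A : Type u) (_ : CommRing A) (_ : HopfAlgebra k A) (e : spec (k := k) A ⟶ G),
      IsIso e ∧ IsMonHom e := by
  obtain ⟨A, ⟨e⟩⟩ := (essImage_hopfSpec (G := Grp.mk G)).2 (inferInstanceAs (IsAffine G.left))
  exact ⟨A.unop.X, A.unop.commRing, A.unop.hopfAlgebra, ((Grp.forget _).mapIso e).hom, inferInstance,
    inferInstanceAs (IsMonHom e.hom.hom.hom)⟩

theorem exists_specHom (j : spec (k := k) B ⟶ spec A) [IsMonHom j] : ∃ f : A →ₐc[k] B, specHom f = j := by
  let J : (hopfSpec (CommRingCat.of k)).obj (.op (.of k B)) ⟶ (hopfSpec (CommRingCat.of k)).obj (.op (.of k A)) :=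
    Grp.homMk'' j (IsMonHom.one_hom (f := j)) (IsMonHom.mul_hom (f := j))
  refine ⟨(hopfSpec.fullyFaithful.preimage J).unop.hom, ?_⟩
  show ((hopfSpec (CommRingCat.of k)).map (hopfSpec.fullyFaithful.preimage J)).hom.hom = j
  rw [Functor.FullyFaithful.map_preimage]
  rfl

variable {T : Type u} [CommRing T] [Algebra k T]

/-- Points. -/
abbrev ptSpec : Pt k A T ≃* ((Spec (CommRingCat.of T)).asOver (Spec (CommRingCat.of k)) ⟶ spec A) :=
  Spec.mapMulEquiv

theorem ptSpec_comp (f : A →ₐc[k] B) (g : Pt k B T) :
    ptSpec (k := k) (A := B) g ≫ specHom f = ptSpec (toConv (g.ofConv.comp (f : A →ₐ[k] B))) := by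
  refine Over.OverMorphism.ext ?_
  rw [Over.comp_left, specHom_left]
  show Spec.map _ ≫ Spec.map _ = Spec.map _
  rw [← Spec.map_comp]
  rfl

theorem isNormalSub_of_isNormalHom (π : A →ₐc[k] B) (hπ : Function.Surjective π)
    {G N : Over (Spec (CommRingCat.of k))} [GrpObj G] [GrpObj N] (i : N ⟶ G) (hN : AlgGrp.IsNormalHom i)
    (e : spec (k := k) A ⟶ G) [IsIso e] [IsMonHom e] (e' : spec (k := k) B ⟶ N) [IsIso e']
    (hπi : specHom π ≫ e = e' ≫ i) : IsNormalSub k A (RingHom.ker (π : A →+* B)) := by
  haveI : (RingHom.ker (π : A →+* B)).IsHopfIdeal k := HopfLib.isHopfIdeal_ker π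
  refine IsNormalSub.ofHopf fun R _ _ g h hh a ha => ?_
  have hker : RingHom.ker (π : A →ₐ[k] B).toRingHom ≤ RingHom.ker h.toRingHom := fun x hx => hh x hx
  let hB : B →ₐ[k] R := AlgHom.liftOfSurjective (π : A →ₐ[k] B) hπ h hker
  obtain ⟨n', hn'⟩ := hN _ (ptSpec (toConv g) ≫ e) (ptSpec (toConv hB) ≫ e')
  have h0 : ptSpec (toConv hB) ≫ specHom π = ptSpec (toConv h) := by
    rw [ptSpec_comp]
    exact congrArg _ (congrArg toConv (AlgHom.ext fun x => AlgHom.liftOfSurjective_apply (π : A →ₐ[k] B) hπ h hker x))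
  rw [Category.assoc, ← hπi, ← Category.assoc, h0, ← GrpObj.inv_comp, ← MonObj.mul_comp, ← MonObj.mul_comp,
    ← map_inv, ← map_mul, ← map_mul] at hn'
  obtain ⟨m, hm⟩ := (ptSpec (k := k) (A := B) (T := R)).surjective (n' ≫ CategoryTheory.inv e')
  have h1 : ptSpec (toConv g * toConv h * (toConv g)⁻¹) = ptSpec (toConv (m.ofConv.comp (π : A →ₐ[k] B))) := by
    rw [← ptSpec_comp π m, hm, ← cancel_mono e, hn', Category.assoc, Category.assoc, hπi, IsIso.inv_hom_id_assoc]
  rw [conv3_eq]
  have h2 := congrArg (fun p : Pt k A R => p.ofConv a) ((ptSpec (k := k)).injective h1)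
  refine Eq.trans h2 ?_
  show m.ofConv (π a) = 0
  rw [show π a = 0 from ha, map_zero]

theorem exists_affine_quotient (G N : Over (Spec (CommRingCat.of k))) [GrpObj G] [GrpObj N] [IsAffine G.left]
    [LocallyOfFiniteType G.hom] (i : N ⟶ G) [IsMonHom i] [IsClosedImmersion i.left]
    (hN : AlgGrp.IsNormalHom i) :
    ∃ (Q : Over (Spec (CommRingCat.of k))) (_ : GrpObj Q) (q : G ⟶ Q), IsMonHom q ∧ IsAffine Q.left ∧
      LocallyOfFiniteType Q.hom ∧ Flat q.left ∧ Surjective q.left ∧ AlgGrp.IsKernel i q := by
  classical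
  haveI : IsAffine N.left := isAffine_of_isAffineHom i.left
  obtain ⟨A, _, _, e, _, _⟩ := exists_spec (k := k) G
  obtain ⟨BN, _, _, e', _, _⟩ := exists_spec (k := k) N
  haveI : IsIso e.left := inferInstanceAs (IsIso ((Over.forget _).map e))
  haveI : IsIso e'.left := inferInstanceAs (IsIso ((Over.forget _).map e'))
  haveI : IsIso (CategoryTheory.inv e).left := inferInstanceAs (IsIso ((Over.forget _).map (CategoryTheory.inv e)))
  haveI : IsMonHom (CategoryTheory.inv e) := inferInstanceAs (IsMonHom (asIso e).inv)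
  obtain ⟨π, hπj⟩ := exists_specHom (k := k) (A := A) (B := BN) (e' ≫ i ≫ CategoryTheory.inv e)
  have hπi : specHom π ≫ e = e' ≫ i := by rw [hπj]; simp
  haveI hci : IsClosedImmersion (Spec.map (CommRingCat.ofHom (π : A →+* BN))) := by
    rw [← specHom_left, hπj, Over.comp_left, Over.comp_left]
    haveI h1 : IsClosedImmersion (CategoryTheory.inv e).left := inferInstance
    haveI h2 : IsClosedImmersion (i.left ≫ (CategoryTheory.inv e).left) := inferInstance
    haveI h3 : IsClosedImmersion e'.left := inferInstance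
    exact MorphismProperty.comp_mem @IsClosedImmersion _ _ h3 h2
  have hπ : Function.Surjective π := by
    have h := Scheme.Hom.app_surjective (Spec.map (CommRingCat.ofHom (π : A →+* BN))) ⊤ (isAffineOpen_top _)
    have e0 := Scheme.ΓSpecIso_inv_naturality (CommRingCat.ofHom (π : A →+* BN))
    intro y
    obtain ⟨z, hz⟩ := h ((Scheme.ΓSpecIso (CommRingCat.of BN)).inv y)
    obtain ⟨x, rfl⟩ := (ConcreteCategory.bijective_of_isIso (Scheme.ΓSpecIso (CommRingCat.of A)).inv).2 z
    refine ⟨x, (ConcreteCategory.bijective_of_isIso (Scheme.ΓSpecIso (CommRingCat.of BN)).inv).1 ?_⟩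
    exact (congrArg (fun f => f.hom x) e0).trans hz
  let I := RingHom.ker (π : A →+* BN)
  haveI : I.IsHopfIdeal k := HopfLib.isHopfIdeal_ker π
  have hI : IsNormalSub k A I := isNormalSub_of_isNormalHom π hπ i hN e e' hπi
  haveI : LocallyOfFiniteType (spec (k := k) A).hom := by
    rw [← Over.w e]
    infer_instance
  haveI hft : Algebra.FiniteType k A :=
    RingHom.finiteType_algebraMap.1 ((HasRingHomProperty.Spec_iff (P := @LocallyOfFiniteType)
      (φ := CommRingCat.ofHom (algebraMap k A))).1 ‹LocallyOfFiniteType (spec (k := k) A).hom›)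
  -- a finitely generated Hopf subalgebra cutting out `I`
  haveI : IsNoetherianRing A := Algebra.FiniteType.isNoetherianRing k A
  have hP := augIdealSpan_invAlg hI
  obtain ⟨s, hs, hspan⟩ := (Submodule.fg_span_iff_fg_span_finset_subset (R := A)
    {a : A | a ∈ invAlg k I ∧ CoalgebraStruct.counit (R := k) (A := A) a = 0}).1 (IsNoetherian.noetherian _)
  obtain ⟨C, hCle, hsC, hCfg, hC⟩ :=
    exists_fg_hopfSubalgebra_le (isHopfSubalgebra_invAlg hI) s fun x hx => (hs hx).1
  have hCI : SGA3.augIdealSpan k A C = I := by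
    refine le_antisymm ?_ ?_
    · rw [← hP]
      exact Ideal.span_mono fun x hx => ⟨hCle hx.1, hx.2⟩
    · rw [← hP]
      exact hspan.le.trans (Ideal.span_mono fun x hx => ⟨hsC hx, (hs hx).2⟩)
  letI := subHopf (B := C) hC
  haveI : Algebra.FiniteType k C := (Subalgebra.fg_iff_finiteType C).1 hCfg
  haveI : Module.FaithfullyFlat C A := faithfullyFlat_isSubHopf hC
  let ιC : C →ₐc[k] A := BialgHom.ofAlgHom C.val (AlgHom.ext fun c => rfl)
    (AlgHom.ext fun c => map_subComul hC c)
  have hff : (ιC : C →+* A).FaithfullyFlat :=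
    (RingHom.faithfullyFlat_algebraMap_iff (R := C) (S := A)).2 inferInstance
  refine ⟨spec (k := k) C, inferInstance, CategoryTheory.inv e ≫ specHom ιC, inferInstance,
    inferInstanceAs (IsAffine (Spec (CommRingCat.of C))),
    locallyOfFiniteType_specOverSpec (R := CommRingCat.of k) (A := CommRingCat.of C), ?_, ?_, ?_⟩
  · haveI : Flat (specHom ιC).left := by
      rw [specHom_left]; exact (HasRingHomProperty.Spec_iff (P := @Flat)).2 hff.flat
    rw [Over.comp_left]
    infer_instance
  · haveI : Surjective (specHom ιC).left := by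
      rw [specHom_left]; exact ⟨(RingHom.FaithfullyFlat.iff_flat_and_comap_surjective.1 hff).2⟩
    rw [Over.comp_left]
    infer_instance
  · -- the kernel
    have hpo : IsPushout (CommRingCat.ofHom (ιC : C →+* A))
        (CommRingCat.ofHom (Bialgebra.counitAlgHom k C).toRingHom)
        (CommRingCat.ofHom (π : A →+* BN)) (CommRingCat.ofHom (algebraMap k BN)) := by
      have hw : ∀ c : C, π (c : A) = algebraMap k BN (CoalgebraStruct.counit (R := k) (c : A)) := fun c => by
        have := (kills_augIdealSpan_iff (g := toConv (π : A →ₐ[k] BN))).1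
          (fun x hx => show (π : A →+* BN) x = 0 from (hCI ▸ hx : x ∈ I)) c c.2
        exact this
      have hlift : ∀ s : PushoutCocone (CommRingCat.ofHom (ιC : C →+* A))
          (CommRingCat.ofHom (Bialgebra.counitAlgHom k C).toRingHom),
          ∃ ψ : BN →+* s.pt, ψ.comp (π : A →+* BN) = s.inl.hom := by
        intro s
        have hs : ∀ c : C, s.inl.hom (c : A) = s.inr.hom (CoalgebraStruct.counit (R := k) (c : A)) := fun c =>
          congrArg (fun f => f.hom c) s.condition
        refine ⟨RingHom.liftOfRightInverse (π : A →+* BN) _ (Function.rightInverse_surjInv hπ)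
          ⟨s.inl.hom, fun x hx => ?_⟩, RingHom.liftOfRightInverse_comp _ _ _ _⟩
        rw [RingHom.mem_ker]
        change x ∈ I at hx
        rw [← hCI] at hx
        induction hx using Submodule.span_induction with
        | mem y hy =>
          have := hs ⟨y, hy.1⟩
          exact this.trans ((congrArg s.inr.hom hy.2).trans (map_zero _))
        | zero => simp
        | add p q _ _ hp hq => rw [map_add, hp, hq, add_zero]
        | smul c p _ hp => rw [smul_eq_mul, map_mul, hp, mul_zero]
      choose ψ hψ using hlift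
      refine ⟨⟨CommRingCat.hom_ext (RingHom.ext hw)⟩, ⟨PushoutCocone.IsColimit.mk _
        (fun s => CommRingCat.ofHom (ψ s)) (fun s => CommRingCat.hom_ext (hψ s))
        (fun s => CommRingCat.hom_ext (RingHom.ext fun c => ?_))
        (fun s m h1 _ => CommRingCat.hom_ext (RingHom.ext fun x => ?_))⟩⟩
      · show ψ s (algebraMap k BN c) = s.inr.hom c
        have e1 : algebraMap k BN c = (π : A →+* BN) (algebraMap k A c) :=
          ((π : A →ₐ[k] BN).commutes c).symm
        have h2 := congrArg (fun f => f.hom (algebraMap k C c)) s.condition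
        rw [e1, ← RingHom.comp_apply, hψ]
        refine h2.trans ?_
        show s.inr.hom (CoalgebraStruct.counit (R := k) (algebraMap k C c : A)) = _
        simp
      · obtain ⟨x, rfl⟩ := hπ x
        exact (congrArg (fun f => f.hom x) h1).trans (RingHom.congr_fun (hψ s) x).symm
    have hpb := isPullback_SpecMap_of_isPushout _ _ _ _ hpo
    have hk : IsPullback (specHom π) (toUnit _) (specHom ιC) η[spec (k := k) C] := by
      refine IsPullback.of_map (Over.forget _) (Over.OverMorphism.ext ?_) ?_
      · exact hpb.w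
      · exact hpb
    exact IsPullback.of_iso hk (asIso e') (asIso e) (Iso.refl _) (Iso.refl _) hπi (toUnit_unique _ _)
      (by simp) (by simp)

end Groth.Agent.HopfQuot
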