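import Groth.Prelude.Def_SGA3
import Groth.Prelude.Def_Dyn
import Mathlib.RingTheory.HopfAlgebra.Convolution
import Mathlib.RingTheory.HopfAlgebra.Quotient
import Mathlib.RingTheory.Flat.Basic

/-!
# Points of affine groups: convolution calculus and normal closed subgroups

Points are `WithConv (A →ₐ[k] R)`.
-/

set_option autoImplicit false

noncomputable section

open TensorProduct WithConv

universe u

namespace Groth.Agent.HopfQuot

variable {k : Type u} [Field k] {A : Type u} [CommRing A] [HopfAlgebra k A]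
  {R R' : Type u} [CommRing R] [Algebra k R] [CommRing R'] [Algebra k R']

variable (k A R) in
/-- `R`-points of `Spec A`. -/
abbrev Pt : Type u := WithConv (A →ₐ[k] R)

theorem mul_apply (g h : Pt k A R) (a : A) :
    (g * h).ofConv a =
      Algebra.TensorProduct.lift g.ofConv h.ofConv (fun _ _ => .all ..) (CoalgebraStruct.comul (R := k) a) :=
  AlgHom.convMul_apply g h a

theorem one_apply (a : A) : (1 : Pt k A R).ofConv a = algebraMap k R (CoalgebraStruct.counit (R := k) a) :=
  AlgHom.convOne_apply a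

instance ptInv : Inv (Pt k A R) where
  inv g := toConv (g.ofConv.comp (HopfAlgebra.antipodeAlgHom k A))

theorem inv_apply (g : Pt k A R) (a : A) :
    g⁻¹.ofConv a = g.ofConv (HopfAlgebraStruct.antipode k (A := A) a) := rfl

/-- Push a point forward along an algebra map. -/
def push (φ : R →ₐ[k] R') : Pt k A R →* Pt k A R' where
  toFun g := toConv (φ.comp g.ofConv)
  map_one' := by
    refine WithConv.ext (AlgHom.ext fun a => ?_)
    rw [ofConv_toConv, AlgHom.comp_apply, one_apply, one_apply, AlgHom.commutes]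
  map_mul' g h := congrArg toConv (AlgHom.comp_convMul_distrib φ g h)

instance ptGroup : Group (Pt k A R) where
  inv_mul_cancel g := by
    have h := congrArg (push g.ofConv) (AlgHom.antipode_id_cancel (R := k) (A := A))
    rw [map_mul, map_one] at h
    exact h

@[simp] theorem push_apply (φ : R →ₐ[k] R') (g : Pt k A R) (a : A) :
    (push φ g).ofConv a = φ (g.ofConv a) := rfl

theorem ext_of_push {φ : R →ₐ[k] R'} (hφ : Function.Injective φ) {g h : Pt k A R} (e : push φ g = push φ h) :
    g = h :=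
  WithConv.ext (AlgHom.ext fun a => hφ (congrArg (fun p : Pt k A R' => p.ofConv a) e))

variable (k A) in
/-- The universal point. -/
abbrev idPt : Pt k A A := toConv (AlgHom.id k A)

theorem push_idPt (g : Pt k A R) : push g.ofConv (idPt k A) = g := rfl

/-- A point kills an ideal. -/
def Kills (I : Ideal A) (g : Pt k A R) : Prop := ∀ a ∈ I, g.ofConv a = 0

theorem Kills.push {I : Ideal A} {g : Pt k A R} (hg : Kills I g) (φ : R →ₐ[k] R') :
    Kills I (HopfQuot.push φ g) := fun a ha => by rw [push_apply, hg a ha, map_zero]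

/-- The point `A → A ⧸ I`. -/
abbrev mkPt (I : Ideal A) : Pt k A (A ⧸ I) := toConv (Ideal.Quotient.mkₐ k I)

theorem kills_mkPt (I : Ideal A) : Kills (k := k) I (mkPt I) := fun a ha =>
  (Ideal.Quotient.eq_zero_iff_mem (I := I)).2 ha

theorem Kills.exists_push {I : Ideal A} {g : Pt k A R} (hg : Kills I g) :
    ∃ φ : (A ⧸ I) →ₐ[k] R, HopfQuot.push φ (mkPt I) = g :=
  ⟨Ideal.Quotient.liftₐ I g.ofConv hg, WithConv.ext (AlgHom.ext fun a => rfl)⟩

variable (k A) in
/-- A closed normal subgroup, given by the points killing an ideal. -/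
structure IsNormalSub (I : Ideal A) : Prop where
  one : ∀ (R : Type u) [CommRing R] [Algebra k R], Kills I (1 : Pt k A R)
  mul : ∀ {R : Type u} [CommRing R] [Algebra k R] {g h : Pt k A R}, Kills I g → Kills I h → Kills I (g * h)
  inv : ∀ {R : Type u} [CommRing R] [Algebra k R] {g : Pt k A R}, Kills I g → Kills I g⁻¹
  conj : ∀ {R : Type u} [CommRing R] [Algebra k R] (g : Pt k A R) {h : Pt k A R}, Kills I h →
    Kills I (g * h * g⁻¹)

theorem IsNormalSub.conj' {I : Ideal A} (hI : IsNormalSub k A I) (g : Pt k A R) {h : Pt k A R}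
    (hh : Kills I h) : Kills I (g⁻¹ * h * g) := by
  simpa using hI.conj g⁻¹ hh

/-- It suffices to check the universal points. -/
theorem IsNormalSub.ofUniversal {I : Ideal A} (h1 : ∀ a ∈ I, CoalgebraStruct.counit (R := k) a = 0)
    (h2 : Kills I (push Algebra.TensorProduct.includeLeft (mkPt (k := k) I) *
      push Algebra.TensorProduct.includeRight (mkPt (k := k) I) : Pt k A ((A ⧸ I) ⊗[k] (A ⧸ I))))
    (h3 : Kills I (mkPt (k := k) I)⁻¹)
    (h4 : Kills I (push Algebra.TensorProduct.includeLeft (idPt k A) *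
      push Algebra.TensorProduct.includeRight (mkPt (k := k) I) *
      (push Algebra.TensorProduct.includeLeft (idPt k A))⁻¹ : Pt k A (A ⊗[k] (A ⧸ I)))) :
    IsNormalSub k A I where
  one R _ _ a ha := by rw [one_apply, h1 a ha, map_zero]
  mul {R} _ _ {g h} hg hh := by
    obtain ⟨φ, rfl⟩ := Kills.exists_push hg
    obtain ⟨ψ, rfl⟩ := Kills.exists_push hh
    have h := h2.push (Algebra.TensorProduct.lift φ ψ fun _ _ => .all ..)
    rw [map_mul] at h
    refine fun a ha => Eq.trans ?_ (h a ha)
    congr 3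
    all_goals
      refine WithConv.ext (AlgHom.ext fun x => ?_)
      simp
  inv {R} _ _ {g} hg := by
    obtain ⟨φ, rfl⟩ := Kills.exists_push hg
    rw [← map_inv]
    exact h3.push φ
  conj {R} _ _ g {h} hh := by
    obtain ⟨ψ, rfl⟩ := Kills.exists_push hh
    have h := h4.push (Algebra.TensorProduct.lift g.ofConv ψ fun _ _ => .all ..)
    rw [map_mul, map_mul, map_inv] at h
    refine fun a ha => Eq.trans ?_ (h a ha)
    congr 4
    all_goals
      refine WithConv.ext (AlgHom.ext fun x => ?_)
      simp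

theorem conv3_eq (f g h : A →ₐ[k] R) :
    Dyn.conv3 k A f g h = (toConv f * toConv g * toConv h).ofConv := by
  simp only [Dyn.conv3, AlgHom.convMul_def, ofConv_toConv]
  refine AlgHom.ext fun a => ?_
  simp only [AlgHom.comp_apply]
  congr 1
  generalize Bialgebra.comulAlgHom k A a = t
  induction t using TensorProduct.induction_on with
  | zero => simp
  | add x y hx hy => simp only [map_add, hx, hy]
  | tmul x y => simp

/-- A normal Hopf ideal gives a normal subgroup of points. -/
theorem IsNormalSub.ofHopf {I : Ideal A} [I.IsHopfIdeal k] (hI : SGA3.IsNormalHopfIdeal k A I) :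
    IsNormalSub k A I := by
  have h1 : ∀ a ∈ I, CoalgebraStruct.counit (R := k) a = 0 := fun a ha => by
    have : CoalgebraStruct.counit (R := k) (Ideal.Quotient.mkₐ k I a) = CoalgebraStruct.counit (R := k) a := rfl
    rw [← this, show Ideal.Quotient.mkₐ k I a = 0 from (Ideal.Quotient.eq_zero_iff_mem).2 ha, map_zero]
  refine .ofUniversal h1 (fun a ha => ?_) (fun a ha => ?_) (fun a ha => ?_)
  · have h : ∀ t : A ⊗[k] A,
        Algebra.TensorProduct.lift
          ((Algebra.TensorProduct.includeLeft : (A ⧸ I) →ₐ[k] (A ⧸ I) ⊗[k] (A ⧸ I)).comp (Ideal.Quotient.mkₐ k I))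
          ((Algebra.TensorProduct.includeRight : (A ⧸ I) →ₐ[k] (A ⧸ I) ⊗[k] (A ⧸ I)).comp (Ideal.Quotient.mkₐ k I))
          (fun _ _ => .all ..) t = Algebra.TensorProduct.map (Ideal.Quotient.mkₐ k I) (Ideal.Quotient.mkₐ k I) t := by
      intro t
      induction t using TensorProduct.induction_on with
      | zero => simp
      | add x y hx hy => simp only [map_add, hx, hy]
      | tmul x y => simp
    rw [mul_apply]
    refine (h _).trans ?_
    have e : Algebra.TensorProduct.map (Ideal.Quotient.mkₐ k I) (Ideal.Quotient.mkₐ k I)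
        (CoalgebraStruct.comul (R := k) a) = CoalgebraStruct.comul (R := k) (Ideal.Quotient.mkₐ k I a) := rfl
    rw [e, show Ideal.Quotient.mkₐ k I a = 0 from (Ideal.Quotient.eq_zero_iff_mem).2 ha, map_zero]
  · rw [inv_apply]
    exact (Ideal.Quotient.eq_zero_iff_mem).2 (Ideal.IsHopfIdeal.antipode_mem (R := k) ha)
  · have h := hI _ (push Algebra.TensorProduct.includeLeft (idPt k A)).ofConv
      (push (Algebra.TensorProduct.includeRight : (A ⧸ I) →ₐ[k] A ⊗[k] (A ⧸ I)) (mkPt (k := k) I)).ofConv
      (fun b hb => ((kills_mkPt (k := k) I).push _) b hb) a ha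
    rw [conv3_eq] at h
    exact h

/-- The sum of two normal subgroups' ideals. -/
theorem IsNormalSub.sup {I J : Ideal A} (hI : IsNormalSub k A I) (hJ : IsNormalSub k A J) :
    IsNormalSub k A (I ⊔ J) := by
  have key : ∀ {R : Type u} [CommRing R] [Algebra k R] (g : Pt k A R),
      Kills (I ⊔ J) g ↔ Kills I g ∧ Kills J g := by
    intro R _ _ g
    refine ⟨fun h => ⟨fun a ha => h a (Submodule.mem_sup_left ha), fun a ha => h a (Submodule.mem_sup_right ha)⟩,
      fun ⟨h1, h2⟩ a ha => ?_⟩
    obtain ⟨x, hx, y, hy, rfl⟩ := Submodule.mem_sup.1 ha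
    rw [map_add, h1 x hx, h2 y hy, add_zero]
  refine ⟨fun R _ _ => (key _).2 ⟨hI.one R, hJ.one R⟩, fun hg hh => ?_, fun hg => ?_, fun g _ hh => ?_⟩
  · exact (key _).2 ⟨hI.mul ((key _).1 hg).1 ((key _).1 hh).1, hJ.mul ((key _).1 hg).2 ((key _).1 hh).2⟩
  · exact (key _).2 ⟨hI.inv ((key _).1 hg).1, hJ.inv ((key _).1 hg).2⟩
  · exact (key _).2 ⟨hI.conj g ((key _).1 hh).1, hJ.conj g ((key _).1 hh).2⟩

end Groth.Agent.HopfQuot
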