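import Groth.Agent.HopfQuot.Invariants

/-!
# Restriction of points and normal subgroups to Hopf subalgebras
-/

set_option autoImplicit false

noncomputable section

open TensorProduct WithConv
open Groth.Agent.HopfLib

universe u

namespace Groth.Agent.HopfQuot

variable {k : Type u} [Field k] {A : Type u} [CommRing A] [HopfAlgebra k A]
  {C : Subalgebra k A}

/-- Restriction of points to a subalgebra. -/
abbrev resPt {S : Type u} [CommRing S] [Algebra k S] (g : Pt k A S) : WithConv (C →ₐ[k] S) :=
  toConv (g.ofConv.comp C.val)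

variable (hC : IsSubHopf k A C)

theorem resPt_mul {S : Type u} [CommRing S] [Algebra k S] (g h : Pt k A S) :
    letI := subHopf (B := C) hC
    resPt (C := C) (g * h) = resPt g * resPt h := by
  letI := subHopf (B := C) hC
  refine WithConv.ext (AlgHom.ext fun c => ?_)
  refine Eq.trans ?_ (mul_apply (k := k) (A := C) (resPt (C := C) g) (resPt (C := C) h) c).symm
  show (g * h).ofConv (c : A) = _
  rw [mul_apply g h, ← map_subComul hC c]
  show _ = Algebra.TensorProduct.lift _ _ _ (subComul hC c)
  generalize subComul hC c = t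
  induction t using TensorProduct.induction_on with
  | zero => simp
  | add p q hp hq => simp only [map_add, hp, hq]
  | tmul p q => simp

theorem resPt_inv {S : Type u} [CommRing S] [Algebra k S] (g : Pt k A S) :
    letI := subHopf (B := C) hC
    resPt (C := C) g⁻¹ = (resPt g)⁻¹ := by
  letI := subHopf (B := C) hC
  refine eq_inv_of_mul_eq_one_left ?_
  rw [← resPt_mul hC, inv_mul_cancel]
  exact WithConv.ext (AlgHom.ext fun c => rfl)

theorem map_injective {X X' Y Y' : Type u} [CommRing X] [Algebra k X] [CommRing X'] [Algebra k X'] [CommRing Y]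
    [Algebra k Y] [CommRing Y'] [Algebra k Y'] (f : X →ₐ[k] X') (h : Y →ₐ[k] Y') (hf : Function.Injective f)
    (hh : Function.Injective h) : Function.Injective (Algebra.TensorProduct.map f h) := by
  have : Function.Injective (TensorProduct.map f.toLinearMap h.toLinearMap) := by
    rw [← LinearMap.lTensor_comp_rTensor, LinearMap.coe_comp]
    exact (Module.Flat.lTensor_preserves_injective_linearMap _ hh).comp
      (Module.Flat.rTensor_preserves_injective_linearMap _ hf)
  exact this

/-- A normal subgroup restricts to a normal subgroup of the quotient group. -/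
theorem exists_restrict (I : Ideal A) [I.IsHopfIdeal k] (hI : IsNormalSub k A I) :
    letI := subHopf (B := C) hC
    ∃ J : Ideal C, J.IsHopfIdeal k ∧ IsNormalSub k C J ∧ ∀ c : C, c ∈ J ↔ (c : A) ∈ I := by
  letI := subHopf (B := C) hC
  let πC : C →ₐc[k] A ⧸ I := BialgHom.ofAlgHom ((Ideal.Quotient.mkₐ k I).comp C.val)
    (AlgHom.ext fun c => rfl) (AlgHom.ext fun c => by
      show Algebra.TensorProduct.map ((Ideal.Quotient.mkₐ k I).comp C.val) ((Ideal.Quotient.mkₐ k I).comp C.val)
        (subComul hC c) = CoalgebraStruct.comul (R := k) (Ideal.Quotient.mkₐ k I (c : A))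
      rw [Algebra.TensorProduct.map_comp, AlgHom.comp_apply, map_subComul hC c]
      rfl)
  let J : Ideal C := RingHom.ker (πC : C →+* A ⧸ I)
  haveI : J.IsHopfIdeal k := HopfLib.isHopfIdeal_ker πC
  let ι : (C ⧸ J) →ₐ[k] A ⧸ I := Ideal.Quotient.liftₐ J (πC : C →ₐ[k] A ⧸ I) fun _ h => h
  have hι : Function.Injective ι := by
    intro x y hxy
    obtain ⟨x, rfl⟩ := Ideal.Quotient.mk_surjective x
    obtain ⟨y, rfl⟩ := Ideal.Quotient.mk_surjective y
    refine Ideal.Quotient.eq.2 ?_
    show (πC : C →+* A ⧸ I) (x - y) = 0
    rw [map_sub, sub_eq_zero]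
    exact hxy
  have hιmk : push ι (mkPt (k := k) J) = resPt (mkPt (k := k) I) := WithConv.ext (AlgHom.ext fun c => rfl)
  have hres : ∀ {S : Type u} [CommRing S] [Algebra k S] {g : Pt k A S}, Kills I g → Kills J (resPt g) :=
    fun {S} _ _ {g} hg c hc => hg _ ((Ideal.Quotient.eq_zero_iff_mem).1 hc)
  have hJ : IsNormalSub k C J := by
    refine IsNormalSub.ofUniversal (fun c hc => ?_) ?_ ?_ ?_
    · show CoalgebraStruct.counit (R := k) (c : A) = 0
      have := hI.one k (c : A) ((Ideal.Quotient.eq_zero_iff_mem).1 hc)
      rwa [one_apply] at this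
    · intro c hc
      refine map_injective ι ι hι hι ?_
      have h := hres (hI.mul ((kills_mkPt (k := k) I).push (Algebra.TensorProduct.includeLeft (B := A ⧸ I)))
        ((kills_mkPt (k := k) I).push Algebra.TensorProduct.includeRight)) c hc
      rw [map_zero, ← push_apply, map_mul]
      rw [resPt_mul hC] at h
      refine Eq.trans ?_ h
      congr 3 <;> refine WithConv.ext (AlgHom.ext fun y => ?_) <;> simp [ι] <;> rfl
    · intro c hc
      refine hι ?_
      have h := hres (hI.inv (kills_mkPt (k := k) I)) c hc
      rw [map_zero, ← push_apply, map_inv, hιmk, ← resPt_inv hC]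
      exact h
    · intro c hc
      refine map_injective C.val ι Subtype.val_injective hι ?_
      have h := hres (hI.conj (push (Algebra.TensorProduct.includeLeft : A →ₐ[k] A ⊗[k] (A ⧸ I)) (idPt k A))
        ((kills_mkPt (k := k) I).push Algebra.TensorProduct.includeRight)) c hc
      rw [map_zero, ← push_apply, map_mul, map_mul, map_inv]
      rw [resPt_mul hC, resPt_mul hC, resPt_inv hC] at h
      refine Eq.trans ?_ h
      congr 4 <;> refine WithConv.ext (AlgHom.ext fun y => ?_) <;> simp [ι] <;> rfl
  exact ⟨J, inferInstance, hJ, fun c => Ideal.Quotient.eq_zero_iff_mem (I := I)⟩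

end Groth.Agent.HopfQuot
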