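import Groth.Agent.HopfQuot.FiniteSub
import Groth.Agent.HopfQuot.Restrict
import Groth.Agent.HopfLib.Cartier
import Mathlib.RingTheory.IntegralClosure.Algebra.Basic
import Mathlib.RingTheory.TensorProduct.Maps

/-!
# From reduced groups to all groups over algebraically closed fields
-/

set_option autoImplicit false

noncomputable section

open TensorProduct WithConv
open Groth.Agent.HopfLib

universe u

namespace Groth.Agent.HopfQuot

variable {k : Type u} [Field k] {A : Type u} [CommRing A] [HopfAlgebra k A]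
  {R : Type u} [CommRing R] [Algebra k R]

/-- The subgroup cut out by a Hopf subalgebra's augmentation ideal, when the latter is invariant. -/
theorem isNormalSub_augIdealSpan {C : Subalgebra k A} (hC : SGA3.IsHopfSubalgebra k A C) :
    IsNormalSub k A (SGA3.augIdealSpan k A C) := by
  have key : ∀ {R : Type u} [CommRing R] [Algebra k R] (g h : Pt k A R),
      (∀ b ∈ C, h.ofConv b = algebraMap k R (CoalgebraStruct.counit (R := k) b)) → ∀ b ∈ C,
        (g * h).ofConv b = g.ofConv b := fun g h hh b hb => by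
    rw [mul_apply_congr hC (g' := g) (h' := 1) (fun _ _ => rfl)
      (fun b hb => (hh b hb).trans (one_apply b).symm) hb, _root_.mul_one]
  refine ⟨fun R _ _ => kills_augIdealSpan_iff.2 fun b _ => one_apply b, fun {R} _ _ g h hg hh => ?_,
    fun {R} _ _ g hg => ?_, fun {R} _ _ g {h} hh => ?_⟩
  · exact kills_augIdealSpan_iff.2 fun b hb =>
      (key g h (kills_augIdealSpan_iff.1 hh) b hb).trans (kills_augIdealSpan_iff.1 hg b hb)
  · refine kills_augIdealSpan_iff.2 fun b hb => ?_
    rw [← key g⁻¹ g (kills_augIdealSpan_iff.1 hg) b hb, inv_mul_cancel, one_apply]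
  · refine kills_augIdealSpan_iff.2 fun b hb => ?_
    rw [mul_apply_congr hC (g' := g) (h' := g⁻¹) (key g h (kills_augIdealSpan_iff.1 hh)) (fun _ _ => rfl) hb,
      mul_inv_cancel, one_apply]

/-- Elements of the ring equalised in the tensor square of a faithfully flat extension are in the subring. -/
theorem mem_of_tmul_one_eq {E : Type u} [CommRing E] [Algebra k E] (C : Subalgebra k E)
    [Module.FaithfullyFlat C E] {x : E} (h : x ⊗ₜ[C] (1 : E) = (1 : E) ⊗ₜ[C] x) : x ∈ C := by
  have h0 := congrArg (LinearMap.lTensor E (Submodule.mkQ (LinearMap.range (Algebra.linearMap C E)))) h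
  simp only [LinearMap.lTensor_tmul] at h0
  rw [show Submodule.mkQ (LinearMap.range (Algebra.linearMap C E)) (1 : E) = 0 from
    (Submodule.Quotient.mk_eq_zero _).2 ⟨1, by simp⟩, TensorProduct.tmul_zero] at h0
  have h1 := Module.FaithfullyFlat.tensorProduct_mk_injective (A := C) (B := E)
    (E ⧸ LinearMap.range (Algebra.linearMap C E)) (h0.symm.trans (TensorProduct.tmul_zero _ 1).symm)
  obtain ⟨b, hb⟩ := (Submodule.Quotient.mk_eq_zero _).1 h1
  exact hb ▸ b.2

/-- The image of a Hopf subalgebra in the quotient by a Hopf ideal. -/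
theorem isSubHopf_image {I : Ideal A} [I.IsHopfIdeal k] {C : Subalgebra k A}
    (hC : SGA3.IsHopfSubalgebra k A C) : IsSubHopf k (A ⧸ I) (C.map (Ideal.Quotient.mkₐ k I)) := by
  refine ⟨?_, ?_⟩
  · rintro _ ⟨c, hc, rfl⟩
    obtain ⟨t, ht⟩ := hC.1 c hc
    have e : CoalgebraStruct.comul (R := k) (Ideal.Quotient.mkₐ k I c) =
        TensorProduct.map (Ideal.Quotient.mkₐ k I).toLinearMap (Ideal.Quotient.mkₐ k I).toLinearMap
          (CoalgebraStruct.comul (R := k) c) := rfl
    show CoalgebraStruct.comul (R := k) (Ideal.Quotient.mkₐ k I c) ∈ _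
    rw [e, ← ht]
    clear ht e
    induction t using TensorProduct.induction_on with
    | zero => simp
    | add p q hp hq => simp only [map_add]; exact add_mem hp hq
    | tmul p q =>
      exact ⟨(⟨_, p, p.2, rfl⟩ : C.map (Ideal.Quotient.mkₐ k I)) ⊗ₜ (⟨_, q, q.2, rfl⟩ : C.map (Ideal.Quotient.mkₐ k I)),
        rfl⟩
  · rintro _ ⟨c, hc, rfl⟩
    exact ⟨_, hC.2 c hc, rfl⟩

variable [IsAlgClosed k] [Algebra.FiniteType k A]

theorem gen_of_finite_over_reduced {I : Ideal A} [I.IsHopfIdeal k] (hI : IsNormalSub k A I) (C : Subalgebra k A)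
    (hC : SGA3.IsHopfSubalgebra k A C) [Module.Finite C A] [IsReduced C] (hfg : C.FG) : Gen k I := by
  classical
  letI := subHopf (B := C) hC
  haveI : Algebra.FiniteType k C := (Subalgebra.fg_iff_finiteType C).1 hfg
  let res {S : Type u} [CommRing S] [Algebra k S] (g : Pt k A S) : Pt k C S := resPt g
  have res_mul : ∀ {S : Type u} [CommRing S] [Algebra k S] (g h : Pt k A S), res (g * h) = res g * res h :=
    fun g h => resPt_mul hC g h
  obtain ⟨J, hJH, hJ, hJmem⟩ := exists_restrict hC I hI
  have hres : ∀ {S : Type u} [CommRing S] [Algebra k S] {g : Pt k A S}, Kills I g → Kills J (res g) :=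
    fun {S} _ _ {g} hg c hc => hg _ ((hJmem c).1 hc)
  have hGenJ : Gen k J := gen_of_isAlgClosed hJ
  -- invariants coming from `C`
  let B' : Subalgebra k A := (invAlg k J).map C.val
  have hB'I : B' ≤ invAlg k I := by
    rintro _ ⟨c, hc, rfl⟩
    refine mem_invAlg_of_forall fun S _ _ g n hn => ?_
    have h := mul_apply_of_mem_invAlg hc (res g) (hres hn)
    rw [← res_mul] at h
    exact h
  have hB' : SGA3.IsHopfSubalgebra k A B' := by
    obtain ⟨hc1, hc2⟩ := isHopfSubalgebra_invAlg hJ
    refine ⟨?_, ?_⟩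
    · rintro _ ⟨c, hc, rfl⟩
      obtain ⟨t, ht⟩ := hc1 c hc
      show CoalgebraStruct.comul (R := k) (c : A) ∈ _
      rw [← map_subComul hC c, show subComul hC c = CoalgebraStruct.comul (R := k) c from rfl, ← ht]
      clear ht
      induction t using TensorProduct.induction_on with
      | zero => simp
      | add p q hp hq => simp only [map_add]; exact add_mem hp hq
      | tmul p q => exact ⟨(⟨_, p.1, p.2, rfl⟩ : B') ⊗ₜ (⟨_, q.1, q.2, rfl⟩ : B'), rfl⟩
    · rintro _ ⟨c, hc, rfl⟩
      exact ⟨_, hc2 c hc, rfl⟩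
  -- finite subgroup `M`
  let M : Ideal A := I ⊔ SGA3.augIdealSpan k A C
  have hM : IsNormalSub k A M := hI.sup (isNormalSub_augIdealSpan hC)
  haveI : Module.Finite k (A ⧸ M) := by
    obtain ⟨s, hs⟩ := Module.Finite.fg_top (R := C) (M := A)
    refine ⟨⟨s.image (Ideal.Quotient.mk M), eq_top_iff.2 fun x hx0 => ?_⟩⟩
    clear hx0
    obtain ⟨x, rfl⟩ := Ideal.Quotient.mk_surjective x
    have hx : x ∈ Submodule.span C (s : Set A) := hs ▸ Submodule.mem_top
    induction hx using Submodule.span_induction with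
    | mem y hy => exact Submodule.subset_span (by simp only [Finset.coe_image]; exact ⟨y, hy, rfl⟩)
    | zero => simp
    | add p q _ _ hp hq => rw [map_add]; exact add_mem hp hq
    | smul c p _ hp =>
      have hc := kills_augIdealSpan_iff.1
        (fun a ha => kills_mkPt (k := k) M a (Submodule.mem_sup_right ha)) (c : A) c.2
      rw [Subalgebra.smul_def, smul_eq_mul, map_mul,
        show Ideal.Quotient.mk M (c : A) = algebraMap k _ (CoalgebraStruct.counit (R := k) (c : A)) from hc,
        ← Algebra.smul_def]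
      exact Submodule.smul_mem _ _ hp
  have hGenM : Gen k M := gen_of_finite hM
  -- points of `N` agreeing on `C` agree on the invariants of `M`
  have hagree : ∀ {S : Type u} [CommRing S] [Algebra k S] (n₁ n₂ : Pt k A S), Kills I n₁ → Kills I n₂ →
      (∀ c ∈ C, n₁.ofConv c = n₂.ofConv c) → ∀ b ∈ invAlg k M, n₁.ofConv b = n₂.ofConv b := by
    intro S _ _ n₁ n₂ h₁ h₂ h b hb
    have hk : Kills M (n₁⁻¹ * n₂) := by
      intro a ha
      obtain ⟨x, hx, y, hy, rfl⟩ := Submodule.mem_sup.1 ha
      rw [map_add, hI.mul (hI.inv h₁) h₂ x hx,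
        kills_augIdealSpan_iff.2 (fun c hc => inv_mul_apply_of_agree hC h hc) y hy, add_zero]
    have := mul_apply_of_mem_invAlg hb n₁ hk
    rw [mul_inv_cancel_left] at this
    exact this.symm
  -- the retraction onto the image of `C`
  let Cb : Subalgebra k (A ⧸ I) := C.map (Ideal.Quotient.mkₐ k I)
  haveI : Module.FaithfullyFlat Cb (A ⧸ I) := faithfullyFlat_isSubHopf (isSubHopf_image hC)
  have hr : ∀ b ∈ invAlg k M, Ideal.Quotient.mkₐ k I b ∈ Cb := by
    intro b hb
    refine mem_of_tmul_one_eq Cb ?_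
    let L : (A ⧸ I) →ₐ[k] (A ⧸ I) ⊗[Cb] (A ⧸ I) := Algebra.TensorProduct.includeLeft
    let Rr : (A ⧸ I) →ₐ[k] (A ⧸ I) ⊗[Cb] (A ⧸ I) :=
      (Algebra.TensorProduct.includeRight : (A ⧸ I) →ₐ[Cb] _).restrictScalars k
    exact hagree (push L (mkPt (k := k) I)) (push Rr (mkPt (k := k) I)) ((kills_mkPt I).push _)
      ((kills_mkPt I).push _) (fun c hc =>
        ((Algebra.TensorProduct.includeRight : (A ⧸ I) →ₐ[Cb] (A ⧸ I) ⊗[Cb] (A ⧸ I)).commutes
          ⟨_, c, hc, rfl⟩).symm) b hb
  -- lifting points of `Spec C` killing `J` to `N`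
  have hlift : ∀ {S : Type u} [CommRing S] [Algebra k S] (g : Pt k A S), Kills J (res g) →
      ∃ (S' : Type u) (_ : CommRing S') (_ : Algebra k S') (φ : S →ₐ[k] S') (n : Pt k A S'),
        Function.Injective φ ∧ Kills I n ∧ ∀ c ∈ C, n.ofConv c = φ (g.ofConv c) := by
    intro S _ _ g hg
    let q : C →ₐ[k] Cb := ((Ideal.Quotient.mkₐ k I).comp C.val).codRestrict Cb fun c => ⟨c, c.2, rfl⟩
    have hq : Function.Surjective q := by rintro ⟨_, c, hc, rfl⟩; exact ⟨⟨c, hc⟩, rfl⟩
    let ψ : Cb →ₐ[k] S := AlgHom.liftOfSurjective q hq (g.ofConv.comp C.val) fun c hc =>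
      hg c ((hJmem c).2 ((Ideal.Quotient.eq_zero_iff_mem (I := I)).1 (congrArg Subtype.val hc)))
    letI : Algebra Cb S := ψ.toRingHom.toAlgebra
    haveI : IsScalarTower k Cb S := IsScalarTower.of_algebraMap_eq fun c => (ψ.commutes c).symm
    let φ : S →ₐ[k] S ⊗[Cb] (A ⧸ I) := Algebra.TensorProduct.includeLeft
    let Rr : (A ⧸ I) →ₐ[k] S ⊗[Cb] (A ⧸ I) :=
      (Algebra.TensorProduct.includeRight : (A ⧸ I) →ₐ[Cb] _).restrictScalars k
    refine ⟨_, _, _, φ, push Rr (mkPt (k := k) I), ?_, (kills_mkPt I).push _, fun c hc => ?_⟩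
    · intro x y hxy
      exact Module.FaithfullyFlat.tensorProduct_mk_injective (A := Cb) (B := A ⧸ I) S
        ((TensorProduct.comm Cb (A ⧸ I) S).injective (by simpa [φ] using hxy))
    · show (1 : S) ⊗ₜ[Cb] (Ideal.Quotient.mkₐ k I c) = g.ofConv c ⊗ₜ[Cb] (1 : A ⧸ I)
      have e : g.ofConv c = algebraMap Cb S (q ⟨c, hc⟩) :=
        (AlgHom.liftOfSurjective_apply q hq (g.ofConv.comp C.val) _ ⟨c, hc⟩).symm
      rw [e, ← Algebra.TensorProduct.algebraMap_apply, Algebra.TensorProduct.algebraMap_apply']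
      rfl
  -- linear lift of the retraction
  let πl : C →ₗ[k] Cb :=
    (((Ideal.Quotient.mkₐ k I).comp C.val).codRestrict Cb fun c => ⟨c, c.2, rfl⟩).toLinearMap
  have hπl : LinearMap.range πl = ⊤ := LinearMap.range_eq_top.2 (by rintro ⟨_, c, hc, rfl⟩; exact ⟨⟨c, hc⟩, rfl⟩)
  obtain ⟨sect, hsect⟩ := πl.exists_rightInverse_of_surjective hπl
  let r : invAlg k M →ₗ[k] C := sect ∘ₗ
    LinearMap.codRestrict (Subalgebra.toSubmodule Cb)
      ((Ideal.Quotient.mkₐ k I).toLinearMap ∘ₗ (invAlg k M).val.toLinearMap) fun b => hr b b.2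
  have hrb : ∀ b : invAlg k M, Ideal.Quotient.mkₐ k I (r b : A) = Ideal.Quotient.mkₐ k I (b : A) := fun b =>
    congrArg Subtype.val (LinearMap.congr_fun hsect _)
  intro S _ _ g hg
  have hgB' : Kills (SGA3.augIdealSpan k A B') g :=
    kills_augIdealSpan_iff.2 fun b hb => hg b (hB'I hb)
  have hJg : ∀ {T : Type u} [CommRing T] [Algebra k T] {h : Pt k A T}, Kills (SGA3.augIdealSpan k A B') h →
      Kills J (res h) := fun {T} _ _ {h} hh =>
    hGenJ T (res h) fun c hc => kills_augIdealSpan_iff.1 hh _ ⟨c, hc, rfl⟩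
  obtain ⟨S', _, _, φ, n', hφ, hn', hn'g⟩ := hlift g (hJg hgB')
  have hmain : Kills M (push φ g * n'⁻¹) := by
    refine hGenM S' _ fun b hb => ?_
    obtain ⟨t, ht⟩ := (isHopfSubalgebra_invAlg hM).1 b hb
    let f : A := LinearMap.mul' k A (TensorProduct.map (invAlg k M).val.toLinearMap
      (HopfAlgebraStruct.antipode k (A := A) ∘ₗ C.val.toLinearMap ∘ₗ r) t)
    have hval : ∀ {T : Type u} [CommRing T] [Algebra k T] (h n : Pt k A T), Kills I n →
        (∀ c ∈ C, n.ofConv c = h.ofConv c) → h.ofConv f = (h * n⁻¹).ofConv b := by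
      intro T _ _ h n hn hnc
      rw [mul_apply, ← ht]
      simp only [f]
      clear ht f
      induction t using TensorProduct.induction_on with
      | zero => simp
      | add p q hp hq => simp only [map_add, hp, hq]
      | tmul p q =>
        simp only [TensorProduct.map_tmul, LinearMap.mul'_apply, AlgHom.toLinearMap_apply, map_mul,
          Algebra.TensorProduct.lift_tmul, LinearMap.comp_apply]
        congr 1
        rw [inv_apply]
        have h1 : n.ofConv (HopfAlgebraStruct.antipode k (A := A) (r q : A)) =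
            h.ofConv (HopfAlgebraStruct.antipode k (A := A) (r q : A)) := hnc _ (hC.2 _ (r q).2)
        have h2 : ∀ x y : A, Ideal.Quotient.mkₐ k I x = Ideal.Quotient.mkₐ k I y → n⁻¹.ofConv x = n⁻¹.ofConv y :=
          fun x y hxy => by
            rw [← sub_eq_zero, ← map_sub]
            exact hI.inv hn _ ((Ideal.Quotient.eq).1 hxy)
        exact h1.symm.trans (h2 _ _ (hrb q))
    have hinv : ∀ (T : Type u) [CommRing T] [Algebra k T] (h n : Pt k A T),
        Kills (SGA3.augIdealSpan k A B') h → Kills I n → (h * n).ofConv f = h.ofConv f := by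
      intro T _ _ h n hh hn
      obtain ⟨T', _, _, χ, m, hχ, hm, hmh⟩ := hlift h (hJg hh)
      refine hχ ?_
      rw [← push_apply χ (h * n), ← push_apply χ h, map_mul,
        hval (push χ h * push χ n) (m * push χ n) (hI.mul hm (hn.push χ))
          (fun c hc => mul_apply_congr hC hmh (fun _ _ => rfl) hc), hval (push χ h) m hm hmh,
        _root_.mul_inv_rev, mul_assoc, mul_inv_cancel_left]
    obtain ⟨b', hb', hbf⟩ := exists_mem_invAlg_lift hB' hB'I f hinv
    have h1 := (sub_eq_zero.1 ((map_sub g.ofConv b' f).symm.trans (hgB' _ hbf)))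
    rw [hg b' hb'] at h1
    have h2 := (sub_eq_zero.1 ((map_sub (1 : Pt k A k).ofConv b' f).symm.trans
      ((isNormalSub_augIdealSpan hB').one k _ hbf)))
    rw [hval 1 1 (hI.one k) (fun _ _ => rfl), _root_.inv_one, _root_.mul_one, one_apply, one_apply] at h2
    rw [← hval (push φ g) n' hn' hn'g, push_apply, ← h1, AlgHom.commutes]
    simp only [Algebra.algebraMap_self, RingHom.id_apply] at h2
    rw [h2]
  intro a ha
  refine hφ ?_
  have hk : Kills I (push φ g) := by
    have := hI.mul (fun a ha => hmain a (Submodule.mem_sup_left ha)) hn'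
    rwa [inv_mul_cancel_right] at this
  rw [map_zero]
  exact hk a ha

/-- Over an algebraically closed field every normal subgroup is the kernel on its invariants. -/
theorem gen_of_isAlgClosed_finiteType {I : Ideal A} [I.IsHopfIdeal k] (hI : IsNormalSub k A I) : Gen k I := by
  classical
  obtain ⟨p, hp⟩ := CharP.exists k
  rcases (CharP.char_is_prime_or_zero k p).symm with rfl | hprime
  · haveI := CharP.charP_to_charZero k
    haveI : IsReduced A := isReduced_of_charZero_isAlgClosed (k := k)
    exact gen_of_isAlgClosed hI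
  · haveI := Fact.mk hprime
    haveI : Nontrivial A := RingHom.domain_nontrivial (Bialgebra.counitAlgHom k A).toRingHom
    haveI : ExpChar k p := ExpChar.prime hprime
    haveI : ExpChar A p := expChar_of_injective_algebraMap (RingHom.injective (algebraMap k A)) p
    haveI : Nontrivial (A ⊗[k] A) := RingHom.domain_nontrivial
      (Algebra.TensorProduct.lift (Bialgebra.counitAlgHom k A) (Bialgebra.counitAlgHom k A)
        fun _ _ => Commute.all _ _).toRingHom
    haveI : ExpChar (A ⊗[k] A) p := expChar_of_injective_algebraMap (RingHom.injective (algebraMap k (A ⊗[k] A))) p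
    haveI : IsNoetherianRing A := Algebra.FiniteType.isNoetherianRing k A
    obtain ⟨m, hm⟩ := IsNoetherianRing.isNilpotent_nilradical A
    let q := p ^ m
    have hqm : m ≤ q := (Nat.lt_pow_self hprime.one_lt).le
    have hq0 : 0 < q := pow_pos hprime.pos _
    have hnil : ∀ x : A, IsNilpotent x → x ^ q = 0 := fun x hx => by
      have : x ^ m ∈ nilradical A ^ m := Ideal.pow_mem_pow (mem_nilradical.2 hx) m
      rw [hm] at this
      rw [← Nat.add_sub_cancel' hqm, pow_add, show x ^ m = 0 from this, zero_mul]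
    let C : Subalgebra k A :=
      { carrier := Set.range fun x : A => x ^ q
        mul_mem' := by rintro _ _ ⟨x, rfl⟩ ⟨y, rfl⟩; exact ⟨x * y, mul_pow x y q⟩
        one_mem' := ⟨1, one_pow q⟩
        add_mem' := by rintro _ _ ⟨x, rfl⟩ ⟨y, rfl⟩; exact ⟨x + y, add_pow_expChar_pow x y p m⟩
        zero_mem' := ⟨0, zero_pow hq0.ne'⟩
        algebraMap_mem' := fun c => by
          obtain ⟨d, rfl⟩ := IsAlgClosed.exists_pow_nat_eq c hq0
          exact ⟨algebraMap k A d, (map_pow _ _ _).symm⟩ }
    have hC : SGA3.IsHopfSubalgebra k A C := by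
      refine ⟨?_, ?_⟩
      · rintro _ ⟨x, rfl⟩
        rw [Bialgebra.comul_pow]
        generalize CoalgebraStruct.comul (R := k) x = t
        induction t using TensorProduct.induction_on with
        | zero => rw [zero_pow hq0.ne']; exact zero_mem _
        | add u v hu hv => rw [add_pow_expChar_pow u v p m]; exact add_mem hu hv
        | tmul u v =>
          rw [Algebra.TensorProduct.tmul_pow]
          exact ⟨(⟨_, u, rfl⟩ : C) ⊗ₜ (⟨_, v, rfl⟩ : C), rfl⟩
      · rintro _ ⟨x, rfl⟩
        exact ⟨HopfAlgebraStruct.antipode k (A := A) x, (map_pow (HopfAlgebra.antipodeAlgHom k A) x q).symm⟩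
    haveI : IsReduced C := ⟨fun c hc => by
      obtain ⟨x, hx⟩ := c.2
      refine Subtype.ext ?_
      obtain ⟨n, hn⟩ := hc
      have hx0 : IsNilpotent x := ⟨q * n, by rw [pow_mul, show x ^ q = (c : A) from hx, ← SubmonoidClass.coe_pow, hn]; rfl⟩
      rw [← hx]
      exact hnil x hx0⟩
    obtain ⟨s, hs⟩ := Algebra.FiniteType.out (R := k) (A := A)
    have hfg : C.FG := by
      refine ⟨s.image (· ^ q), le_antisymm (Algebra.adjoin_le ?_) ?_⟩
      · intro y hy
        obtain ⟨x, -, rfl⟩ := Finset.mem_image.1 hy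
        exact ⟨x, rfl⟩
      · rintro _ ⟨x, rfl⟩
        show x ^ q ∈ _
        have hx : x ∈ Algebra.adjoin k (s : Set A) := hs ▸ Algebra.mem_top
        induction hx using Algebra.adjoin_induction with
        | mem y hy => exact Algebra.subset_adjoin (Finset.mem_image.2 ⟨y, hy, rfl⟩)
        | algebraMap c => rw [← map_pow]; exact Subalgebra.algebraMap_mem _ _
        | add u v _ _ hu hv => rw [add_pow_expChar_pow u v p m]; exact add_mem hu hv
        | mul u v _ _ hu hv => rw [mul_pow]; exact mul_mem hu hv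
    haveI : Algebra.IsIntegral C A := ⟨fun x => IsIntegral.of_pow hq0
      (isIntegral_algebraMap (x := (⟨x ^ q, x, rfl⟩ : C)))⟩
    haveI : Algebra.FiniteType C A := Algebra.FiniteType.of_restrictScalars_finiteType k C A
    haveI : Module.Finite C A := Algebra.IsIntegral.finite
    exact gen_of_finite_over_reduced hI C hC hfg

end Groth.Agent.HopfQuot
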