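import Groth.Agent.HopfQuot.Infinitesimal
import Groth.Agent.HopfLib.FgSubHopf
import Mathlib.RingTheory.HopfAlgebra.TensorProduct
import Mathlib.RingTheory.Flat.Basic
import Mathlib.FieldTheory.IsAlgClosed.AlgebraicClosure

/-!
# Normal subgroups of affine groups are kernels
-/

set_option autoImplicit false

noncomputable section

open TensorProduct WithConv
open Groth.Agent.HopfLib

universe u

namespace Groth.Agent.HopfQuot

variable {k : Type u} [Field k] {A : Type u} [CommRing A] [HopfAlgebra k A]

section BaseChange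

variable {K : Type u} [Field K] [Algebra k K] {R : Type u} [CommRing R] [Algebra k R] [Algebra K R]
  [IsScalarTower k K R]

/-- Points of the base change as points. -/
def resBC (g : Pt K (K ⊗[k] A) R) : Pt k A R :=
  toConv ((g.ofConv.restrictScalars k).comp Algebra.TensorProduct.includeRight)

theorem resBC_apply (g : Pt K (K ⊗[k] A) R) (a : A) : (resBC g).ofConv a = g.ofConv (1 ⊗ₜ a) := rfl

theorem resBC_mul (g h : Pt K (K ⊗[k] A) R) : resBC (g * h) = resBC g * resBC h := by
  refine WithConv.ext (AlgHom.ext fun a => ?_)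
  rw [resBC_apply, mul_apply g h, mul_apply (resBC g) (resBC h), TensorProduct.comul_tmul]
  have e : CoalgebraStruct.comul (R := K) (1 : K) = (1 : K) ⊗ₜ[K] (1 : K) := rfl
  rw [e]
  generalize CoalgebraStruct.comul (R := k) a = t
  induction t using TensorProduct.induction_on with
  | zero => simp
  | add p q hp hq => simp only [TensorProduct.tmul_add, map_add, hp, hq]
  | tmul p q => simp [resBC]

theorem resBC_one : resBC (1 : Pt K (K ⊗[k] A) R) = 1 := by
  refine WithConv.ext (AlgHom.ext fun a => ?_)
  rw [resBC_apply, one_apply, one_apply, TensorProduct.counit_tmul]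
  have e : CoalgebraStruct.counit (R := K) (1 : K) = (1 : K) := rfl
  rw [e, ← Algebra.algebraMap_eq_smul_one, ← IsScalarTower.algebraMap_apply]

theorem resBC_inv (g : Pt K (K ⊗[k] A) R) : resBC g⁻¹ = (resBC g)⁻¹ :=
  eq_inv_of_mul_eq_one_left (by rw [← resBC_mul, inv_mul_cancel, resBC_one])

theorem resBC_ext {g h : Pt K (K ⊗[k] A) R} (e : resBC g = resBC h) : g = h :=
  WithConv.ext (Algebra.TensorProduct.ext (Subsingleton.elim _ _)
    (AlgHom.ext fun a => congrArg (fun p : Pt k A R => p.ofConv a) e))

end BaseChange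

theorem gen_of_finiteType [Algebra.FiniteType k A] {I : Ideal A} [I.IsHopfIdeal k] (hI : IsNormalSub k A I) :
    Gen k I := by
  classical
  let K := AlgebraicClosure k
  let πb : K ⊗[k] A →ₐc[K] K ⊗[k] (A ⧸ I) :=
    Bialgebra.TensorProduct.map (BialgHom.id K K) (Bialgebra.Quotient.mkBialgHom (R := k) I)
  let I' : Ideal (K ⊗[k] A) := RingHom.ker (πb : K ⊗[k] A →+* K ⊗[k] (A ⧸ I))
  haveI : I'.IsHopfIdeal K := HopfLib.isHopfIdeal_ker πb
  have hmap : ∀ z, πb z = Algebra.TensorProduct.map (AlgHom.id K K) (Ideal.Quotient.mkₐ k I) z := by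
    intro z
    induction z using TensorProduct.induction_on with
    | zero => simp
    | add p q hp hq => simp only [map_add, hp, hq]
    | tmul p q => rfl
  have hkills : ∀ {S : Type u} [CommRing S] [Algebra k S] [Algebra K S] [IsScalarTower k K S]
      (g : Pt K (K ⊗[k] A) S), Kills I' g ↔ Kills I (resBC g) := by
    intro S _ _ _ _ g
    refine ⟨fun h a ha => h _ ?_, fun h z hz => ?_⟩
    · show πb ((1 : K) ⊗ₜ a) = 0
      rw [hmap, Algebra.TensorProduct.map_tmul, show Ideal.Quotient.mkₐ k I a = 0 from
        (Ideal.Quotient.eq_zero_iff_mem).2 ha, TensorProduct.tmul_zero]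
    · obtain ⟨φ, hφ⟩ := h.exists_push
      have e : g.ofConv = (Algebra.TensorProduct.lift (Algebra.ofId K S) φ fun _ _ => .all ..).comp
          (Algebra.TensorProduct.map (AlgHom.id K K) (Ideal.Quotient.mkₐ k I)) := by
        refine Algebra.TensorProduct.ext (Subsingleton.elim _ _) (AlgHom.ext fun a => ?_)
        have := congrArg (fun p : Pt k A S => p.ofConv a) hφ
        simp only [push_apply, resBC_apply, ofConv_toConv] at this
        simpa using this.symm
      rw [e, AlgHom.comp_apply, ← hmap, show πb z = 0 from hz, map_zero]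
  have hI' : IsNormalSub K (K ⊗[k] A) I' := by
    refine ⟨fun S _ _ => ?_, fun {S} _ _ g h hg hh => ?_, fun {S} _ _ g hg => ?_, fun {S} _ _ g {h} hh => ?_⟩
    all_goals
      letI : Algebra k S := ((algebraMap K S).comp (algebraMap k K)).toAlgebra
      haveI : IsScalarTower k K S := IsScalarTower.of_algebraMap_eq fun _ => rfl
      rw [hkills]
    · rw [resBC_one]; exact hI.one S
    · rw [resBC_mul]; exact hI.mul ((hkills g).1 hg) ((hkills h).1 hh)
    · rw [resBC_inv]; exact hI.inv ((hkills g).1 hg)
    · rw [resBC_mul, resBC_mul, resBC_inv]; exact hI.conj _ ((hkills h).1 hh)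
  have hgen := gen_of_isAlgClosed_finiteType hI'
  intro R _ _ g hg a ha
  let g' : Pt K (K ⊗[k] A) (K ⊗[k] R) := toConv (Algebra.TensorProduct.map (AlgHom.id K K) g.ofConv)
  have key : Kills I' g' := by
    refine hgen _ g' fun z hz => ?_
    let φ : A →ₗ[k] A ⊗[k] (A ⧸ I) :=
      (shift k I).toLinearMap - (Algebra.TensorProduct.includeLeft : A →ₐ[k] A ⊗[k] (A ⧸ I)).toLinearMap
    have hker : LinearMap.range (Subalgebra.toSubmodule (invAlg k I)).subtype = LinearMap.ker φ := by
      ext v
      rw [Submodule.range_subtype, LinearMap.mem_ker, Subalgebra.mem_toSubmodule, mem_invAlg]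
      simp [φ, sub_eq_zero]
    have hz0 : φ.lTensor K z = 0 := by
      let g₁ : Pt K (K ⊗[k] A) (K ⊗[k] (A ⊗[k] (A ⧸ I))) :=
        toConv (Algebra.TensorProduct.map (AlgHom.id K K) Algebra.TensorProduct.includeLeft)
      let n : Pt K (K ⊗[k] A) (K ⊗[k] (A ⊗[k] (A ⧸ I))) :=
        toConv (Algebra.TensorProduct.map (AlgHom.id K K)
          (Algebra.TensorProduct.includeRight.comp (Ideal.Quotient.mkₐ k I)))
      have hn : Kills I' n := (hkills n).2 fun b hb => by
        simp [resBC_apply, n, (Ideal.Quotient.eq_zero_iff_mem).2 hb]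
      have h := mul_apply_of_mem_invAlg hz g₁ hn
      have e : g₁ * n = toConv (Algebra.TensorProduct.map (AlgHom.id K K) (shift k I)) := by
        refine resBC_ext ?_
        rw [resBC_mul]
        let j : A ⊗[k] (A ⧸ I) →ₐ[k] K ⊗[k] (A ⊗[k] (A ⧸ I)) := Algebra.TensorProduct.includeRight
        have e1 : resBC g₁ = push j (push Algebra.TensorProduct.includeLeft (idPt k A)) :=
          WithConv.ext (AlgHom.ext fun b => by simp [resBC_apply, g₁, j])
        have e2 : resBC n = push j (push Algebra.TensorProduct.includeRight (mkPt (k := k) I)) :=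
          WithConv.ext (AlgHom.ext fun b => by simp [resBC_apply, n, j])
        rw [e1, e2, ← map_mul]
        exact WithConv.ext (AlgHom.ext fun b => rfl)
      rw [e] at h
      have e3 : ∀ w : K ⊗[k] A, φ.lTensor K w = Algebra.TensorProduct.map (AlgHom.id K K) (shift k I) w -
          Algebra.TensorProduct.map (AlgHom.id K K)
            (Algebra.TensorProduct.includeLeft : A →ₐ[k] A ⊗[k] (A ⧸ I)) w := by
        intro w
        induction w using TensorProduct.induction_on with
        | zero => simp
        | add p q hp hq => simp only [map_add, hp, hq]; abel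
        | tmul p q => simp [φ, TensorProduct.tmul_sub]
      rw [e3, sub_eq_zero]
      exact h
    obtain ⟨w, rfl⟩ := (Module.Flat.lTensor_exact K (LinearMap.exact_iff.2 hker.symm) z).1 hz0
    clear hz hz0
    induction w using TensorProduct.induction_on with
    | zero => simp
    | add p q hp hq => simp only [map_add, hp, hq]
    | tmul c b =>
      have hb : g.ofConv (b : A) = algebraMap k R (CoalgebraStruct.counit (R := k) (b : A)) := hg b b.2
      simp only [LinearMap.lTensor_tmul, Submodule.subtype_apply, g', ofConv_toConv,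
        Algebra.TensorProduct.map_tmul, AlgHom.id_apply, hb, TensorProduct.counit_tmul]
      rw [show CoalgebraStruct.counit (R := K) c = c from rfl, Algebra.algebraMap_eq_smul_one,
        TensorProduct.tmul_smul, Algebra.TensorProduct.algebraMap_apply, Algebra.algebraMap_self, RingHom.id_apply,
        TensorProduct.smul_tmul']
  have h := (hkills g').1 key a ha
  rw [resBC_apply] at h
  refine (Algebra.TensorProduct.includeRight_injective (A := K) (algebraMap k K).injective) ?_
  rw [map_zero]
  simpa [g'] using h

/-- **Every normal subgroup of an affine group over a field is the kernel of the map to the spectrum of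
its invariants.** -/
theorem gen_of_normal {I : Ideal A} [I.IsHopfIdeal k] (hI : IsNormalSub k A I) : Gen k I := by
  classical
  intro R _ _ g hg a ha
  obtain ⟨C, haC, hfg, hC⟩ := exists_fg_isSubHopf (k := k) ({a} : Set A) (Set.finite_singleton a)
  letI := subHopf (B := C) hC
  obtain ⟨J, hJH, hJ, hJmem⟩ := exists_restrict hC I hI
  haveI : Algebra.FiniteType k C := (Subalgebra.fg_iff_finiteType C).1 hfg
  have hres : ∀ {S : Type u} [CommRing S] [Algebra k S] {n : Pt k A S}, Kills I n → Kills J (resPt n) :=
    fun {S} _ _ {n} hn c hc => hn _ ((hJmem c).1 hc)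
  refine gen_of_finiteType hJ R (resPt g) (fun c hc => hg _ ?_) ⟨a, haC rfl⟩ ((hJmem _).2 ha)
  refine mem_invAlg_of_forall fun S _ _ h n hn => ?_
  have e := mul_apply_of_mem_invAlg hc (resPt h) (hres hn)
  rw [← resPt_mul hC] at e
  exact e

/-- The ideal is generated by the augmentation ideal of the invariants. -/
theorem augIdealSpan_invAlg {I : Ideal A} [I.IsHopfIdeal k] (hI : IsNormalSub k A I) :
    SGA3.augIdealSpan k A (invAlg k I) = I := by
  refine le_antisymm (Ideal.span_le.2 fun x hx => mem_of_mem_invAlg hx.1 hx.2) fun a ha => ?_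
  exact mem_augIdealSpan_of_forall fun R _ _ g hg => gen_of_normal hI R g hg a ha

end Groth.Agent.HopfQuot
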