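import Groth.Agent.HopfQuot.Infinitesimal
import Groth.Agent.HopfQuot.Descent
import Groth.Agent.HopfLib.ComodFlag
import Mathlib.RingTheory.Coalgebra.GroupLike
import Mathlib.RingTheory.HopfAlgebra.GroupLike

/-!
# Trigonalizable groups: unipotent normal subgroup with diagonalizable quotient
-/

set_option autoImplicit false

noncomputable section

open TensorProduct WithConv HopfRep
open Groth.Agent.HopfLib
open Coalgebra (comul counit)

universe u

namespace Groth.Agent.HopfQuot

variable {k : Type u} [Field k] {A : Type u} [CommRing A] [HopfAlgebra k A]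

theorem IsNormalSub.isHopfIdeal {I : Ideal A} (hI : IsNormalSub k A I) : I.IsHopfIdeal k := by
  refine { toIsCoideal := ⟨fun x hx => ?_, fun x hx => ?_⟩, antipode_mem := fun x hx => ?_ }
  · have h := hI.one k x hx
    rwa [one_apply] at h
  · have h := hI.mul ((kills_mkPt (k := k) I).push (Algebra.TensorProduct.includeLeft (B := A ⧸ I)))
      ((kills_mkPt (k := k) I).push (Algebra.TensorProduct.includeRight : (A ⧸ I) →ₐ[k] (A ⧸ I) ⊗[k] (A ⧸ I))) x hx
    rw [mul_apply] at h
    have e : ∀ t : A ⊗[k] A, TensorProduct.map (Ideal.Quotient.mkₐ k I).toLinearMap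
        (Ideal.Quotient.mkₐ k I).toLinearMap t =
        Algebra.TensorProduct.lift (push (Algebra.TensorProduct.includeLeft (B := A ⧸ I)) (mkPt (k := k) I)).ofConv
          (push (Algebra.TensorProduct.includeRight : (A ⧸ I) →ₐ[k] (A ⧸ I) ⊗[k] (A ⧸ I)) (mkPt (k := k) I)).ofConv
          (fun _ _ => .all ..) t := by
      intro t
      induction t using TensorProduct.induction_on with
      | zero => simp
      | add p q hp hq => simp only [map_add, hp, hq]
      | tmul p q => simp
    exact (e _).trans h
  · have h := hI.inv (kills_mkPt (k := k) I) x hx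
    rw [inv_apply] at h
    exact Ideal.Quotient.eq_zero_iff_mem.1 h

/-- A one-dimensional comodule is given by a group-like element. -/
theorem exists_groupLike_eigen {V : Type u} [AddCommGroup V] [Module k V] [Comod k A V]
    (h1 : Module.finrank k V = 1) {l : V} (hl : l ≠ 0) :
    ∃ a : A, IsGroupLikeElem k a ∧ Comod.coact (k := k) (A := A) l = l ⊗ₜ[k] a := by
  obtain ⟨f, hf⟩ : ∃ f : V →ₗ[k] k, f l = 1 := by
    obtain ⟨f, hf⟩ := LinearMap.exists_extend_of_notMem (p := (⊥ : Submodule k V)) 0
      (show l ∉ (⊥ : Submodule k V) by simpa using hl) (1 : k)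
    exact ⟨f, hf.2⟩
  have hv : ∀ v : V, v = f v • l := fun v => by
    obtain ⟨c, rfl⟩ := exists_smul_eq_of_finrank_eq_one h1 hl v
    rw [map_smul, hf, smul_eq_mul, mul_one]
  have e : Comod.coact (k := k) (A := A) l = l ⊗ₜ[k] cf (A := A) f l := eq_of_forall_sliceR_eq fun φ => by
    rw [sliceR_tmul, hv (sliceR φ _), apply_sliceR, cf_apply]
  refine ⟨_, ⟨?_, ?_⟩, e⟩
  · rw [counit_cf, hf]
  · rw [show CoalgebraStruct.comul (R := k) (cf (A := A) f l) =
      Comod.coact (k := k) (A := A) (cf (A := A) f l) from rfl, IsComodHom.coact_apply (isComodHom_cf (A := A) f) l,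
      e, LinearMap.rTensor_tmul]

theorem isTrigonalizable_imp [Algebra.FiniteType k A] (hT : IsTrigonalizable k A) :
    ∃ (B : Type u) (_ : CommRing B) (_ : HopfAlgebra k B) (ψ : B →ₐc[k] A) (J : Ideal A) (_ : J.IsHopfIdeal k),
      Function.Injective ψ ∧ IsDiagonalizable k B ∧
        J = Ideal.map (ψ : B →+* A) (RingHom.ker (Bialgebra.counitAlgHom k B)) ∧
        IsUnipotent k (A ⧸ J) := by
  classical
  let Gr : Set A := {a | IsGroupLikeElem k a}
  let B : Subalgebra k A := (Submodule.span k Gr).toSubalgebra (Submodule.subset_span (IsGroupLikeElem.one))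
    (fun x y hx hy => by
      induction hx using Submodule.span_induction with
      | mem x hx =>
        induction hy using Submodule.span_induction with
        | mem y hy => exact Submodule.subset_span (IsGroupLikeElem.mul hx hy)
        | zero => simp
        | add p q _ _ hp hq => rw [mul_add]; exact add_mem hp hq
        | smul c p _ hp => rw [mul_smul_comm]; exact Submodule.smul_mem _ c hp
      | zero => simp
      | add p q _ _ hp hq => rw [add_mul]; exact add_mem hp hq
      | smul c p _ hp => rw [smul_mul_assoc]; exact Submodule.smul_mem _ c hp)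
  have hmem : ∀ x, x ∈ B ↔ x ∈ Submodule.span k Gr := fun x => Iff.rfl
  have hB : SGA3.IsHopfSubalgebra k A B := by
    refine ⟨fun b hb => ?_, fun b hb => ?_⟩
    · have hb' := (hmem b).1 hb
      induction hb' using Submodule.span_induction with
      | mem x hx =>
        rw [IsGroupLikeElem.comul_eq_tmul_self hx]
        exact ⟨(⟨x, Submodule.subset_span hx⟩ : B) ⊗ₜ (⟨x, Submodule.subset_span hx⟩ : B), rfl⟩
      | zero => simp
      | add p q hp' hq' hp hq => rw [map_add]; exact add_mem (hp hp') (hq hq')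
      | smul c p hp' hp => rw [map_smul]; exact Submodule.smul_mem _ c (hp hp')
    · have hb' := (hmem b).1 hb
      rw [hmem]
      induction hb' using Submodule.span_induction with
      | mem x hx => exact Submodule.subset_span (IsGroupLikeElem.antipode hx)
      | zero => simp
      | add p q hp' hq' hp hq => rw [map_add]; exact add_mem (hp hp') (hq hq')
      | smul c p hp' hp => rw [map_smul]; exact Submodule.smul_mem _ c (hp hp')
  letI := subHopf (B := B) hB
  let ψ : B →ₐc[k] A := BialgHom.ofAlgHom B.val (AlgHom.ext fun c => rfl)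
    (AlgHom.ext fun c => map_subComul hB c)
  have hmap : Ideal.map (ψ : B →+* A) (RingHom.ker (Bialgebra.counitAlgHom k B)) = SGA3.augIdealSpan k A B := by
    refine congrArg Ideal.span (Set.ext fun a => ⟨?_, fun ha => ?_⟩)
    · rintro ⟨b, hb, rfl⟩
      exact ⟨b.2, hb⟩
    · exact ⟨⟨a, ha.1⟩, ha.2, rfl⟩
  let J : Ideal A := SGA3.augIdealSpan k A B
  haveI hJ : J.IsHopfIdeal k := (isNormalSub_augIdealSpan hB).isHopfIdeal
  refine ⟨B, inferInstance, inferInstance, ψ, J, hJ, fun x y h => Subtype.ext h, ?_, hmap.symm, ?_⟩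
  · rw [IsDiagonalizable, _root_.eq_top_iff]
    rintro ⟨b, hb⟩ -
    have hb' := (hmem b).1 hb
    induction hb' using Submodule.span_induction with
    | mem x hx =>
      refine Submodule.subset_span ⟨?_, ?_⟩
      · exact (hx : IsGroupLikeElem k x).counit_eq_one
      · refine map_val_injective (B := B) ?_
        rw [show CoalgebraStruct.comul (R := k) (⟨x, hb⟩ : B) = subComul hB ⟨x, hb⟩ from rfl, map_subComul hB,
          Algebra.TensorProduct.map_tmul]
        exact (hx : IsGroupLikeElem k x).comul_eq_tmul_self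
    | zero => exact zero_mem _
    | add p q hp' hq' hp hq => exact add_mem (hp hp') (hq hq')
    | smul c p hp' hp => exact Submodule.smul_mem _ c (hp hp')
  · let π := Bialgebra.Quotient.mkBialgHom (R := k) J
    have hT' : IsTrigonalizable k (A ⧸ J) := isTrigonalizable_of_surjective π Ideal.Quotient.mk_surjective hT
    intro V _ _ cV hfin hnt
    obtain ⟨L, -, hL⟩ := exists_isSimpleSub_le (k := k) (A := A ⧸ J) (isSubcomod_top (V := V)) top_ne_bot
    let cL := ComodSub.Comod.restr cV L hL.1
    have h1 : Module.finrank k L = 1 := hT' L inferInstance (isSimpleComod_restr hL)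
    have : Nontrivial L := Module.nontrivial_of_finrank_eq_succ h1
    obtain ⟨l, hl⟩ := exists_ne (0 : L)
    obtain ⟨χ, hχ, hlχ⟩ := @exists_groupLike_eigen k _ (A ⧸ J) _ _ L _ _ cL h1 l hl
    -- every group-like element of `A ⧸ J` is trivial
    have hχ1 : χ = 1 := by
      obtain ⟨a, ha⟩ := Ideal.Quotient.mk_surjective χ
      obtain ⟨U, hUfin, haU, hUs⟩ := exists_finite_subcomod (k := k) (A := A) (V := A) {a} (Set.finite_singleton a)
      let πl : A →ₗ[k] A ⧸ J := (Ideal.Quotient.mkₐ k J).toLinearMap
      let P : Submodule k A → Prop := fun S => S ≤ U ∧ IsSubcomod (k := k) (A := A) S ∧ χ ∉ S.map πl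
      have hχne : χ ≠ 0 := fun h => by
        have h2 := hχ.counit_eq_one
        rw [h, map_zero] at h2
        exact zero_ne_one h2
      have hP0 : P ⊥ := ⟨bot_le, isSubcomod_bot, by rw [Submodule.map_bot, Submodule.mem_bot]; exact hχne⟩
      obtain ⟨S, hS, hSmax⟩ : ∃ S, P S ∧ ∀ T, P T → S ≤ T → T = S := by
        let Q : Submodule k U → Prop := fun S => P (S.map U.subtype)
        obtain ⟨S₀, hS₀, hmax⟩ := (wellFounded_gt (α := Submodule k U)).has_min {S | Q S}
          ⟨⊥, by simpa [Q] using hP0⟩
        refine ⟨S₀.map U.subtype, hS₀, fun T hT hle => ?_⟩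
        have hTe : (T.comap U.subtype).map U.subtype = T := by
          rw [Submodule.map_comap_subtype, inf_eq_right.2 hT.1]
        by_contra hne
        refine hmax (T.comap U.subtype) (by show P _; rw [hTe]; exact hT) (lt_of_le_of_ne ?_ ?_)
        · exact Submodule.map_le_iff_le_comap.1 hle
        · intro h; exact hne (by rw [← hTe, ← h])
      let cU := ComodSub.Comod.restr (Comod.regular k A) U hUs
      let S' : Submodule k U := S.comap U.subtype
      have hUi := ComodSub.isComodHom_subtype (Comod.regular k A) U hUs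
      have hS's : IsSubcomod (k := k) (A := A) S' := isSubcomod_comap hUi hS.2.1
      have hS'ne : S' ≠ ⊤ := fun h => hS.2.2 ⟨a, (Submodule.comap_subtype_eq_top.1 h) (haU rfl), ha⟩
      let cQ := ComodSub.Comod.quot cU S' hS's
      have hq : Hoch.IsComodHom A S'.mkQ := ComodSub.isComodHom_mkQ cU S' hS's
      have : Nontrivial (U ⧸ S') := Submodule.Quotient.nontrivial_iff.2 hS'ne
      obtain ⟨M, -, hM⟩ := exists_isSimpleSub_le (k := k) (A := A) (isSubcomod_top (V := U ⧸ S')) top_ne_bot
      let cM := ComodSub.Comod.restr cQ M hM.1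
      have hM1 : Module.finrank k M = 1 := hT M inferInstance (isSimpleComod_restr hM)
      have : Nontrivial M := Module.nontrivial_of_finrank_eq_succ hM1
      obtain ⟨m, hm⟩ := exists_ne (0 : M)
      obtain ⟨g, hg, hmg⟩ := @exists_groupLike_eigen k _ A _ _ M _ _ cM hM1 m hm
      let T : Submodule k A := ((M.comap S'.mkQ)).map U.subtype
      have hTs : IsSubcomod (k := k) (A := A) T := isSubcomod_map hUi (isSubcomod_comap hq hM.1)
      have hST : S ≤ T := fun x hx => ⟨⟨x, hS.1 hx⟩, by
        show S'.mkQ _ ∈ M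
        rw [Submodule.mkQ_apply, (Submodule.Quotient.mk_eq_zero S').2 hx]; exact zero_mem _, rfl⟩
      have hTU : T ≤ U := by rintro _ ⟨x, -, rfl⟩; exact x.2
      have hχT : χ ∈ T.map πl := by
        by_contra hnot
        have hTS := hSmax T ⟨hTU, hTs, hnot⟩ hST
        obtain ⟨y, hy⟩ := S'.mkQ_surjective (m : U ⧸ S')
        have hyT : (y : A) ∈ T := ⟨y, by show S'.mkQ y ∈ M; rw [hy]; exact m.2, rfl⟩
        rw [hTS] at hyT
        refine hm (Subtype.ext ?_)
        rw [← hy, Submodule.mkQ_apply, (Submodule.Quotient.mk_eq_zero S').2 hyT]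
        rfl
      obtain ⟨_, ⟨t, ht, rfl⟩, htχ⟩ := hχT
      have hkey : ∀ φ : A →ₗ[k] k, hit φ (t : A) - φ g • (t : A) ∈ S := by
        intro φ
        obtain ⟨c, hc⟩ := exists_smul_eq_of_finrank_eq_one hM1 hm ⟨S'.mkQ t, ht⟩
        have hc' : S'.mkQ t = c • (m : U ⧸ S') := congrArg Subtype.val hc.symm
        have h2 : hit φ (m : U ⧸ S') = φ g • (m : U ⧸ S') := by
          refine (hit_restr (c := cQ) hM.1 φ m).symm.trans ?_
          rw [hit_apply, hmg, sliceR_tmul]
          rfl
        have h3 : S'.mkQ (hit φ t - φ g • t) = 0 := by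
          rw [map_sub, map_smul, IsComodHom.hit_apply hq, hc', map_smul, h2, smul_comm, sub_self]
        have h4 := (Submodule.Quotient.mk_eq_zero S').1 h3
        have h5 : U.subtype (hit φ t - φ g • t) ∈ S := h4
        rwa [map_sub, map_smul, IsComodHom.hit_apply hUi] at h5
      have hπg : Ideal.Quotient.mk J g = 1 := by
        have hgJ : g - 1 ∈ J := Ideal.subset_span ⟨sub_mem (Submodule.subset_span hg) (one_mem B), by
          rw [map_sub, hg.counit_eq_one, Bialgebra.counit_one, sub_self]⟩
        rw [← map_one (Ideal.Quotient.mk J)]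
        exact Ideal.Quotient.eq.2 hgJ
      have hall : ∀ φ : A ⧸ J →ₗ[k] k, φ χ = φ 1 := by
        intro φ
        by_contra hne
        refine hS.2.2 ?_
        have hmem := Submodule.mem_map_of_mem (f := πl) (hkey (φ ∘ₗ πl))
        have e1 : πl (hit (φ ∘ₗ πl) (t : A)) = φ χ • χ := by
          rw [hit_apply]
          have e2 : ∀ z : A ⊗[k] A, πl (sliceR (φ ∘ₗ πl) z) = sliceR φ (TensorProduct.map πl πl z) := by
            intro z
            induction z using TensorProduct.induction_on with
            | zero => simp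
            | add p q hp hq => simp only [map_add, hp, hq]
            | tmul p q => simp
          rw [e2, show TensorProduct.map πl πl (Comod.coact (k := k) (A := A) (t : A)) =
            CoalgebraStruct.comul (R := k) (πl (t : A)) from rfl]
          rw [show πl (t : A) = χ from htχ, hχ.comul_eq_tmul_self, sliceR_tmul]
        rw [map_sub, map_smul, e1, LinearMap.comp_apply, show πl g = 1 from hπg, show πl (t : A) = χ from htχ,
          ← sub_smul] at hmem
        have := Submodule.smul_mem _ (φ χ - φ 1)⁻¹ hmem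
        rwa [smul_smul, inv_mul_cancel₀ (sub_ne_zero.2 hne), one_smul] at this
      by_contra hne
      obtain ⟨φ, hφ⟩ := Module.Projective.exists_dual_ne_zero k (sub_ne_zero.2 hne)
      exact hφ (by rw [map_sub, hall, sub_self])
    refine (Submodule.ne_bot_iff _).2 ⟨(l : V), ?_, fun h => hl (Subtype.ext h)⟩
    show cV.coact (l : V) = (l : V) ⊗ₜ[k] (1 : A ⧸ J)
    rw [← ComodSub.restr_coact_coe cV L hL.1 l, hlχ, hχ1, LinearMap.rTensor_tmul]
    rfl

theorem isTrigonalizable_of_exists {B : Type u} [CommRing B] [HopfAlgebra k B] (ψ : B →ₐc[k] A)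
    (J : Ideal A) [J.IsHopfIdeal k] (hψ : Function.Injective ψ) (hB : IsDiagonalizable k B)
    (hJ : J = Ideal.map (ψ : B →+* A) (RingHom.ker (Bialgebra.counitAlgHom k B)))
    (hU : IsUnipotent k (A ⧸ J)) : IsTrigonalizable k A := by
  classical
  let C : Subalgebra k A := (ψ : B →ₐ[k] A).range
  have hC : SGA3.IsHopfSubalgebra k A C := by
    refine ⟨?_, ?_⟩
    · rintro _ ⟨b, rfl⟩
      show CoalgebraStruct.comul (R := k) ((ψ : B →ₐ[k] A) b) ∈ _
      rw [show CoalgebraStruct.comul (R := k) ((ψ : B →ₐ[k] A) b) = _ from (CoalgHomClass.map_comp_comul_apply ψ b).symm]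
      generalize CoalgebraStruct.comul (R := k) b = t
      induction t using TensorProduct.induction_on with
      | zero => simp
      | add p q hp hq => rw [map_add]; exact add_mem hp hq
      | tmul p q => exact ⟨(⟨_, p, rfl⟩ : C) ⊗ₜ (⟨_, q, rfl⟩ : C), rfl⟩
    · rintro _ ⟨b, rfl⟩
      exact ⟨_, map_antipode' ψ b⟩
  have hJC : J = SGA3.augIdealSpan k A C := by
    rw [hJ]
    refine congrArg Ideal.span (Set.ext fun a => ⟨?_, ?_⟩)
    · rintro ⟨b, hb, rfl⟩
      exact ⟨⟨b, rfl⟩, (CoalgHomClass.counit_comp_apply ψ b).trans hb⟩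
    · rintro ⟨⟨b, rfl⟩, hb⟩
      exact ⟨b, (CoalgHomClass.counit_comp_apply ψ b).symm.trans hb, rfl⟩
  have hN : IsNormalSub k A J := hJC ▸ isNormalSub_augIdealSpan hC
  have hinv : invAlg k J = C := hJC ▸ invAlg_eq_of_augIdealSpan hC
  intro V _ _ cV hfin hV
  have := hV.1
  let cJ : Comod k (A ⧸ J) V := comodMap (Bialgebra.Quotient.mkBialgHom (R := k) J : A →ₗc[k] A ⧸ J) cV
  let W : Submodule k V := @fixedPts k (A ⧸ J) _ _ _ V _ _ cJ
  have hWiff : ∀ v : V, v ∈ W ↔ LinearMap.lTensor V (Ideal.Quotient.mkₐ k J).toLinearMap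
      (Comod.coact (k := k) (A := A) v) = v ⊗ₜ[k] (1 : A ⧸ J) := fun v => Iff.rfl
  have hWtop : W = ⊤ := by
    rcases hV.2 W (isSubcomod_fixed hN W hWiff) with h | h
    · exact absurd h (@hU V _ _ cJ hfin inferInstance)
    · exact h
  have hcf : ∀ (f : V →ₗ[k] k) (v : V), cf (A := A) f v ∈ C := by
    intro f v
    rw [← hinv, mem_invAlg, shift_eq, show CoalgebraStruct.comul (R := k) (cf (A := A) f v) =
      Comod.coact (k := k) (A := A) (cf (A := A) f v) from rfl, IsComodHom.coact_apply (isComodHom_cf (A := A) f) v,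
      ← LinearMap.comp_apply, LinearMap.lTensor_comp_rTensor, ← LinearMap.rTensor_comp_lTensor,
      LinearMap.comp_apply, (hWiff v).1 (hWtop ▸ Submodule.mem_top), LinearMap.rTensor_tmul]
  obtain ⟨v, hv⟩ := exists_ne (0 : V)
  let Gr : Set A := {a | IsGroupLikeElem k a}
  have hli : LinearIndepOn k id Gr := linearIndepOn_isGroupLikeElem
  have hspan : ∀ (f : V →ₗ[k] k), cf (A := A) f v ∈ Submodule.span k Gr := by
    intro f
    obtain ⟨b, hb⟩ := hcf f v
    rw [← hb]
    have hbs : b ∈ Submodule.span k {x : B | IsGroupLikeElem k x} := hB ▸ Submodule.mem_top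
    clear hb
    induction hbs using Submodule.span_induction with
    | mem x hx => exact Submodule.subset_span (IsGroupLikeElem.map ψ hx)
    | zero => simp
    | add p q hp' hq' hp hq => rw [map_add]; exact add_mem hp hq
    | smul c p hp' hp =>
      show (ψ : B →ₐ[k] A) (c • p) ∈ _
      rw [map_smul]; exact Submodule.smul_mem _ c hp
  obtain ⟨f, hf⟩ : ∃ f : V →ₗ[k] k, f v = 1 := by
    obtain ⟨f, hf⟩ := LinearMap.exists_extend_of_notMem (p := (⊥ : Submodule k V)) 0
      (show v ∉ (⊥ : Submodule k V) by simpa using hv) (1 : k)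
    exact ⟨f, hf.2⟩
  -- a group-like element occurring in `v`
  obtain ⟨g, hg, φ, hφg, hφne⟩ : ∃ g, IsGroupLikeElem k g ∧ ∃ φ : A →ₗ[k] k,
      (∀ h ∈ Gr, φ h = if h = g then 1 else 0) ∧ φ (cf (A := A) f v) ≠ 0 := by
    obtain ⟨l, hl, hsum⟩ := (Finsupp.mem_span_image_iff_linearCombination k (v := id)).1
      (by rw [Set.image_id]; exact hspan f)
    have hl0 : l ≠ 0 := fun h => by
      rw [h, map_zero] at hsum
      have := counit_cf (A := A) f v
      rw [← hsum, map_zero, hf] at this
      exact zero_ne_one this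
    obtain ⟨g, hg⟩ := Finsupp.support_nonempty_iff.2 hl0
    have hgG : g ∈ Gr := hl hg
    let β := Module.Basis.span (v := fun x : Gr => (x : A)) hli
    obtain ⟨φ, hφ⟩ := (β.coord ⟨g, hgG⟩).exists_extend
    have hφh : ∀ h ∈ Gr, φ h = if h = g then 1 else 0 := fun h hh => by
      have h1 := LinearMap.congr_fun hφ (β ⟨h, hh⟩)
      have hβ : (β ⟨h, hh⟩ : A) = h := congrArg Subtype.val (Module.Basis.span_apply _ _)
      rw [LinearMap.comp_apply, Submodule.subtype_apply, hβ] at h1
      rw [h1, Module.Basis.coord_apply, Module.Basis.repr_self, Finsupp.single_apply]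
      simp [Subtype.ext_iff]
    refine ⟨g, hgG, φ, hφh, ?_⟩
    rw [← hsum, Finsupp.linearCombination_apply, Finsupp.sum, map_sum, Finset.sum_eq_single g]
    · rw [map_smul, id_eq, hφh g hgG, if_pos rfl, smul_eq_mul, mul_one]
      exact Finsupp.mem_support_iff.1 hg
    · intro b hb hbg
      rw [map_smul, id_eq, hφh b (hl hb), if_neg hbg, smul_zero]
    · intro h; exact absurd hg h
  let w : V := hit φ v
  have hw0 : w ≠ 0 := fun h => hφne (by
    rw [cf_apply, ← apply_sliceR, ← hit_apply, show hit φ v = 0 from h, map_zero])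
  have hwg : ∀ θ : A →ₗ[k] k, hit θ w = θ g • w := by
    intro θ
    refine sub_eq_zero.1 ?_
    by_contra hne
    obtain ⟨d, hd⟩ := Module.Projective.exists_dual_ne_zero k hne
    refine hd ?_
    rw [hit_hit, map_sub, map_smul, hit_apply, apply_sliceR, ← cf_apply,
      show d w = φ (cf (A := A) d v) from by rw [show w = hit φ v from rfl, hit_apply, apply_sliceR, cf_apply],
      smul_eq_mul, sub_eq_zero]
    have hd' := hspan d
    generalize cf (A := A) d v = x at hd'
    induction hd' using Submodule.span_induction with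
    | mem y hy =>
      rw [formMul, LinearMap.comp_apply, LinearMap.comp_apply, IsGroupLikeElem.comul_eq_tmul_self hy,
        TensorProduct.map_tmul, LinearMap.mul'_apply, hφg y hy]
      split_ifs with h
      · rw [h]
      · simp
    | zero => simp
    | add p q _ _ hp hq => rw [map_add, map_add, hp, hq, mul_add]
    | smul c p _ hp => rw [map_smul, map_smul, hp, smul_eq_mul, smul_eq_mul]; ring
  let L : Submodule k V := Submodule.span k {w}
  have hLs : IsSubcomod (k := k) (A := A) L := isSubcomod_iff_hit.2 fun θ y hy => by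
    obtain ⟨c, rfl⟩ := Submodule.mem_span_singleton.1 hy
    rw [map_smul, hwg, smul_smul]
    exact Submodule.smul_mem _ _ (Submodule.mem_span_singleton_self w)
  rcases hV.2 L hLs with h | h
  · exact absurd ((Submodule.eq_bot_iff _).1 h w (Submodule.mem_span_singleton_self w)) hw0
  · rw [← finrank_top k V, ← h, finrank_span_singleton hw0]

end Groth.Agent.HopfQuot
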