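import Groth.Agent.HopfQuot.UnipotentCrit
import Groth.Agent.HopfLib.FaithfullyFlat
import Groth.Agent.HopfLib.Transport

/-!
# A group is unipotent as soon as all nontrivial subgroups map nontrivially to the additive group
-/

set_option autoImplicit false

noncomputable section

open TensorProduct HopfRep
open Groth.Agent.HopfLib
open Coalgebra (comul counit)

universe u v

namespace Groth.Agent.HopfQuot

variable {k : Type u} [Field k] {H : Type u} [CommRing H] [HopfAlgebra k H]

theorem counit_eq_zero_of_primitive {x : H}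
    (hx : CoalgebraStruct.comul (R := k) x = x ⊗ₜ[k] (1 : H) + (1 : H) ⊗ₜ[k] x) :
    CoalgebraStruct.counit (R := k) x = 0 := by
  have h := congrArg (fun t => CoalgebraStruct.counit (R := k) (TensorProduct.lid k H t))
    (Coalgebra.rTensor_counit_comul (R := k) x)
  rw [hx] at h
  simp [Bialgebra.counit_one] at h
  exact h

theorem antipode_eq_neg_of_primitive {x : H}
    (hx : CoalgebraStruct.comul (R := k) x = x ⊗ₜ[k] (1 : H) + (1 : H) ⊗ₜ[k] x) :
    HopfAlgebra.antipode k x = -x := by
  have h := HopfAlgebra.mul_antipode_rTensor_comul_apply (R := k) x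
  rw [hx, counit_eq_zero_of_primitive hx, map_zero] at h
  simp only [map_add, LinearMap.rTensor_tmul, LinearMap.mul'_apply, HopfAlgebra.antipode_one, mul_one,
    one_mul] at h
  exact eq_neg_of_add_eq_zero_left h

theorem hit_pow_mem_of_primitive {x : H}
    (hx : CoalgebraStruct.comul (R := k) x = x ⊗ₜ[k] (1 : H) + (1 : H) ⊗ₜ[k] x) (n : ℕ)
    (g : H →ₗ[k] k) (hg : g 1 = 0) :
    hit (V := H) g (x ^ n) ∈ Submodule.span k {y | ∃ i < n, x ^ i = y} := by
  rw [hit_regular, Bialgebra.comul_pow, hx, (Commute.all _ _).add_pow, map_sum]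
  refine Submodule.sum_mem _ fun m hm => ?_
  rw [Algebra.TensorProduct.tmul_pow, Algebra.TensorProduct.tmul_pow, one_pow, one_pow,
    Algebra.TensorProduct.tmul_mul_tmul, mul_one, one_mul, ← nsmul_eq_mul', map_nsmul, sliceR_tmul]
  refine Submodule.smul_of_tower_mem _ _ ?_
  rcases (Nat.lt_add_one_iff.1 (Finset.mem_range.1 hm)).lt_or_eq with h | h
  · exact Submodule.smul_mem _ _ (Submodule.subset_span ⟨m, h, rfl⟩)
  · rw [h, Nat.sub_self, pow_zero, hg, zero_smul]
    exact zero_mem _

theorem isHopfSubalgebra_adjoin_primitive {x : H}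
    (hx : CoalgebraStruct.comul (R := k) x = x ⊗ₜ[k] (1 : H) + (1 : H) ⊗ₜ[k] x) :
    SGA3.IsHopfSubalgebra k H (Algebra.adjoin k {x}) := by
  refine ⟨fun b hb => ?_, fun b hb => ?_⟩
  · induction hb using Algebra.adjoin_induction with
    | mem y hy =>
      rw [Set.mem_singleton_iff.1 hy, hx]
      exact ⟨(⟨x, Algebra.self_mem_adjoin_singleton k x⟩ : Algebra.adjoin k {x}) ⊗ₜ 1 +
        1 ⊗ₜ (⟨x, Algebra.self_mem_adjoin_singleton k x⟩ : Algebra.adjoin k {x}), by simp⟩
    | algebraMap r => exact ⟨algebraMap k _ r ⊗ₜ 1, by simp [Algebra.TensorProduct.one_def]⟩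
    | add p q _ _ hp hq => rw [map_add]; exact add_mem hp hq
    | mul p q _ _ hp hq =>
      obtain ⟨s, hs⟩ := hp
      obtain ⟨t, ht⟩ := hq
      refine ⟨s * t, ?_⟩
      rw [Bialgebra.comul_mul, ← hs, ← ht]
      exact map_mul (Algebra.TensorProduct.map (Algebra.adjoin k {x}).val (Algebra.adjoin k {x}).val) s t
  · induction hb using Algebra.adjoin_induction with
    | mem y hy =>
      rw [Set.mem_singleton_iff.1 hy, antipode_eq_neg_of_primitive hx]
      exact neg_mem (Algebra.self_mem_adjoin_singleton k x)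
    | algebraMap r =>
      rw [Algebra.algebraMap_eq_smul_one, map_smul, HopfAlgebra.antipode_one]
      exact Subalgebra.smul_mem _ (one_mem _) _
    | add p q _ _ hp hq => rw [map_add]; exact add_mem hp hq
    | mul p q _ _ hp hq => rw [HopfAlgebra.antipode_mul]; exact mul_mem hq hp

theorem exists_fixed_of_primitive_unipotent_kernel {x : H}
    (hx : CoalgebraStruct.comul (R := k) x = x ⊗ₜ[k] (1 : H) + (1 : H) ⊗ₜ[k] x)
    [(SGA3.augIdealSpan k H (Algebra.adjoin k {x})).IsHopfIdeal k]
    (hU : IsUnipotent k (H ⧸ SGA3.augIdealSpan k H (Algebra.adjoin k {x})))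
    (V : Type u) [AddCommGroup V] [Module k V] [cV : Comod k H V] [Module.Finite k V]
    (hV : IsSimpleComod k H V) : fixedPts k H V ≠ ⊥ := by
  classical
  let B := Algebra.adjoin k {x}
  let J := SGA3.augIdealSpan k H B
  have hB : SGA3.IsHopfSubalgebra k H B := isHopfSubalgebra_adjoin_primitive hx
  have hN : IsNormalSub k H J := isNormalSub_augIdealSpan hB
  have hinv : invAlg k J = B := invAlg_eq_of_augIdealSpan hB
  have := hV.1
  let cJ : Comod k (H ⧸ J) V := comodMap (Bialgebra.Quotient.mkBialgHom (R := k) J : H →ₗc[k] H ⧸ J) cV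
  let W : Submodule k V := @fixedPts k (H ⧸ J) _ _ _ V _ _ cJ
  have hWiff : ∀ v : V, v ∈ W ↔ LinearMap.lTensor V (Ideal.Quotient.mkₐ k J).toLinearMap
      (Comod.coact (k := k) (A := H) v) = v ⊗ₜ[k] (1 : H ⧸ J) := fun v => Iff.rfl
  have hWtop : W = ⊤ := by
    rcases hV.2 W (isSubcomod_fixed hN W hWiff) with h | h
    · exact absurd h (@hU V _ _ cJ inferInstance inferInstance)
    · exact h
  have hcf : ∀ (f : V →ₗ[k] k) (v : V), cf (A := H) f v ∈ B := by
    intro f v
    rw [← hinv, mem_invAlg, shift_eq, show CoalgebraStruct.comul (R := k) (cf (A := H) f v) =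
      Comod.coact (k := k) (A := H) (cf (A := H) f v) from rfl, IsComodHom.coact_apply (isComodHom_cf (A := H) f) v,
      ← LinearMap.comp_apply, LinearMap.lTensor_comp_rTensor, ← LinearMap.rTensor_comp_lTensor,
      LinearMap.comp_apply, (hWiff v).1 (hWtop ▸ Submodule.mem_top), LinearMap.rTensor_tmul]
  let C : ℕ → Submodule k H := fun r => Submodule.span k {y | ∃ i ≤ r, x ^ i = y}
  have hmono : Monotone C := fun i j hij => Submodule.span_mono fun y ⟨m, hm, hy⟩ => ⟨m, hm.trans hij, hy⟩
  have hB' : ∀ b ∈ B, ∃ r, b ∈ C r := by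
    intro b hb
    obtain ⟨p, rfl⟩ : ∃ p : Polynomial k, Polynomial.aeval x p = b := by
      have e : B = (Polynomial.aeval x).range := Algebra.adjoin_singleton_eq_range_aeval k x
      rw [e] at hb
      exact hb
    refine ⟨p.natDegree, ?_⟩
    rw [Polynomial.aeval_eq_sum_range]
    exact Submodule.sum_mem _ fun i hi => Submodule.smul_mem _ _
      (Submodule.subset_span ⟨i, Nat.lt_add_one_iff.1 (Finset.mem_range.1 hi), rfl⟩)
  obtain ⟨v₀, hv₀⟩ := exists_ne (0 : V)
  refine exists_fixed_of_cf_mem C ?_ hmono ?_ hv₀ ?_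
  · refine congrArg (Submodule.span k) (Set.ext fun y => ⟨?_, fun h => ⟨0, le_rfl, ?_⟩⟩)
    · rintro ⟨i, hi, rfl⟩
      rw [Nat.le_zero.1 hi, pow_zero]
      rfl
    · rw [pow_zero, Set.mem_singleton_iff.1 h]
  · intro r a ha g hg
    induction ha using Submodule.span_induction with
    | mem y hy =>
      obtain ⟨i, hi, rfl⟩ := hy
      refine Submodule.span_mono ?_ (hit_pow_mem_of_primitive hx i g hg)
      rintro z ⟨m, hm, hz⟩
      exact ⟨m, by omega, hz⟩
    | zero => simp
    | add p q _ _ hp hq => rw [map_add]; exact add_mem hp hq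
    | smul c p _ hp => rw [map_smul]; exact Submodule.smul_mem _ _ hp
  · obtain ⟨t, ht⟩ := (mem_range_lTensor_subtype_iff (W := Subalgebra.toSubmodule B)
      (t := Comod.coact (k := k) (A := H) v₀)).2 fun f => hcf f v₀
    have : ∀ t : V ⊗[k] Subalgebra.toSubmodule B, ∃ r, ∀ f : V →ₗ[k] k,
        sliceL f (LinearMap.lTensor V (Subalgebra.toSubmodule B).subtype t) ∈ C r := by
      intro t
      induction t using TensorProduct.induction_on with
      | zero => exact ⟨0, fun f => by simp⟩
      | tmul v b =>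
        obtain ⟨r, hr⟩ := hB' b b.2
        exact ⟨r, fun f => by rw [LinearMap.lTensor_tmul, sliceL_tmul]; exact Submodule.smul_mem _ _ hr⟩
      | add p q hp hq =>
        obtain ⟨r, hr⟩ := hp
        obtain ⟨s, hs⟩ := hq
        exact ⟨max r s, fun f => by
          rw [map_add, map_add]
          exact add_mem (hmono (le_max_left r s) (hr f)) (hmono (le_max_right r s) (hs f))⟩
    obtain ⟨r, hr⟩ := this t
    exact ⟨r, fun f => by rw [cf_apply, ← ht]; exact hr f⟩

/-- A group of finite type is unipotent if each nontrivial subgroup has a primitive function. -/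
theorem isUnipotent_of_forall_primitive {A : Type u} [CommRing A] [HopfAlgebra k A] [Algebra.FiniteType k A]
    (h : ∀ (B : Type u) [CommRing B] [HopfAlgebra k B] (π : A →ₐc[k] B), Function.Surjective π →
      (∃ b : B, b ≠ algebraMap k B (CoalgebraStruct.counit b)) →
      ∃ x : B, x ≠ 0 ∧ CoalgebraStruct.comul (R := k) x = x ⊗ₜ[k] (1 : B) + (1 : B) ⊗ₜ[k] x) :
    IsUnipotent k A := by
  have : IsNoetherianRing A := Algebra.FiniteType.isNoetherianRing k A
  suffices key : ∀ (I : Ideal A) (B : Type u) [CommRing B] [HopfAlgebra k B] (π : A →ₐc[k] B),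
      Function.Surjective π → RingHom.ker (π : A →+* B) = I → IsUnipotent k B from
    key _ A (BialgHom.id k A) Function.surjective_id rfl
  intro I
  induction I using WellFoundedGT.induction with
  | ind I ih =>
    intro B _ _ π hπ hI
    by_cases hs : ∃ b : B, b ≠ algebraMap k B (CoalgebraStruct.counit b)
    swap
    · push Not at hs
      exact isUnipotent_of_scalar hs
    obtain ⟨x, hx0, hx⟩ := h B π hπ hs
    let J := SGA3.augIdealSpan k B (Algebra.adjoin k {x})
    haveI : J.IsHopfIdeal k := (isNormalSub_augIdealSpan (isHopfSubalgebra_adjoin_primitive hx)).isHopfIdeal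
    let σ : B →ₐc[k] B ⧸ J := Bialgebra.Quotient.mkBialgHom (R := k) J
    have hlt : I < RingHom.ker ((σ.comp π : A →ₐc[k] B ⧸ J) : A →+* B ⧸ J) := by
      obtain ⟨a, rfl⟩ := hπ x
      refine lt_of_le_of_ne (fun y hy => ?_) fun e => ?_
      · rw [← hI, RingHom.mem_ker] at hy
        show σ (π y) = 0
        rw [show π y = 0 from hy, map_zero]
      · have ha : a ∈ I := by
          rw [e]
          exact (Ideal.Quotient.eq_zero_iff_mem).2 (Ideal.subset_span
            ⟨Algebra.self_mem_adjoin_singleton k _, counit_eq_zero_of_primitive hx⟩)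
        rw [← hI, RingHom.mem_ker] at ha
        exact hx0 ha
    have hU := ih _ hlt (B ⧸ J) (σ.comp π) (Ideal.Quotient.mk_surjective.comp hπ) rfl
    intro V _ _ _ hfin hnt
    exact exists_fixed_of_simple_fixed fun L _ _ _ hL hLs =>
      exists_fixed_of_primitive_unipotent_kernel hx hU L hLs

/-- Bialgebra maps both ways from the small model of a Hopf algebra of finite type. -/
theorem exists_small_bialgEquiv (A : Type v) [CommRing A] [HopfAlgebra k A] [Algebra.FiniteType k A] :
    ∃ (B : Type u) (_ : CommRing B) (_ : HopfAlgebra k B) (f : B →ₐc[k] A) (g : A →ₐc[k] B),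
      Algebra.FiniteType k B ∧ (∀ b, g (f b) = b) ∧ ∀ a, f (g a) = a := by
  obtain ⟨B, _, _, e, hc, hm⟩ := exists_small_model (k := k) A
  let f : B →ₐc[k] A := BialgHom.ofAlgHom e.toAlgHom hc (AlgHom.ext hm)
  refine ⟨B, inferInstance, inferInstance, f, BialgHom.ofAlgHom e.symm.toAlgHom ?_ ?_,
    Algebra.FiniteType.equiv inferInstance e.symm, e.symm_apply_apply, e.apply_symm_apply⟩
  · refine AlgHom.ext fun a => ?_
    show CoalgebraStruct.counit (R := k) (e.symm a) = CoalgebraStruct.counit (R := k) a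
    have := DFunLike.congr_fun hc (e.symm a)
    rw [AlgHom.comp_apply, AlgEquiv.toAlgHom_eq_coe, AlgEquiv.coe_toAlgHom, e.apply_symm_apply] at this
    exact this.symm
  · refine AlgHom.ext fun a => ?_
    show Algebra.TensorProduct.map e.symm.toAlgHom e.symm.toAlgHom (CoalgebraStruct.comul (R := k) a) =
      CoalgebraStruct.comul (R := k) (e.symm a)
    conv_lhs => rw [← e.apply_symm_apply a, ← hm]
    rw [← AlgHom.comp_apply, ← Algebra.TensorProduct.map_comp]
    simp

end Groth.Agent.HopfQuot
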