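import Groth.Agent.HopfQuot.UnipotentBaseChange
import Mathlib.RingTheory.DiscreteValuationRing.Basic

/-!
# Trigonalizable groups: filtrations by eigenvectors, base change and specialisation
-/

set_option autoImplicit false

noncomputable section

open TensorProduct HopfRep
open Groth.Agent.HopfLib
open Coalgebra (comul counit)

universe u v w

namespace Groth.Agent.HopfQuot

section Field

variable {k : Type u} [Field k] {A : Type v} [CommRing A] [HopfAlgebra k A]

variable (k A) in
/-- Elements which, modulo the step of the tail, are eigenvectors for the head of the list. -/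
def eigFil : List A → Submodule k A
  | [] => ⊥
  | g :: l => ⨅ φ : A →ₗ[k] k, (eigFil l).comap (hit (V := A) φ - φ g • LinearMap.id)

theorem mem_eigFil_cons {g : A} {l : List A} {x : A} :
    x ∈ eigFil k A (g :: l) ↔ ∀ φ : A →ₗ[k] k, hit (V := A) φ x - φ g • x ∈ eigFil k A l := by
  simp [eigFil, Submodule.mem_iInf]

theorem formMul_groupLike {g : A} (hg : IsGroupLikeElem k g) (φ ψ : A →ₗ[k] k) :
    formMul φ ψ g = φ g * ψ g := by
  simp [formMul, hg.comul_eq_tmul_self]

theorem isSubcomod_eigFil :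
    ∀ {l : List A}, (∀ g ∈ l, IsGroupLikeElem k g) → IsSubcomod (k := k) (A := A) (eigFil k A l) := by
  intro l
  induction l with
  | nil => intro _; exact isSubcomod_bot
  | cons g l ih =>
    intro hl
    have hs := ih fun x hx => hl x (List.mem_cons_of_mem g hx)
    refine isSubcomod_iff_hit.2 fun ψ x hx => mem_eigFil_cons.2 fun φ => ?_
    rw [mem_eigFil_cons] at hx
    have h1 := hx (formMul φ ψ)
    rw [formMul_groupLike (hl g List.mem_cons_self), ← hit_hit] at h1
    have h2 := Submodule.smul_mem _ (φ g) (hx ψ)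
    rw [smul_sub, smul_smul] at h2
    convert sub_mem h1 h2 using 1
    abel

theorem eigFil_le_cons {g : A} {l : List A} (hl : ∀ x ∈ l, IsGroupLikeElem k x) :
    eigFil k A l ≤ eigFil k A (g :: l) := fun _ hx => mem_eigFil_cons.2 fun φ =>
  sub_mem (IsSubcomod.hit_mem (isSubcomod_eigFil hl) φ hx) (Submodule.smul_mem _ _ hx)

theorem exists_eigen_mod' (hT : IsTrigonalizable k A) {V : Type v} [AddCommGroup V] [Module k V]
    [cV : Comod k A V] {S : Submodule k V} (hS : IsSubcomod (k := k) (A := A) S) (hne : S ≠ ⊤) :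
    ∃ (g : A) (t : V), IsGroupLikeElem k g ∧ t ∉ S ∧ ∀ φ : A →ₗ[k] k, hit φ t - φ g • t ∈ S := by
  classical
  let cQ := ComodSub.Comod.quot cV S hS
  have hq : Hoch.IsComodHom A S.mkQ := ComodSub.isComodHom_mkQ cV S hS
  have : Nontrivial (V ⧸ S) := Submodule.Quotient.nontrivial_iff.2 hne
  obtain ⟨x, hx⟩ := exists_ne (0 : V ⧸ S)
  obtain ⟨U, hUfin, hxU, hUs⟩ := exists_finite_subcomod (k := k) (A := A) ({x} : Set (V ⧸ S)) (Set.finite_singleton x)
  let cU := ComodSub.Comod.restr cQ U hUs
  have : Nontrivial U := ⟨⟨⟨x, hxU rfl⟩, 0, fun h => hx (congrArg Subtype.val h)⟩⟩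
  obtain ⟨M, -, hM⟩ := exists_isSimpleSub_le (k := k) (A := A) (isSubcomod_top (V := U)) top_ne_bot
  let cM := ComodSub.Comod.restr cU M hM.1
  have hM1 : Module.finrank k M = 1 := hT M inferInstance (isSimpleComod_restr hM)
  have : Nontrivial M := Module.nontrivial_of_finrank_eq_succ hM1
  obtain ⟨m, hm⟩ := exists_ne (0 : M)
  obtain ⟨g, hg, hmg⟩ := @exists_groupLike_eigen' k _ A _ _ M _ _ cM hM1 m hm
  obtain ⟨t, ht⟩ := S.mkQ_surjective ((m : U) : V ⧸ S)
  refine ⟨g, t, hg, fun htS => hm ?_, fun φ => (Submodule.Quotient.mk_eq_zero S).1 ?_⟩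
  · refine Subtype.ext (Subtype.ext ?_)
    rw [← ht]
    exact (Submodule.Quotient.mk_eq_zero S).2 htS
  · show S.mkQ _ = 0
    have h1 : hit φ m = φ g • m := by rw [hit_apply, hmg, sliceR_tmul]
    have h2 : hit φ ((m : U) : V ⧸ S) = φ g • ((m : U) : V ⧸ S) := by
      refine (hit_restr (c := cQ) hUs φ (m : U)).symm.trans ?_
      refine (congrArg Subtype.val (hit_restr (c := cU) hM.1 φ m).symm).trans ?_
      rw [h1]
      rfl
    rw [map_sub, map_smul, IsComodHom.hit_apply hq, ht, h2, sub_self]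

/-- In a trigonalizable Hopf algebra every finite set lies in a step of some eigenvector filtration. -/
theorem exists_eigFil (hT : IsTrigonalizable k A) (s : Set A) (hs : s.Finite) :
    ∃ l : List A, (∀ g ∈ l, IsGroupLikeElem k g) ∧ s ⊆ eigFil k A l := by
  classical
  obtain ⟨U, hUfin, hsU, hUs⟩ := exists_finite_subcomod (k := k) (A := A) s hs
  let cU := ComodSub.Comod.restr (Comod.regular k A) U hUs
  suffices key : ∀ (W : Submodule k U) (l : List A), (∀ g ∈ l, IsGroupLikeElem k g) →
      (eigFil k A l).comap U.subtype = W → ∃ l' : List A, (∀ g ∈ l', IsGroupLikeElem k g) ∧ U ≤ eigFil k A l' by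
    obtain ⟨l, hl, hUl⟩ := key _ [] (by simp) rfl
    exact ⟨l, hl, fun x hx => hUl (hsU hx)⟩
  intro W
  induction W using WellFoundedGT.induction with
  | ind W ih =>
    intro l hl hW
    by_cases htop : W = ⊤
    · exact ⟨l, hl, fun x hx => by
        have : (⟨x, hx⟩ : U) ∈ W := htop ▸ Submodule.mem_top
        rw [← hW] at this
        exact this⟩
    · have hSs : IsSubcomod (k := k) (A := A) W := hW ▸
        isSubcomod_comap (ComodSub.isComodHom_subtype (Comod.regular k A) U hUs) (isSubcomod_eigFil hl)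
      obtain ⟨g, t, hg, htW, ht⟩ := exists_eigen_mod' hT hSs htop
      have hl' : ∀ x ∈ g :: l, IsGroupLikeElem k x := List.forall_mem_cons.2 ⟨hg, hl⟩
      refine ih ((eigFil k A (g :: l)).comap U.subtype) (lt_of_le_of_ne ?_ ?_) (g :: l) hl' rfl
      · rw [← hW]; exact Submodule.comap_mono (eigFil_le_cons hl)
      · intro e
        refine htW ?_
        rw [e]
        refine mem_eigFil_cons.2 fun φ => ?_
        have h := ht φ
        rw [← hW] at h
        have h2 : U.subtype (hit φ t - φ g • t) ∈ eigFil k A l := h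
        rwa [map_sub, map_smul, IsComodHom.hit_apply (ComodSub.isComodHom_subtype (Comod.regular k A) U hUs)] at h2

/-- Exhaustion by eigenvector filtrations makes every simple comodule one-dimensional. -/
theorem isTrigonalizable_of_eigFil
    (h : ∀ s : Finset A, ∃ l : List A, (s : Set A) ⊆ eigFil k A l) : IsTrigonalizable k A := by
  classical
  intro V _ _ cV hfin hV
  have := hV.1
  obtain ⟨v₀, hv₀⟩ := exists_ne (0 : V)
  obtain ⟨W, ⟨s, rfl⟩, hW⟩ := exists_fg_forall_sliceL_mem (Comod.coact (k := k) (A := A) v₀)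
  obtain ⟨l, hl⟩ := h s
  have hex : ∀ (l : List A) (v : V), v ≠ 0 → (∀ f : V →ₗ[k] k, cf (A := A) f v ∈ eigFil k A l) →
      ∃ (w : V) (g : A), w ≠ 0 ∧ ∀ φ : A →ₗ[k] k, hit φ w = φ g • w := by
    intro l
    induction l with
    | nil =>
      intro v hv hcf
      obtain ⟨f, hf⟩ := exists_cf_ne_zero (A := A) (k := k) hv
      exact absurd (hcf f) hf
    | cons g l ih =>
      intro v hv hcf
      by_cases hall : ∀ φ : A →ₗ[k] k, hit φ v = φ g • v
      · exact ⟨v, g, hv, hall⟩
      push Not at hall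
      obtain ⟨φ, hφ⟩ := hall
      refine ih (hit φ v - φ g • v) (sub_ne_zero.2 hφ) fun f => ?_
      rw [map_sub, map_smul, IsComodHom.hit_apply (isComodHom_cf (A := A) f)]
      exact mem_eigFil_cons.1 (hcf f) φ
  obtain ⟨w, g, hw, hwg⟩ := hex l v₀ hv₀ fun f => (Submodule.span_le.2 hl) (by rw [cf_apply]; exact hW f)
  have hL : IsSubcomod (k := k) (A := A) (Submodule.span k {w}) := isSubcomod_iff_hit.2 fun φ y hy => by
    obtain ⟨c, rfl⟩ := Submodule.mem_span_singleton.1 hy
    rw [map_smul, hwg, smul_smul]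
    exact Submodule.smul_mem _ _ (Submodule.mem_span_singleton_self w)
  rcases hV.2 _ hL with h' | h'
  · exact absurd ((Submodule.eq_bot_iff _).1 h' w (Submodule.mem_span_singleton_self w)) hw
  · rw [← finrank_top k V, ← h', finrank_span_singleton hw]

end Field

section Ring

variable {R : Type u} [CommRing R] {H : Type v} [CommRing H] [HopfAlgebra R H]
  {K : Type w} [Field K] [Algebra R K] {k : Type w} [Field k] [Algebra R k]

/-- One step of specialisation. -/
theorem one_tmul_mem_eigFil_cons {h : H} {l : List (k ⊗[R] H)} {N : Submodule R H}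
    (hN : ∀ x ∈ N, (1 : k) ⊗ₜ[R] x ∈ eigFil k (k ⊗[R] H) l) {a : H}
    (ha : CoalgebraStruct.comul (R := R) a - a ⊗ₜ[R] h ∈ LinearMap.range (N.subtype.rTensor H)) :
    (1 : k) ⊗ₜ[R] a ∈ eigFil k (k ⊗[R] H) (((1 : k) ⊗ₜ[R] h) :: l) := by
  refine mem_eigFil_cons.2 fun φ => ?_
  obtain ⟨t, ht⟩ := ha
  have e : hit (V := k ⊗[R] H) φ ((1 : k) ⊗ₜ[R] a) - φ ((1 : k) ⊗ₜ[R] h) • ((1 : k) ⊗ₜ[R] a) =
      sliceR φ (AlgebraTensorModule.distribBaseChange R k H H ((1 : k) ⊗ₜ[R] (N.subtype.rTensor H t))) := by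
    rw [ht, TensorProduct.tmul_sub, map_sub, map_sub, ← comul_one_tmul', AlgebraTensorModule.distribBaseChange_tmul,
      sliceR_tmul, hit_regular]
  rw [e]
  clear ht e
  induction t using TensorProduct.induction_on with
  | zero => simp
  | add p q hp hq => simp only [map_add, TensorProduct.tmul_add]; exact add_mem hp hq
  | tmul p q =>
    rw [LinearMap.rTensor_tmul, AlgebraTensorModule.distribBaseChange_tmul, sliceR_tmul]
    exact Submodule.smul_mem _ _ (hN _ p.2)

variable [Module.Flat R H]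

theorem one_tmul_mem_eigFil_of_flat (hK : Function.Injective (algebraMap R K)) :
    ∀ (l : List H) (a : H), (1 : K) ⊗ₜ[R] a ∈ eigFil K (K ⊗[R] H) (l.map fun h => (1 : K) ⊗ₜ[R] h) →
      (1 : k) ⊗ₜ[R] a ∈ eigFil k (k ⊗[R] H) (l.map fun h => (1 : k) ⊗ₜ[R] h) := by
  intro l
  induction l with
  | nil =>
    intro a ha
    rw [List.map_nil, eigFil, Submodule.mem_bot] at ha
    have hinj : Function.Injective (Algebra.TensorProduct.includeRight : H →ₐ[R] K ⊗[R] H) :=
      Algebra.TensorProduct.includeRight_injective hK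
    rw [hinj (ha.trans (map_zero (Algebra.TensorProduct.includeRight : H →ₐ[R] K ⊗[R] H)).symm),
      TensorProduct.tmul_zero]
    exact zero_mem _
  | cons h l ih =>
    intro a ha
    rw [List.map_cons] at ha ⊢
    let S : Submodule K (K ⊗[R] H) := eigFil K (K ⊗[R] H) (l.map fun h => (1 : K) ⊗ₜ[R] h)
    let j : H →ₗ[R] (K ⊗[R] H) ⧸ S := (S.mkQ.restrictScalars R) ∘ₗ TensorProduct.mk R K H 1
    let N : Submodule R H := LinearMap.ker j
    refine one_tmul_mem_eigFil_cons (N := N) (fun x hx => ih x ((Submodule.Quotient.mk_eq_zero S).1 hx)) ?_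
    let red : H ⊗[R] H := CoalgebraStruct.comul (R := R) a - a ⊗ₜ[R] h
    have hex : Function.Exact N.subtype N.mkQ := LinearMap.exact_subtype_mkQ N
    refine ((Module.Flat.rTensor_exact H hex) red).1 ?_
    let jbar : (H ⧸ N) →ₗ[R] (K ⊗[R] H) ⧸ S := N.liftQ j le_rfl
    have hjinj : Function.Injective jbar := LinearMap.ker_eq_bot.1 (Submodule.ker_liftQ_eq_bot _ _ _ le_rfl)
    refine Module.Flat.rTensor_preserves_injective_linearMap (M := H) jbar hjinj ?_
    rw [map_zero, ← LinearMap.comp_apply, ← LinearMap.rTensor_comp, Submodule.liftQ_mkQ]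
    have hgen : LinearMap.rTensor (K ⊗[R] H) S.mkQ
        (AlgebraTensorModule.distribBaseChange R K H H ((1 : K) ⊗ₜ[R] red)) = 0 := by
      have hmem : AlgebraTensorModule.distribBaseChange R K H H ((1 : K) ⊗ₜ[R] red) ∈
          LinearMap.range (S.subtype.rTensor (K ⊗[R] H)) := mem_range_rTensor_subtype_iff.2 fun φ => by
        rw [TensorProduct.tmul_sub, map_sub, ← comul_one_tmul', AlgebraTensorModule.distribBaseChange_tmul,
          map_sub, sliceR_tmul, ← hit_regular]
        exact mem_eigFil_cons.1 ha φ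
      obtain ⟨t, ht⟩ := hmem
      rw [← ht, ← LinearMap.comp_apply, ← LinearMap.rTensor_comp,
        show S.mkQ ∘ₗ S.subtype = 0 from LinearMap.ext fun x => (Submodule.Quotient.mk_eq_zero S).2 x.2,
        LinearMap.rTensor_zero, LinearMap.zero_apply]
    have hcomm : ∀ t : H ⊗[R] H, LinearMap.rTensor H j t =
        AlgebraTensorModule.cancelBaseChange R K K ((K ⊗[R] H) ⧸ S) H
          (LinearMap.rTensor (K ⊗[R] H) S.mkQ
            (AlgebraTensorModule.distribBaseChange R K H H ((1 : K) ⊗ₜ[R] t))) := fun t => by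
      induction t using TensorProduct.induction_on with
      | zero => simp
      | add p q hp hq => simp only [map_add, TensorProduct.tmul_add, hp, hq]
      | tmul p q => simp [j]
    rw [hcomm, hgen, map_zero]

theorem isTrigonalizable_of_flat (hK : Function.Injective (algebraMap R K))
    (hlift : ∀ g : K ⊗[R] H, IsGroupLikeElem K g → ∃ h : H, (1 : K) ⊗ₜ[R] h = g)
    (hT : IsTrigonalizable K (K ⊗[R] H)) : IsTrigonalizable k (k ⊗[R] H) := by
  classical
  refine isTrigonalizable_of_eigFil fun s => ?_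
  choose S hS using fun x : k ⊗[R] H => TensorProduct.exists_finset x
  let T : Finset H := s.biUnion fun x => (S x).image Prod.snd
  obtain ⟨l, hl, hTl⟩ := exists_eigFil hT ((fun a : H => (1 : K) ⊗ₜ[R] a) '' T) (T.finite_toSet.image _)
  obtain ⟨l₀, rfl⟩ : ∃ l₀ : List H, l₀.map (fun h => (1 : K) ⊗ₜ[R] h) = l := by
    clear hTl
    induction l with
    | nil => exact ⟨[], rfl⟩
    | cons g l ih =>
      obtain ⟨l₀, rfl⟩ := ih fun x hx => hl x (List.mem_cons_of_mem g hx)
      obtain ⟨h, rfl⟩ := hlift g (hl _ List.mem_cons_self)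
      exact ⟨h :: l₀, rfl⟩
  refine ⟨l₀.map fun h => (1 : k) ⊗ₜ[R] h, fun x hx => ?_⟩
  rw [hS x]
  refine Submodule.sum_mem _ fun p hp => ?_
  rw [show p.1 ⊗ₜ[R] p.2 = p.1 • ((1 : k) ⊗ₜ[R] p.2) by rw [TensorProduct.smul_tmul', smul_eq_mul, mul_one]]
  exact Submodule.smul_mem _ _ (one_tmul_mem_eigFil_of_flat hK l₀ _
    (hTl ⟨p.2, Finset.mem_biUnion.2 ⟨x, hx, Finset.mem_image_of_mem _ hp⟩, rfl⟩))

end Ring

section BaseChange

variable {k : Type u} [Field k] {A : Type v} [CommRing A] [HopfAlgebra k A]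
  {K : Type w} [Field K] [Algebra k K]

theorem one_tmul_mem_eigFil :
    ∀ (l : List A) (a : A), a ∈ eigFil k A l →
      (1 : K) ⊗ₜ[k] a ∈ eigFil K (K ⊗[k] A) (l.map fun h => (1 : K) ⊗ₜ[k] h) := by
  intro l
  induction l with
  | nil =>
    intro a ha
    rw [eigFil, Submodule.mem_bot] at ha
    rw [ha, TensorProduct.tmul_zero]
    exact zero_mem _
  | cons h l ih =>
    intro a ha
    rw [List.map_cons]
    refine one_tmul_mem_eigFil_cons (N := eigFil k A l) (fun x hx => ih x hx)
      (mem_range_rTensor_subtype_iff.2 fun φ => ?_)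
    rw [map_sub, sliceR_tmul, ← hit_regular]
    exact mem_eigFil_cons.1 ha φ

theorem isTrigonalizable_baseChange (hT : IsTrigonalizable k A) : IsTrigonalizable K (K ⊗[k] A) := by
  classical
  refine isTrigonalizable_of_eigFil fun s => ?_
  choose S hS using fun x : K ⊗[k] A => TensorProduct.exists_finset x
  let T : Finset A := s.biUnion fun x => (S x).image Prod.snd
  obtain ⟨l, -, hTl⟩ := exists_eigFil hT (T : Set A) T.finite_toSet
  refine ⟨l.map fun h => (1 : K) ⊗ₜ[k] h, fun x hx => ?_⟩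
  rw [hS x]
  refine Submodule.sum_mem _ fun p hp => ?_
  rw [show p.1 ⊗ₜ[k] p.2 = p.1 • ((1 : K) ⊗ₜ[k] p.2) by rw [TensorProduct.smul_tmul', smul_eq_mul, mul_one]]
  exact Submodule.smul_mem _ _ (one_tmul_mem_eigFil l _
    (hTl (Finset.mem_biUnion.2 ⟨x, hx, Finset.mem_image_of_mem _ hp⟩)))

end BaseChange

section DVR

variable {R : Type u} [CommRing R] [IsDomain R] [IsDiscreteValuationRing R]
  {K : Type u} [Field K] [Algebra R K] [IsFractionRing R K]
  {H : Type u} [CommRing H] [HopfAlgebra R H] [Module.Flat R H]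

/-- Group-like elements of the generic fibre are integral. -/
theorem exists_one_tmul_eq_groupLike {g : K ⊗[R] H} (hg : IsGroupLikeElem K g) :
    ∃ h : H, (1 : K) ⊗ₜ[R] h = g := by
  classical
  have hK : Function.Injective (algebraMap R K) := IsFractionRing.injective R K
  obtain ⟨π, hπ⟩ := IsDiscreteValuationRing.exists_irreducible R
  have hden : ∀ x : K ⊗[R] H, ∃ (c : R) (h : H), c ≠ 0 ∧ algebraMap R K c • x = (1 : K) ⊗ₜ[R] h := by
    intro x
    induction x using TensorProduct.induction_on with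
    | zero => exact ⟨1, 0, one_ne_zero, by simp⟩
    | tmul r a =>
      obtain ⟨p, q, hq, rfl⟩ := IsFractionRing.div_surjective (A := R) r
      refine ⟨q, p • a, nonZeroDivisors.ne_zero hq, ?_⟩
      rw [TensorProduct.smul_tmul', smul_eq_mul, mul_div_cancel₀ _
        (IsFractionRing.to_map_ne_zero_of_mem_nonZeroDivisors hq), TensorProduct.tmul_smul, TensorProduct.smul_tmul',
        Algebra.smul_def, mul_one]
    | add x y hx hy =>
      obtain ⟨c, h, hc, e⟩ := hx
      obtain ⟨d, h', hd, e'⟩ := hy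
      refine ⟨c * d, d • h + c • h', mul_ne_zero hc hd, ?_⟩
      rw [TensorProduct.tmul_add, TensorProduct.tmul_smul, TensorProduct.tmul_smul, ← e, ← e', smul_add,
        ← algebraMap_smul K d, ← algebraMap_smul K c, smul_smul, smul_smul, map_mul, mul_comm]
  have hex : ∃ (m : ℕ) (h : H), algebraMap R K (π ^ m) • g = (1 : K) ⊗ₜ[R] h := by
    obtain ⟨c, h, hc, e⟩ := hden g
    obtain ⟨m, u, rfl⟩ := IsDiscreteValuationRing.eq_unit_mul_pow_irreducible hc hπ
    refine ⟨m, (↑u⁻¹ : R) • h, ?_⟩
    rw [TensorProduct.tmul_smul, ← e, ← algebraMap_smul K (↑u⁻¹ : R), smul_smul, ← map_mul, ← mul_assoc,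
      Units.inv_mul, one_mul]
  obtain ⟨h, hh⟩ := Nat.find_spec hex
  rcases Nat.eq_zero_or_pos (Nat.find hex) with hm | hm
  · refine ⟨h, ?_⟩
    rw [hm, pow_zero, map_one, one_smul] at hh
    exact hh.symm
  exfalso
  set m := Nat.find hex
  let q := IsLocalRing.ResidueField R
  -- the square of the reduction vanishes
  have hsq : h ⊗ₜ[R] h = π ^ m • CoalgebraStruct.comul (R := R) h := by
    have hinj : Function.Injective
        (fun t : H ⊗[R] H => AlgebraTensorModule.distribBaseChange R K H H ((1 : K) ⊗ₜ[R] t)) :=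
      (AlgebraTensorModule.distribBaseChange R K H H).injective.comp
        (Algebra.TensorProduct.includeRight_injective (A := K) (B := H ⊗[R] H) hK)
    refine hinj ?_
    simp only [AlgebraTensorModule.distribBaseChange_tmul]
    rw [TensorProduct.tmul_smul, ← algebraMap_smul K (π ^ m), map_smul, ← comul_one_tmul', ← hh, map_smul,
      hg.comul_eq_tmul_self, TensorProduct.smul_tmul', TensorProduct.tmul_smul]
  have hbar : (1 : q) ⊗ₜ[R] h = 0 := by
    have h1 := congrArg (fun t : H ⊗[R] H => AlgebraTensorModule.distribBaseChange R q H H ((1 : q) ⊗ₜ[R] t)) hsq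
    simp only [AlgebraTensorModule.distribBaseChange_tmul] at h1
    have h0 : algebraMap R q (π ^ m) = 0 :=
      Ideal.Quotient.eq_zero_iff_mem.2 (Ideal.pow_mem_of_mem _ (hπ.maximalIdeal_eq ▸ Ideal.mem_span_singleton_self π) m hm)
    rw [TensorProduct.tmul_smul, ← algebraMap_smul q (π ^ m), h0, zero_smul, map_zero] at h1
    by_contra hne
    obtain ⟨f, hf⟩ := Module.Projective.exists_dual_ne_zero q hne
    have h2 := congrArg (fun t => f (TensorProduct.lid q _ (LinearMap.rTensor _ f t))) h1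
    simp only [LinearMap.rTensor_tmul, TensorProduct.lid_tmul, map_smul, map_zero, smul_eq_mul] at h2
    exact hf (mul_self_eq_zero.1 h2)
  obtain ⟨h', rfl⟩ : ∃ h' : H, π • h' = h := by
    have hz : TensorProduct.quotTensorEquivQuotSMul H (IsLocalRing.maximalIdeal R)
        (Ideal.Quotient.mk (IsLocalRing.maximalIdeal R) (1 : R) ⊗ₜ[R] h) = 0 :=
      (congrArg (TensorProduct.quotTensorEquivQuotSMul H (IsLocalRing.maximalIdeal R))
        (hbar : Ideal.Quotient.mk (IsLocalRing.maximalIdeal R) (1 : R) ⊗ₜ[R] h = 0)).trans (map_zero _)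
    rw [TensorProduct.quotTensorEquivQuotSMul_mk_tmul, one_smul] at hz
    have hmem := (Submodule.Quotient.mk_eq_zero _).1 hz
    rw [hπ.maximalIdeal_eq, Submodule.ideal_span_singleton_smul] at hmem
    obtain ⟨y, -, hy⟩ := hmem
    exact ⟨y, hy⟩
  refine Nat.find_min hex (Nat.sub_lt hm one_pos) ⟨h', ?_⟩
  have hne : algebraMap R K π ≠ 0 := fun h => hπ.ne_zero (hK (h.trans (map_zero _).symm))
  refine (smul_right_injective _ hne) ?_
  simp only
  rw [smul_smul, ← map_mul, ← pow_succ', show m - 1 + 1 = m by omega, hh, TensorProduct.tmul_smul, algebraMap_smul]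

end DVR

end Groth.Agent.HopfQuot
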