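import Groth.Agent.HopfQuot.BaseChangePrim
import Mathlib.FieldTheory.IsAlgClosed.AlgebraicClosure
import Mathlib.LinearAlgebra.Eigenspace.Triangularizable

/-!
# Commutative groups without additive characters are of multiplicative type
-/

set_option autoImplicit false

noncomputable section

open TensorProduct HopfRep
open Groth.Agent.HopfLib
open Coalgebra (comul counit)

universe u v

namespace Groth.Agent.HopfQuot

variable {k : Type u} [Field k] {A : Type v} [CommRing A] [HopfAlgebra k A]

theorem formMul_comm [Coalgebra.IsCocomm k A] (g h : A →ₗ[k] k) : formMul g h = formMul h g := by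
  have e : ∀ t : A ⊗[k] A, LinearMap.mul' k k (TensorProduct.map g h (TensorProduct.comm k A A t)) =
      LinearMap.mul' k k (TensorProduct.map h g t) := fun t => by
    induction t using TensorProduct.induction_on with
    | zero => simp
    | add p q hp hq => simp only [map_add, hp, hq]
    | tmul p q => simp [mul_comm]
  refine LinearMap.ext fun a => ?_
  simp only [formMul, LinearMap.comp_apply]
  rw [← e, Coalgebra.comm_comul]

theorem isTrigonalizable_of_isCocomm [IsAlgClosed k] [Coalgebra.IsCocomm k A] : IsTrigonalizable k A := by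
  intro V _ _ cV hfin hV
  have := hV.1
  have hsc : ∀ φ : A →ₗ[k] k, ∃ μ : k, ∀ v : V, hit φ v = μ • v := by
    intro φ
    obtain ⟨μ, hμ⟩ := Module.End.exists_eigenvalue (hit (V := V) φ)
    let E : Submodule k V := Module.End.eigenspace (hit (V := V) φ) μ
    have hE : IsSubcomod (k := k) (A := A) E := isSubcomod_iff_hit.2 fun g v hv => by
      rw [Module.End.mem_eigenspace_iff] at hv ⊢
      rw [hit_hit, formMul_comm, ← hit_hit, hv, map_smul]
    rcases hV.2 E hE with h | h
    · exact absurd h hμ
    · exact ⟨μ, fun v => Module.End.mem_eigenspace_iff.1 (h.ge Submodule.mem_top)⟩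
  obtain ⟨v, hv⟩ := exists_ne (0 : V)
  have hL : IsSubcomod (k := k) (A := A) (Submodule.span k {v}) := isSubcomod_iff_hit.2 fun φ y hy => by
    obtain ⟨μ, hμ⟩ := hsc φ
    rw [hμ]
    exact Submodule.smul_mem _ _ hy
  rcases hV.2 _ hL with h | h
  · exact absurd ((Submodule.eq_bot_iff _).1 h v (Submodule.mem_span_singleton_self v)) hv
  · rw [← finrank_top k V, ← h, finrank_span_singleton hv]

/-- A one-dimensional comodule is given by a group-like element. -/
theorem exists_groupLike_eigen' {V : Type*} [AddCommGroup V] [Module k V] [Comod k A V]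
    (h1 : Module.finrank k V = 1) {l : V} (hl : l ≠ 0) :
    ∃ a : A, IsGroupLikeElem k a ∧ Comod.coact (k := k) (A := A) l = l ⊗ₜ[k] a := by
  obtain ⟨f, hf⟩ : ∃ f : V →ₗ[k] k, f l = 1 := by
    obtain ⟨f, hf⟩ := LinearMap.exists_extend_of_notMem (p := (⊥ : Submodule k V)) 0
      (show l ∉ (⊥ : Submodule k V) by simpa using hl) (1 : k)
    exact ⟨f, hf.2⟩
  have hv : ∀ v : V, v = f v • l := fun v => by
    obtain ⟨c, rfl⟩ := exists_smul_eq_of_finrank_eq_one h1 hl v
    rw [map_smul, hf, smul_eq_mul, mul_one]
  have e : Comod.coact (k := k) (A := A) l = l ⊗ₜ[k] cf (A := A) f l := eq_of_forall_sliceR_eq fun φ => by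
    rw [sliceR_tmul, hv (sliceR φ _)]
    congr 1
    rw [cf_apply]
    generalize Comod.coact (k := k) (A := A) l = t
    induction t using TensorProduct.induction_on with
    | zero => simp
    | add p q hp hq => simp only [map_add, hp, hq]
    | tmul p q => simp [mul_comm]
  refine ⟨_, ⟨?_, ?_⟩, e⟩
  · rw [counit_cf, hf]
  · rw [show CoalgebraStruct.comul (R := k) (cf (A := A) f l) =
      Comod.coact (k := k) (A := A) (cf (A := A) f l) from rfl, IsComodHom.coact_apply (isComodHom_cf (A := A) f) l,
      e, LinearMap.rTensor_tmul]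

/-- A vector outside a subcomodule that is an eigenvector modulo it. -/
theorem exists_eigen_mod (hT : IsTrigonalizable k A) {S : Submodule k A}
    (hS : IsSubcomod (k := k) (A := A) S) (hne : S ≠ ⊤) :
    ∃ (g : A) (t : A), IsGroupLikeElem k g ∧ t ∉ S ∧ ∀ φ : A →ₗ[k] k, hit (V := A) φ t - φ g • t ∈ S := by
  classical
  let cQ := ComodSub.Comod.quot (Comod.regular k A) S hS
  have hq : Hoch.IsComodHom A S.mkQ := ComodSub.isComodHom_mkQ (Comod.regular k A) S hS
  have : Nontrivial (A ⧸ S) := Submodule.Quotient.nontrivial_iff.2 hne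
  obtain ⟨x, hx⟩ := exists_ne (0 : A ⧸ S)
  obtain ⟨U, hUfin, hxU, hUs⟩ := exists_finite_subcomod (k := k) (A := A) ({x} : Set (A ⧸ S)) (Set.finite_singleton x)
  let cU := ComodSub.Comod.restr cQ U hUs
  have : Nontrivial U := ⟨⟨⟨x, hxU rfl⟩, 0, fun h => hx (congrArg Subtype.val h)⟩⟩
  obtain ⟨M, -, hM⟩ := exists_isSimpleSub_le (k := k) (A := A) (isSubcomod_top (V := U)) top_ne_bot
  let cM := ComodSub.Comod.restr cU M hM.1
  have hM1 : Module.finrank k M = 1 := hT M inferInstance (isSimpleComod_restr hM)
  have : Nontrivial M := Module.nontrivial_of_finrank_eq_succ hM1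
  obtain ⟨m, hm⟩ := exists_ne (0 : M)
  obtain ⟨g, hg, hmg⟩ := @exists_groupLike_eigen' k _ A _ _ M _ _ cM hM1 m hm
  obtain ⟨t, ht⟩ := S.mkQ_surjective ((m : U) : A ⧸ S)
  refine ⟨g, t, hg, fun htS => hm ?_, fun φ => (Submodule.Quotient.mk_eq_zero S).1 ?_⟩
  · refine Subtype.ext (Subtype.ext ?_)
    rw [← ht]
    exact (Submodule.Quotient.mk_eq_zero S).2 htS
  · show S.mkQ _ = 0
    have h1 : hit φ m = φ g • m := by rw [hit_apply, hmg, sliceR_tmul]
    have h2 : hit φ ((m : U) : A ⧸ S) = φ g • ((m : U) : A ⧸ S) := by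
      refine (hit_restr (c := cQ) hUs φ (m : U)).symm.trans ?_
      refine (congrArg Subtype.val (hit_restr (c := cU) hM.1 φ m).symm).trans ?_
      rw [h1]
      rfl
    rw [map_sub, map_smul, IsComodHom.hit_apply hq, ht, h2, sub_self]

/-- A cocommutative trigonalizable Hopf algebra without nonzero primitive elements is spanned by
its group-like elements. -/
theorem isDiagonalizable_of_isTrigonalizable [Coalgebra.IsCocomm k A] (hT : IsTrigonalizable k A)
    (hprim : ∀ f : A, CoalgebraStruct.comul (R := k) f = f ⊗ₜ[k] (1 : A) + (1 : A) ⊗ₜ[k] f → f = 0) :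
    IsDiagonalizable k A := by
  classical
  let Gr : Set A := {a | IsGroupLikeElem k a}
  let S : Submodule k A := Submodule.span k Gr
  have hli : LinearIndepOn k id Gr := linearIndepOn_isGroupLikeElem
  have hGr : ∀ h ∈ Gr, ∀ φ : A →ₗ[k] k, hit (V := A) φ h = φ h • h := fun h hh φ => by
    rw [hit_regular, (hh : IsGroupLikeElem k h).comul_eq_tmul_self, sliceR_tmul]
  have hS : IsSubcomod (k := k) (A := A) S := isSubcomod_iff_hit.2 fun φ y hy => by
    induction hy using Submodule.span_induction with
    | mem h hh => rw [hGr h hh]; exact Submodule.smul_mem _ _ (Submodule.subset_span hh)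
    | zero => simp
    | add p q _ _ hp hq => rw [map_add]; exact add_mem hp hq
    | smul c p _ hp => rw [map_smul]; exact Submodule.smul_mem _ _ hp
  by_contra hne
  obtain ⟨g, t, hg, htS, hd⟩ := exists_eigen_mod hT hS hne
  let β := Module.Basis.span (v := fun y : Gr => (y : A)) hli
  have hβ : ∀ y : Gr, (β y : A) = y := fun y => congrArg Subtype.val (Module.Basis.span_apply _ _)
  have hrange : Set.range (fun y : Gr => (y : A)) = Gr := Subtype.range_coe
  have hd' : ∀ φ : A →ₗ[k] k, hit (V := A) φ t - φ g • t ∈ Submodule.span k (Set.range fun y : Gr => (y : A)) :=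
    fun φ => by rw [hrange]; exact hd φ
  let c : (A →ₗ[k] k) → (Gr →₀ k) := fun φ => β.repr ⟨_, hd' φ⟩
  have hc : ∀ φ, hit (V := A) φ t = φ g • t + Finsupp.linearCombination k (fun y : Gr => (y : A)) (c φ) := by
    intro φ
    have h := congrArg Subtype.val (β.linearCombination_repr ⟨_, hd' φ⟩)
    rw [Finsupp.linearCombination_apply, Finsupp.sum, Submodule.coe_sum] at h
    rw [Finsupp.linearCombination_apply, Finsupp.sum]
    simp only [Submodule.coe_smul, hβ] at h
    rw [h]
    abel
  -- commuting operators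
  have hsym : ∀ (φ ψ : A →ₗ[k] k) (h : Gr),
      c φ h * (ψ h - ψ g) = c ψ h * (φ h - φ g) := by
    intro φ ψ
    have hexp : ∀ φ ψ : A →ₗ[k] k, hit (V := A) ψ (hit (V := A) φ t) = (φ g * ψ g) • t +
        Finsupp.linearCombination k (fun y : Gr => (y : A))
          (φ g • c ψ + Finsupp.onFinset (c φ).support (fun y => c φ y * ψ y) (fun y hy => by
            simp only [Finsupp.mem_support_iff]; exact left_ne_zero_of_mul hy)) := by
      intro φ ψ
      rw [hc φ, map_add, map_smul, hc ψ, smul_add, smul_smul, map_add, map_smul, add_assoc]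
      congr 1
      congr 1
      rw [Finsupp.linearCombination_apply, Finsupp.linearCombination_apply, map_finsuppSum,
        Finsupp.sum_of_support_subset (Finsupp.onFinset _ _ _) Finsupp.support_onFinset_subset
          (fun (x : Gr) m => m • (x : A)) (fun _ _ => zero_smul _ _), Finsupp.sum]
      refine Finset.sum_congr rfl fun y _ => ?_
      rw [map_smul, hGr y y.2, smul_smul, Finsupp.onFinset_apply]
    have h1 := hexp φ ψ
    rw [hit_hit, formMul_comm, ← hit_hit, hexp ψ φ, mul_comm (ψ g), add_right_inj] at h1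
    intro h
    have h2 := DFunLike.congr_fun (linearIndependent_iff_injective_finsuppLinearCombination.1 hli h1) h
    simp only [Finsupp.add_apply, Finsupp.smul_apply, smul_eq_mul, Finsupp.onFinset_apply] at h2
    linear_combination -h2
  -- correct `t` by group-like elements
  have hφ : ∀ h : Gr, ∃ φ : A →ₗ[k] k, (h : A) ≠ g → φ h - φ g = 1 := fun h => by
    by_cases e : (h : A) = g
    · exact ⟨0, fun hh => absurd e hh⟩
    · obtain ⟨φ, hφ⟩ := (β.coord h).exists_extend
      refine ⟨φ, fun _ => ?_⟩
      have h1 := LinearMap.congr_fun hφ (β h)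
      have h2 := LinearMap.congr_fun hφ (β ⟨g, hg⟩)
      rw [LinearMap.comp_apply, Submodule.subtype_apply, hβ, Module.Basis.coord_apply,
        Module.Basis.repr_self] at h1 h2
      rw [Finsupp.single_eq_same] at h1
      rw [Finsupp.single_eq_of_ne (fun e' => e (congrArg Subtype.val e'))] at h2
      rw [h1, h2, sub_zero]
  choose ψ hψ using hφ
  -- the off-`g` part is a coboundary
  obtain ⟨T, hT⟩ : ∃ T : Finset Gr, ∀ φ, ∀ h ∉ T, (h : A) ≠ g → c φ h = 0 := by
    obtain ⟨W, hWfg, hW⟩ := exists_fg_forall_sliceR_mem (CoalgebraStruct.comul (R := k) t)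
    obtain ⟨s, hs⟩ := hWfg
    -- each `c φ` is the coordinate of an element of a fixed finite span
    let tgt : A →ₗ[k] (Gr →₀ k) := β.repr.toLinearMap ∘ₗ
      (exists_projection (Submodule.span k (Set.range fun y : Gr => (y : A)))).choose.codRestrict _
        (exists_projection (Submodule.span k (Set.range fun y : Gr => (y : A)))).choose_spec.1
    refine ⟨(s.biUnion fun a => (tgt a).support) ∪ (tgt t).support, fun φ h hh hne' => ?_⟩
    have hfix : tgt (hit (V := A) φ t - φ g • t) = c φ := by
      refine congrArg β.repr (Subtype.ext ?_)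
      exact (exists_projection (Submodule.span k (Set.range fun y : Gr => (y : A)))).choose_spec.2 _ (hd' φ)
    rw [← hfix, map_sub, map_smul, Finsupp.sub_apply, Finsupp.smul_apply]
    have h1 : tgt t h = 0 := by
      by_contra h1
      exact hh (Finset.mem_union_right _ (Finsupp.mem_support_iff.2 h1))
    have h2 : tgt (hit (V := A) φ t) h = 0 := by
      have hmem : hit (V := A) φ t ∈ Submodule.span k (s : Set A) := hs ▸ hW φ
      have hle : Submodule.span k (s : Set A) ≤ LinearMap.ker (Finsupp.lapply h ∘ₗ tgt) :=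
        Submodule.span_le.2 fun a ha => by
          show tgt a h = 0
          by_contra h2
          exact hh (Finset.mem_union_left _ (Finset.mem_biUnion.2 ⟨a, ha, Finsupp.mem_support_iff.2 h2⟩))
      exact hle hmem
    rw [h1, h2, smul_zero, sub_zero]
  let T' : Finset Gr := T.filter fun h : Gr => (h : A) ≠ g
  let t' : A := t - ∑ h ∈ T', c (ψ h) h • (h : A)
  have ht' : ∀ φ : A →ₗ[k] k, hit (V := A) φ t' = φ g • t' + c φ ⟨g, hg⟩ • g := by
    intro φ
    have hg' : (⟨g, hg⟩ : Gr) ∉ T' := fun h => (Finset.mem_filter.1 h).2 rfl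
    have hsum : Finsupp.linearCombination k (fun y : Gr => (y : A)) (c φ) =
        (∑ h ∈ T', c φ h • (h : A)) + c φ ⟨g, hg⟩ • g := by
      rw [Finsupp.linearCombination_apply, Finsupp.sum_of_support_subset (c φ) (s := insert ⟨g, hg⟩ T') ?_
        (fun (x : Gr) m => m • (x : A)) (fun _ _ => zero_smul _ _), Finset.sum_insert hg', add_comm]
      intro h hh
      by_cases e : (h : A) = g
      · exact Finset.mem_insert.2 (Or.inl (Subtype.ext e))
      · refine Finset.mem_insert_of_mem (Finset.mem_filter.2 ⟨?_, e⟩)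
        by_contra hnT
        exact Finsupp.mem_support_iff.1 hh (hT φ h hnT e)
    have hterm : ∀ h ∈ T', c φ h • (h : A) - hit (V := A) φ (c (ψ h) h • (h : A)) =
        φ g • (-(c (ψ h) h • (h : A))) := by
      intro h hh
      have he := hψ h (Finset.mem_filter.1 hh).2
      have := hsym φ (ψ h) h
      rw [he, mul_one] at this
      rw [map_smul, hGr h h.2, smul_smul, smul_neg, smul_smul, ← sub_smul, ← neg_smul, this]
      congr 1
      ring
    calc hit (V := A) φ t' = φ g • t + ((∑ h ∈ T', (c φ h • (h : A) - hit (V := A) φ (c (ψ h) h • (h : A)))) +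
          c φ ⟨g, hg⟩ • g) := by
          rw [map_sub, hc φ, hsum, map_sum, Finset.sum_sub_distrib]
          abel
      _ = _ := by
          rw [Finset.sum_congr rfl hterm, ← Finset.smul_sum, Finset.sum_neg_distrib, smul_neg, smul_sub]
          abel
  have ht'S : t' ∉ S := fun h => htS (by
    have : t = t' + ∑ h ∈ T', c (ψ h) h • (h : A) := (sub_add_cancel _ _).symm
    rw [this]
    exact add_mem h (Submodule.sum_mem _ fun y _ => Submodule.smul_mem _ _ (Submodule.subset_span y.2)))
  let b : A := t' - CoalgebraStruct.counit (R := k) t' • g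
  have hb : CoalgebraStruct.comul (R := k) b = b ⊗ₜ[k] g + g ⊗ₜ[k] b := eq_of_forall_sliceR_eq fun φ => by
    have e1 : c φ ⟨g, hg⟩ = φ b := by
      have h := congrArg (CoalgebraStruct.counit (R := k) (A := A)) (ht' φ)
      rw [counit_hit, map_add, map_smul, map_smul, (hg : IsGroupLikeElem k g).counit_eq_one, smul_eq_mul,
        smul_eq_mul, mul_one] at h
      rw [map_sub, map_smul, smul_eq_mul, h]
      ring
    rw [← hit_regular, map_add, sliceR_tmul, sliceR_tmul]
    simp only [b] at e1 ⊢
    rw [map_sub, map_smul, hGr g hg, ht', e1]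
    module
  have hgi := (hg : IsGroupLikeElem k g).antipode
  have hp : CoalgebraStruct.comul (R := k) (HopfAlgebra.antipode k g * b) =
      (HopfAlgebra.antipode k g * b) ⊗ₜ[k] (1 : A) + (1 : A) ⊗ₜ[k] (HopfAlgebra.antipode k g * b) := by
    rw [Bialgebra.comul_mul, hgi.comul_eq_tmul_self, hb, mul_add, Algebra.TensorProduct.tmul_mul_tmul,
      Algebra.TensorProduct.tmul_mul_tmul, (hg : IsGroupLikeElem k g).antipode_mul_cancel]
  have h0 := congrArg (g * ·) (hprim _ hp)
  simp only [← mul_assoc, (hg : IsGroupLikeElem k g).mul_antipode_cancel, one_mul, mul_zero] at h0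
  refine ht'S ?_
  rw [show t' = CoalgebraStruct.counit (R := k) t' • g from sub_eq_zero.1 h0]
  exact Submodule.smul_mem _ _ (Submodule.subset_span hg)

/-- A cocommutative Hopf algebra over an algebraically closed field without nonzero primitive
elements is spanned by its group-like elements. -/
theorem isDiagonalizable_of_isCocomm [IsAlgClosed k] [Coalgebra.IsCocomm k A]
    (hprim : ∀ f : A, CoalgebraStruct.comul (R := k) f = f ⊗ₜ[k] (1 : A) + (1 : A) ⊗ₜ[k] f → f = 0) :
    IsDiagonalizable k A :=
  isDiagonalizable_of_isTrigonalizable isTrigonalizable_of_isCocomm hprim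

end Groth.Agent.HopfQuot
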