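import Groth.Agent.HopfLib.ComodFlag
import Groth.Agent.HopfQuot.Trigonalizable

/-!
# Unipotent groups: socle filtration, primitive elements, subgroups
-/

set_option autoImplicit false

noncomputable section

open TensorProduct HopfRep
open Groth.Agent.HopfLib
open Coalgebra (comul counit)

universe u v w

namespace Groth.Agent.HopfQuot

variable {k : Type u} [Field k] {A : Type v} [CommRing A] [Bialgebra k A]

theorem hit_regular (g : A →ₗ[k] k) (a : A) :
    hit (V := A) g a = sliceR g (CoalgebraStruct.comul (R := k) a) := rfl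

theorem counit_hit (g : A →ₗ[k] k) (a : A) :
    CoalgebraStruct.counit (R := k) (hit (V := A) g a) = g a := by
  have e : ∀ t : A ⊗[k] A, CoalgebraStruct.counit (R := k) (sliceR g t) =
      g (TensorProduct.lid k A (LinearMap.rTensor A (CoalgebraStruct.counit (R := k)) t)) := by
    intro t
    induction t using TensorProduct.induction_on with
    | zero => simp
    | add p q hp hq => simp only [map_add, hp, hq]
    | tmul p q => simp [mul_comm]
  rw [hit_regular, e, Coalgebra.rTensor_counit_comul, TensorProduct.lid_tmul, one_smul]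

theorem hit_one (g : A →ₗ[k] k) : hit (V := A) g (1 : A) = g 1 • 1 := by
  rw [hit_regular, Bialgebra.comul_one, Algebra.TensorProduct.one_def, sliceR_tmul]

theorem hit_eq_add (φ : A →ₗ[k] k) (a : A) :
    hit (V := A) φ a = hit (φ - φ 1 • CoalgebraStruct.counit) a + φ 1 • a := by
  have h : hit (V := A) φ a =
      hit ((φ - φ 1 • CoalgebraStruct.counit) + φ 1 • CoalgebraStruct.counit) a := by rw [sub_add_cancel]
  rw [h, hit_add, hit_smul, hit_counit]

theorem sub_smul_counit_one (φ : A →ₗ[k] k) :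
    (φ - φ 1 • CoalgebraStruct.counit (R := k) (A := A)) 1 = 0 := by
  simp [Bialgebra.counit_one]

/-- The augmented part of a step of the socle filtration. -/
def augFil (k : Type u) [Field k] (A : Type v) [CommRing A] [Bialgebra k A] (r : ℕ) : Submodule k A :=
  socFil k A r ⊓ LinearMap.ker (CoalgebraStruct.counit (R := k) (A := A))

theorem one_mem_socFil (r : ℕ) : (1 : A) ∈ socFil k A (r + 1) :=
  socFil_mono (Nat.le_add_left 1 r) (socFil_one (k := k) (A := A) ▸ Submodule.mem_span_singleton_self _)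

theorem sub_counit_mem_augFil {r : ℕ} {a : A} (ha : a ∈ socFil k A (r + 1)) :
    a - algebraMap k A (CoalgebraStruct.counit (R := k) a) ∈ augFil k A (r + 1) := by
  refine ⟨sub_mem ha ?_, ?_⟩
  · rw [Algebra.algebraMap_eq_smul_one]
    exact Submodule.smul_mem _ _ (one_mem_socFil r)
  · show CoalgebraStruct.counit _ = (0 : k)
    rw [map_sub, Bialgebra.counit_algebraMap, sub_self]

/-- An augmented element of the next step is primitive modulo the augmented previous step. -/
theorem comul_sub_mem_of_augFil {r : ℕ} {a : A} (ha : a ∈ augFil k A (r + 1)) :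
    CoalgebraStruct.comul (R := k) a - a ⊗ₜ[k] (1 : A) - (1 : A) ⊗ₜ[k] a ∈
      LinearMap.range ((augFil k A r).subtype.rTensor A) := by
  refine mem_range_rTensor_subtype_iff.2 fun φ => ?_
  obtain ⟨ha1, ha0 : CoalgebraStruct.counit (R := k) a = 0⟩ := ha
  let g := φ - φ 1 • CoalgebraStruct.counit (R := k) (A := A)
  have hg : g 1 = 0 := sub_smul_counit_one φ
  have hga : g a = φ a := by simp [g, ha0]
  have e : sliceR φ (CoalgebraStruct.comul (R := k) a - a ⊗ₜ[k] (1 : A) - (1 : A) ⊗ₜ[k] a) =
      hit g a - g a • (1 : A) := by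
    rw [map_sub, map_sub, sliceR_tmul, sliceR_tmul, ← hit_regular, hit_eq_add φ a, hga]
    abel
  rw [e]
  have h := mem_socFil_succ.1 ha1 g hg
  refine ⟨?_, ?_⟩
  · cases r with
    | zero =>
      rw [socFil, Submodule.mem_bot] at h
      have := counit_hit g a
      rw [h, map_zero] at this
      rw [h, ← this, zero_smul, sub_zero]
      exact zero_mem _
    | succ r => exact sub_mem h (Submodule.smul_mem _ _ (one_mem_socFil r))
  · show CoalgebraStruct.counit _ = (0 : k)
    rw [map_sub, map_smul, counit_hit, Bialgebra.counit_one, smul_eq_mul, mul_one, sub_self]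

theorem augFil_zero : augFil k A 0 = ⊥ := by rw [augFil, socFil, bot_inf_eq]

theorem augFil_one : augFil k A 1 = ⊥ := by
  rw [eq_bot_iff]
  rintro a ⟨ha, ha0 : CoalgebraStruct.counit (R := k) a = 0⟩
  rw [socFil_one] at ha
  obtain ⟨c, rfl⟩ := Submodule.mem_span_singleton.1 ha
  rw [map_smul, Bialgebra.counit_one, smul_eq_mul, mul_one] at ha0
  rw [ha0, zero_smul]
  exact zero_mem _

theorem comul_eq_of_augFil_two {a : A} (ha : a ∈ augFil k A 2) :
    CoalgebraStruct.comul (R := k) a = a ⊗ₜ[k] (1 : A) + (1 : A) ⊗ₜ[k] a := by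
  obtain ⟨t, ht⟩ := comul_sub_mem_of_augFil ha
  have : Subsingleton (augFil k A 1) := by rw [augFil_one]; infer_instance
  rw [Subsingleton.elim t 0, map_zero, eq_comm, sub_sub, sub_eq_zero] at ht
  exact ht

theorem isUnipotent_iff_forall_mem_socFil :
    IsUnipotent k A ↔ ∀ a : A, ∃ r, a ∈ socFil k A (r + 1) := by
  have hd : Directed (· ≤ ·) fun r => socFil k A (r + 1) :=
    directed_of_isDirected_le fun i j h => socFil_mono (Nat.add_le_add_right h 1)
  refine ⟨fun hU a => (Submodule.mem_iSup_of_directed _ hd).1 (iSup_socFil_eq_top hU ▸ Submodule.mem_top),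
    fun h V _ _ _ _ _ => ?_⟩
  refine isUnipotent_of_filtration (fun r => socFil k A (r + 1)) socFil_one
    (fun i j hij => socFil_mono (Nat.add_le_add_right hij 1))
    (eq_top_iff.2 fun a _ => (Submodule.mem_iSup_of_directed _ hd).2 (h a)) (fun r => ?_) V
  rintro _ ⟨a, ha, rfl⟩
  exact comul_mem_socFil r a ha

/-- A unipotent coordinate ring bigger than the scalars has a primitive element. -/
theorem exists_primitive (hU : IsUnipotent k A) (hne : ∃ a : A, a ≠ algebraMap k A (CoalgebraStruct.counit a)) :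
    ∃ x : A, x ≠ 0 ∧ CoalgebraStruct.comul (R := k) x = x ⊗ₜ[k] (1 : A) + (1 : A) ⊗ₜ[k] x := by
  by_contra h
  have h2 : socFil k A 2 ≤ socFil k A 1 := fun a ha => by
    have h0 : a - algebraMap k A (CoalgebraStruct.counit (R := k) a) = 0 := by
      by_contra hx
      exact h ⟨_, hx, comul_eq_of_augFil_two (sub_counit_mem_augFil ha)⟩
    rw [sub_eq_zero.1 h0, socFil_one, Algebra.algebraMap_eq_smul_one]
    exact Submodule.smul_mem _ _ (Submodule.mem_span_singleton_self _)
  have hall : ∀ r, socFil k A (r + 1) ≤ socFil k A 1 := by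
    intro r
    induction r with
    | zero => exact le_rfl
    | succ r ih => exact fun a ha => h2 (mem_socFil_succ.2 fun g hg => ih (mem_socFil_succ.1 ha g hg))
  obtain ⟨a, ha⟩ := hne
  obtain ⟨r, hr⟩ := isUnipotent_iff_forall_mem_socFil.1 hU a
  have h1 := hall r hr
  rw [socFil_one] at h1
  obtain ⟨c, rfl⟩ := Submodule.mem_span_singleton.1 h1
  exact ha (by rw [map_smul, Bialgebra.counit_one, smul_eq_mul, mul_one, Algebra.algebraMap_eq_smul_one])

section Map

variable {B : Type w} [CommRing B] [Bialgebra k B]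

theorem map_hit (π : A →ₐc[k] B) (g : B →ₗ[k] k) (a : A) :
    π (hit (V := A) (g ∘ₗ (π : A →ₗ[k] B)) a) = hit (V := B) g (π a) := by
  rw [hit_regular, hit_regular, ← CoalgHomClass.map_comp_comul_apply π a]
  generalize CoalgebraStruct.comul (R := k) a = t
  induction t using TensorProduct.induction_on with
  | zero => simp
  | add p q hp hq => simp only [map_add, hp, hq]
  | tmul p q => simp

theorem map_mem_socFil (π : A →ₐc[k] B) :
    ∀ (r : ℕ), ∀ a ∈ socFil k A r, π a ∈ socFil k B r := by
  intro r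
  induction r with
  | zero =>
    intro a ha
    rw [socFil, Submodule.mem_bot] at ha
    rw [ha, map_zero]
    exact zero_mem _
  | succ r ih =>
    intro a ha
    refine mem_socFil_succ.2 fun g hg => ?_
    rw [← map_hit]
    refine ih _ (mem_socFil_succ.1 ha _ ?_)
    show g (π 1) = 0
    rw [map_one, hg]

theorem isUnipotent_of_surjective (π : A →ₐc[k] B) (hπ : Function.Surjective π) (hU : IsUnipotent k A) :
    IsUnipotent k B :=
  isUnipotent_iff_forall_mem_socFil.2 fun b => by
    obtain ⟨a, rfl⟩ := hπ b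
    obtain ⟨r, hr⟩ := isUnipotent_iff_forall_mem_socFil.1 hU a
    exact ⟨r, map_mem_socFil π _ a hr⟩

end Map

/-- A comodule whose coefficients lie in a filtered piece with trivial bottom has a fixed vector. -/
theorem exists_fixed_of_cf_mem (C : ℕ → Submodule k A) (h0 : C 0 = Submodule.span k {(1 : A)})
    (hmono : Monotone C)
    (hC : ∀ r, ∀ a ∈ C (r + 1), ∀ g : A →ₗ[k] k, g 1 = 0 → hit (V := A) g a ∈ C r)
    {V : Type w} [AddCommGroup V] [Module k V] [Comod k A V] {v₀ : V} (hv₀ : v₀ ≠ 0)
    (hV : ∃ r, ∀ f : V →ₗ[k] k, cf (A := A) f v₀ ∈ C r) :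
    fixedPts k A V ≠ ⊥ := by
  classical
  have hex : ∃ r, ∃ v : V, v ≠ 0 ∧ ∀ f : V →ₗ[k] k, cf (A := A) f v ∈ C r := by
    obtain ⟨r, hr⟩ := hV
    exact ⟨r, v₀, hv₀, hr⟩
  obtain ⟨v, hv0, hv⟩ := Nat.find_spec hex
  refine (Submodule.ne_bot_iff _).2 ⟨v, mem_fixedPts_of_hit fun g hg => ?_, hv0⟩
  by_contra hne
  have hcf : ∀ f : V →ₗ[k] k, cf (A := A) f (hit g v) = hit (V := A) g (cf (A := A) f v) := fun f =>
    IsComodHom.hit_apply (isComodHom_cf (A := A) f) g v
  rcases Nat.eq_zero_or_pos (Nat.find hex) with h | h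
  · obtain ⟨f, hf⟩ := exists_cf_ne_zero (A := A) (k := k) hne
    refine hf ?_
    have h1 := hv f
    rw [h, h0] at h1
    obtain ⟨c, hc⟩ := Submodule.mem_span_singleton.1 h1
    rw [hcf, ← hc, map_smul, hit_one, hg, zero_smul, smul_zero]
  · refine Nat.find_min hex (Nat.sub_lt h one_pos) ⟨hit g v, hne, fun f => ?_⟩
    rw [hcf]
    refine hC _ _ ?_ g hg
    rw [show Nat.find hex - 1 + 1 = Nat.find hex by omega]
    exact hv f

theorem exists_fixed_of_simple_fixed {V : Type v} [AddCommGroup V] [Module k V] [cV : Comod k A V]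
    [Module.Finite k V] [Nontrivial V]
    (h : ∀ (L : Type v) [AddCommGroup L] [Module k L] [Comod k A L], Module.Finite k L →
      IsSimpleComod k A L → fixedPts k A L ≠ ⊥) : fixedPts k A V ≠ ⊥ := by
  obtain ⟨L, -, hL⟩ := exists_isSimpleSub_le (k := k) (A := A) (isSubcomod_top (V := V)) top_ne_bot
  let cL := ComodSub.Comod.restr cV L hL.1
  obtain ⟨l, hl, hl0⟩ := (fixedPts k A L).exists_mem_ne_zero_of_ne_bot (h L inferInstance (isSimpleComod_restr hL))
  refine (Submodule.ne_bot_iff _).2 ⟨(l : V), ?_, fun h => hl0 (Subtype.ext h)⟩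
  show cV.coact (l : V) = (l : V) ⊗ₜ[k] (1 : A)
  rw [← ComodSub.restr_coact_coe cV L hL.1 l, show cL.coact l = l ⊗ₜ[k] (1 : A) from hl, LinearMap.rTensor_tmul]
  rfl

theorem isUnipotent_of_scalar (h : ∀ a : A, a = algebraMap k A (CoalgebraStruct.counit a)) : IsUnipotent k A :=
  isUnipotent_iff_forall_mem_socFil.2 fun a => ⟨0, by
    rw [h a, socFil_one, Algebra.algebraMap_eq_smul_one]
    exact Submodule.smul_mem _ _ (Submodule.mem_span_singleton_self _)⟩

end Groth.Agent.HopfQuot
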