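import Groth.Agent.HopfQuot.UnipotentBaseChange
import Groth.Agent.HopfQuot.UnipotentCrit
import Groth.Agent.HopfQuot.CocommDiag
import Groth.Agent.HopfQuot.Trigonalizable
import Groth.Agent.HopfLib.Integral
import Mathlib.LinearAlgebra.Eigenspace.Triangularizable

/-!
# The unipotent quotient of a commutative affine group and the multiplicative part
-/

set_option autoImplicit false
set_option linter.unusedSectionVars false

noncomputable section

open TensorProduct HopfRep
open Groth.Agent.HopfLib
open Coalgebra (comul counit)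

universe u v w

namespace Groth.Agent.HopfQuot.CommMultPart

variable {k : Type u} [Field k] {A : Type u} [CommRing A] [HopfAlgebra k A]

/-! ### The subalgebra of the socle filtration -/

theorem mul_mem_socFil : ∀ (n r s : ℕ), r + s = n → ∀ a ∈ socFil k A (r + 1), ∀ b ∈ socFil k A (s + 1),
    a * b ∈ socFil k A (n + 1) := by
  intro n
  induction n with
  | zero =>
    intro r s hn a ha b hb
    obtain ⟨rfl, rfl⟩ : r = 0 ∧ s = 0 := by omega
    rw [socFil_one] at ha hb ⊢
    obtain ⟨c, rfl⟩ := Submodule.mem_span_singleton.1 ha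
    obtain ⟨d, rfl⟩ := Submodule.mem_span_singleton.1 hb
    rw [smul_mul_smul_comm, one_mul]
    exact Submodule.smul_mem _ _ (Submodule.mem_span_singleton_self _)
  | succ n ih =>
    intro r s hn a ha b hb
    have hred : ∀ (r : ℕ) (a : A), a ∈ socFil k A (r + 1) →
        CoalgebraStruct.comul (R := k) a - a ⊗ₜ[k] (1 : A) ∈
          LinearMap.range ((socFil k A r).subtype.rTensor A) := fun r a ha =>
      mem_range_rTensor_subtype_iff.2 fun φ => by
        rw [map_sub, sliceR_tmul, ← hit_regular, hit_eq_add φ a, add_sub_cancel_right]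
        exact mem_socFil_succ.1 ha _ (sub_smul_counit_one φ)
    obtain ⟨t, ht⟩ := hred r a ha
    obtain ⟨v, hv⟩ := hred s b hb
    rw [eq_sub_iff_add_eq] at ht hv
    refine mem_socFil_succ.2 fun φ hφ => ?_
    rw [hit_regular, Bialgebra.comul_mul, ← ht, ← hv, add_mul, mul_add, mul_add, map_add, map_add, map_add]
    have hP : ∀ p ∈ socFil k A r, ∀ q : A, q ∈ socFil k A (s + 1) → p * q ∈ socFil k A (n + 1) := by
      intro p hp q hq
      cases r with
      | zero => rw [socFil, Submodule.mem_bot] at hp; simp [hp]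
      | succ r => exact ih r s (by omega) p hp q hq
    have hQ : ∀ p ∈ socFil k A (r + 1), ∀ q : A, q ∈ socFil k A s → p * q ∈ socFil k A (n + 1) := by
      intro p hp q hq
      cases s with
      | zero => rw [socFil, Submodule.mem_bot] at hq; simp [hq]
      | succ s => exact ih r s (by omega) p hp q hq
    refine add_mem (add_mem ?_ ?_) (add_mem ?_ ?_)
    · clear ht hv
      induction t using TensorProduct.induction_on generalizing v with
      | zero => simp
      | add p q hp hq =>
        rw [map_add, add_mul, map_add]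
        exact add_mem (hp v) (hq v)
      | tmul p q =>
        induction v using TensorProduct.induction_on with
        | zero => simp
        | add p' q' hp hq => rw [map_add, mul_add, map_add]; exact add_mem hp hq
        | tmul p' q' =>
          rw [LinearMap.rTensor_tmul, LinearMap.rTensor_tmul, Algebra.TensorProduct.tmul_mul_tmul, sliceR_tmul]
          exact Submodule.smul_mem _ _ (hP p p.2 p' (socFil_mono (Nat.le_succ s) p'.2))
    · clear hv ht
      induction t using TensorProduct.induction_on with
      | zero => simp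
      | add p q hp hq => rw [map_add, add_mul, map_add]; exact add_mem hp hq
      | tmul p q =>
        rw [LinearMap.rTensor_tmul, Algebra.TensorProduct.tmul_mul_tmul, sliceR_tmul]
        exact Submodule.smul_mem _ _ (hP p p.2 b hb)
    · clear hv ht
      induction v using TensorProduct.induction_on with
      | zero => simp
      | add p q hp hq => rw [map_add, mul_add, map_add]; exact add_mem hp hq
      | tmul p q =>
        rw [LinearMap.rTensor_tmul, Algebra.TensorProduct.tmul_mul_tmul, sliceR_tmul]
        exact Submodule.smul_mem _ _ (hQ a ha p p.2)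
    · rw [Algebra.TensorProduct.tmul_mul_tmul, one_mul, sliceR_tmul, hφ, zero_smul]
      exact zero_mem _

theorem antipode_mem_socFil [Coalgebra.IsCocomm k A] : ∀ (r : ℕ) (a : A), a ∈ socFil k A r →
    HopfAlgebraStruct.antipode k a ∈ socFil k A r := by
  intro r
  induction r with
  | zero => intro a ha; rw [socFil, Submodule.mem_bot] at ha; simp [ha]
  | succ r ih =>
    intro a ha
    refine mem_socFil_succ.2 fun φ hφ => ?_
    have e : hit (V := A) φ (HopfAlgebraStruct.antipode k a) =
        HopfAlgebraStruct.antipode k (hit (V := A) (φ ∘ₗ HopfAlgebraStruct.antipode k) a) := by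
      rw [hit_regular, hit_regular, comul_antipode, Coalgebra.comm_comul]
      generalize CoalgebraStruct.comul (R := k) a = t
      induction t using TensorProduct.induction_on with
      | zero => simp
      | add p q hp hq => simp only [map_add, hp, hq]
      | tmul p q => simp
    rw [e]
    exact ih _ (mem_socFil_succ.1 ha _ (by simp [hφ]))

variable (k A) in
/-- The union of the socle filtration: the coordinate ring of the largest unipotent quotient. -/
def unipAlg : Subalgebra k A :=
  (⨆ r, socFil k A (r + 1)).toSubalgebra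
    (Submodule.mem_iSup_of_mem 0 (one_mem_socFil 0))
    (fun x y hx hy => by
      have hd : Directed (· ≤ ·) fun r => socFil k A (r + 1) :=
        directed_of_isDirected_le fun i j h => socFil_mono (Nat.add_le_add_right h 1)
      obtain ⟨r, hr⟩ := (Submodule.mem_iSup_of_directed _ hd).1 hx
      obtain ⟨s, hs⟩ := (Submodule.mem_iSup_of_directed _ hd).1 hy
      exact Submodule.mem_iSup_of_mem (r + s) (mul_mem_socFil _ r s rfl x hr y hs))

theorem mem_unipAlg {a : A} : a ∈ unipAlg k A ↔ ∃ r, a ∈ socFil k A (r + 1) :=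
  Submodule.mem_iSup_of_directed _ (directed_of_isDirected_le fun i j h => socFil_mono (Nat.add_le_add_right h 1))

theorem isHopfSubalgebra_unipAlg [Coalgebra.IsCocomm k A] :
    SGA3.IsHopfSubalgebra k A (unipAlg k A) := by
  refine ⟨fun a ha => ?_, fun a ha => ?_⟩
  · obtain ⟨r, hr⟩ := mem_unipAlg.1 ha
    refine (iSup₂_le fun i hi => ?_ : _ ≤ LinearMap.range
      (TensorProduct.map (unipAlg k A).val.toLinearMap (unipAlg k A).val.toLinearMap)) (comul_mem_socFil r a hr)
    rintro _ ⟨t, rfl⟩
    induction t using TensorProduct.induction_on with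
    | zero => simp
    | add p q hp hq => rw [map_add]; exact add_mem hp hq
    | tmul p q =>
      exact ⟨(⟨p, mem_unipAlg.2 ⟨_, p.2⟩⟩ : unipAlg k A) ⊗ₜ (⟨q, mem_unipAlg.2 ⟨_, q.2⟩⟩ : unipAlg k A), rfl⟩
  · obtain ⟨r, hr⟩ := mem_unipAlg.1 ha
    exact mem_unipAlg.2 ⟨r, antipode_mem_socFil _ _ hr⟩

/-- An injective bialgebra map reflects the socle filtration. -/
theorem mem_socFil_of_injective {B : Type w} [CommRing B] [Bialgebra k B] (ψ : B →ₐc[k] A)
    (hψ : Function.Injective ψ) : ∀ (r : ℕ) (b : B), ψ b ∈ socFil k A r → b ∈ socFil k B r := by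
  intro r
  induction r with
  | zero =>
    intro b hb
    rw [socFil, Submodule.mem_bot] at hb ⊢
    exact hψ (hb.trans (map_zero ψ).symm)
  | succ r ih =>
    intro b hb
    refine mem_socFil_succ.2 fun g hg => ih _ ?_
    obtain ⟨L, hL⟩ := (ψ : B →ₗ[k] A).exists_leftInverse_of_injective (LinearMap.ker_eq_bot.2 hψ)
    have hLb : ∀ x, L (ψ x) = x := fun x => LinearMap.congr_fun hL x
    have e : (g ∘ₗ L) ∘ₗ (ψ : B →ₗ[k] A) = g := LinearMap.ext fun x => congrArg g (hLb x)
    have h := map_hit ψ (g ∘ₗ L) b
    rw [e] at h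
    rw [h]
    refine mem_socFil_succ.1 hb _ ?_
    rw [LinearMap.comp_apply, ← map_one ψ, hLb, hg]

/-- Without primitive elements the socle filtration is the scalars. -/
theorem socFil_le_one (hprim : ∀ x : A, CoalgebraStruct.comul (R := k) x =
      x ⊗ₜ[k] (1 : A) + (1 : A) ⊗ₜ[k] x → x = 0) : ∀ r, socFil k A (r + 1) ≤ socFil k A 1 := by
  have h2 : socFil k A 2 ≤ socFil k A 1 := fun a ha => by
    rw [sub_eq_zero.1 (hprim _ (comul_eq_of_augFil_two (sub_counit_mem_augFil ha))), socFil_one,
      Algebra.algebraMap_eq_smul_one]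
    exact Submodule.smul_mem _ _ (Submodule.mem_span_singleton_self _)
  intro r
  induction r with
  | zero => exact le_rfl
  | succ r ih => exact fun a ha => h2 (mem_socFil_succ.2 fun g hg => ih (mem_socFil_succ.1 ha g hg))

/-! ### Translations -/

theorem hit_mul_groupLike {g : A} (hg : IsGroupLikeElem k g) (φ : A →ₗ[k] k) (a : A) :
    hit (V := A) φ (g * a) = g * hit (V := A) (φ ∘ₗ LinearMap.mulLeft k g) a := by
  rw [hit_regular, hit_regular, Bialgebra.comul_mul, hg.comul_eq_tmul_self]
  generalize CoalgebraStruct.comul (R := k) a = t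
  induction t using TensorProduct.induction_on with
  | zero => simp
  | add p q hp hq => simp only [map_add, mul_add, hp, hq]
  | tmul p q => simp

/-! ### The decomposition over an algebraically closed field -/

section Decomp

variable [Coalgebra.IsCocomm k A]

theorem hit_comm (φ ψ : A →ₗ[k] k) (a : A) :
    hit (V := A) φ (hit (V := A) ψ a) = hit (V := A) ψ (hit (V := A) φ a) := by
  rw [hit_hit, hit_hit, formMul_comm]

theorem hit_commute (φ ψ : A →ₗ[k] k) :
    Commute (hit (V := A) φ : Module.End k A) (hit (V := A) ψ : Module.End k A) :=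
  LinearMap.ext fun a => hit_comm φ ψ a

theorem isSubcomod_maxGenEigenspace (φ : A →ₗ[k] k) (μ : k) :
    IsSubcomod (k := k) (A := A) (Module.End.maxGenEigenspace (hit (V := A) φ : Module.End k A) μ) :=
  isSubcomod_iff_hit.2 fun ψ a ha =>
    Module.End.mapsTo_maxGenEigenspace_of_comm (hit_commute φ ψ) μ ha

/-- In a finite subcomodule on which every `hit φ` has the single eigenvalue `μ φ`, outside of a proper
subcomodule there is an eigenvector modulo it. -/
theorem exists_notMem_forall_hit_sub {U T : Submodule k A} [Module.Finite k U]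
    (hU : IsSubcomod (k := k) (A := A) U)
    {μ : (A →ₗ[k] k) → k}
    (hμ : ∀ φ, ∀ x ∈ U, x ∈ Module.End.maxGenEigenspace (hit (V := A) φ : Module.End k A) (μ φ))
    (hTU : ¬ U ≤ T) :
    ∃ t ∈ U, t ∉ T ∧ ∀ φ : A →ₗ[k] k, hit (V := A) φ t - μ φ • t ∈ T := by
  obtain ⟨a, haU, haT⟩ := Set.not_subset.1 hTU
  have hne : {t : A | t ∈ U ∧ t ∉ T}.Nonempty := ⟨a, haU, haT⟩
  let d : A → ℕ := fun t => Module.finrank k (orbit k A t)
  obtain ⟨t, ⟨htU, htT⟩, htmin⟩ : ∃ t, (t ∈ U ∧ t ∉ T) ∧ ∀ x, x ∈ U → x ∉ T → d t ≤ d x := by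
    obtain ⟨t, ht, htmin⟩ := WellFounded.has_min (InvImage.wf d Nat.lt_wfRel.wf) _ hne
    exact ⟨t, ht, fun x h1 h2 => le_of_not_gt (htmin x ⟨h1, h2⟩)⟩
  refine ⟨t, htU, htT, ?_⟩
  intro φ
  by_contra hx
  let N : Module.End k A := (hit (V := A) φ : Module.End k A) - algebraMap k _ (μ φ)
  have hN : ∀ y, N y = hit (V := A) φ y - μ φ • y := fun y => by simp [N]
  have hcomm : ∀ ψ y, N (hit (V := A) ψ y) = hit (V := A) ψ (N y) := fun ψ y => by
    rw [hN, hN, map_sub, map_smul, hit_comm]
  have horb : orbit k A (N t) = (orbit k A t).map N := by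
    ext y
    constructor
    · rintro ⟨ψ, rfl⟩
      exact ⟨_, ⟨ψ, rfl⟩, hcomm ψ t⟩
    · rintro ⟨_, ⟨ψ, rfl⟩, rfl⟩
      exact ⟨ψ, (hcomm ψ t).symm⟩
  have hNU : N t ∈ U := by
    rw [hN]
    exact sub_mem (IsSubcomod.hit_mem hU φ htU) (Submodule.smul_mem _ _ htU)
  have hle : d t ≤ d (N t) := htmin _ hNU (by rw [hN]; exact hx)
  have hfin := finite_orbit (k := k) (A := A) (V := A) t
  have hsub : orbit k A (N t) ≤ orbit k A t := by
    rintro _ ⟨ψ, rfl⟩
    refine IsSubcomod.hit_mem (isSubcomod_orbit t) ψ ?_
    rw [hN]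
    exact sub_mem (IsSubcomod.hit_mem (isSubcomod_orbit t) φ (mem_orbit_self t))
      (Submodule.smul_mem _ _ (mem_orbit_self t))
  have heq : (orbit k A t).map N = orbit k A t :=
    horb ▸ Submodule.eq_of_le_of_finrank_le hsub hle
  have hpow : ∀ n : ℕ, (orbit k A t).map (N ^ n) = orbit k A t := fun n => by
    induction n with
    | zero => rw [pow_zero, Module.End.one_eq_id, Submodule.map_id]
    | succ n ih => rw [pow_succ, Module.End.mul_eq_comp, Submodule.map_comp, heq, ih]
  obtain ⟨n, hn⟩ := Module.End.mem_maxGenEigenspace _ _ _ |>.1 (hμ φ t htU)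
  change ((N ^ n) t = 0) at hn
  have hcommn : ∀ (n : ℕ) (ψ : A →ₗ[k] k) (y : A),
      (N ^ n) (hit (V := A) ψ y) = hit (V := A) ψ ((N ^ n) y) := fun n ψ y => by
    induction n generalizing y with
    | zero => simp
    | succ n ih => rw [pow_succ', Module.End.mul_apply, Module.End.mul_apply, ih, hcomm]
  have hn' : (N ^ n) t = 0 := hn
  have htz : t ∈ (orbit k A t).map (N ^ n) := (hpow n).symm ▸ mem_orbit_self t
  obtain ⟨_, ⟨ψ, rfl⟩, hψ⟩ := htz
  refine htT ?_
  rw [← hψ]
  show (N ^ n) (hit (V := A) ψ t) ∈ T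
  rw [hcommn, hn', map_zero]
  exact zero_mem _

theorem exists_socFil_of_fg {W : Submodule k A} (hfin : Module.Finite k W)
    (hW : W ≤ Subalgebra.toSubmodule (unipAlg k A)) : ∃ r, W ≤ socFil k A (r + 1) := by
  obtain ⟨S, rfl⟩ := Module.Finite.iff_fg.1 hfin
  have hmem : ∀ x : S, (x : A) ∈ unipAlg k A := fun x =>
    (Subalgebra.mem_toSubmodule (unipAlg k A)).1 (hW (Submodule.subset_span x.2))
  choose n hn using fun x : S => (mem_unipAlg (k := k) (A := A)).1 (hmem x)
  refine ⟨Finset.univ.sup n, Submodule.span_le.2 fun x hx => ?_⟩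
  have hle : n ⟨x, hx⟩ + 1 ≤ Finset.univ.sup n + 1 :=
    Nat.add_le_add_right (Finset.le_sup (f := n) (Finset.mem_univ (⟨x, hx⟩ : S))) 1
  exact SetLike.le_def.1 (socFil_mono (k := k) (A := A) hle) (hn ⟨x, hx⟩)

/-- A subcomodule all of whose eigenvalues are given by the group-like element `g` lies in the translate
of the unipotent part by `g`. -/
theorem le_translate {U : Submodule k A} [Module.Finite k U] (hU : IsSubcomod (k := k) (A := A) U)
    {μ : (A →ₗ[k] k) → k}
    (hμ : ∀ φ, ∀ x ∈ U, x ∈ Module.End.maxGenEigenspace (hit (V := A) φ : Module.End k A) (μ φ))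
    {g : A} (hg : IsGroupLikeElem k g) (hμg : ∀ φ : A →ₗ[k] k, μ φ = φ g) :
    U ≤ (Subalgebra.toSubmodule (unipAlg k A)).map (LinearMap.mulLeft k g) := by
  have hgi := hg.antipode
  by_contra hT
  obtain ⟨t, htU, htT, ht⟩ := exists_notMem_forall_hit_sub hU hμ hT
  have hgg : HopfAlgebraStruct.antipode k g * g = 1 := hg.antipode_mul_cancel
  obtain ⟨s, hst⟩ : ∃ s : A, s = HopfAlgebraStruct.antipode k g * t := ⟨_, rfl⟩
  have hs : ∀ φ : A →ₗ[k] k, φ 1 = 0 → hit (V := A) φ s ∈ Subalgebra.toSubmodule (unipAlg k A) := by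
    intro φ hφ
    obtain ⟨b, hb, hbe⟩ := ht (φ ∘ₗ LinearMap.mulLeft k (HopfAlgebraStruct.antipode k g))
    simp only [hμg, LinearMap.comp_apply, LinearMap.mulLeft_apply, hgg, hφ, zero_smul, sub_zero] at hbe
    rw [hst, hit_mul_groupLike hgi, ← hbe, ← mul_assoc, hgg, one_mul]
    exact hb
  obtain ⟨r, hr⟩ := exists_socFil_of_fg (k := k) (W := orbit k A s ⊓ Subalgebra.toSubmodule (unipAlg k A))
    (by
      have := finite_orbit (k := k) (A := A) (V := A) s
      exact Submodule.finiteDimensional_of_le inf_le_left) inf_le_right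
  have hsU : s ∈ unipAlg k A :=
    mem_unipAlg.2 ⟨r + 1, mem_socFil_succ.2 fun φ hφ => hr ⟨⟨φ, rfl⟩, hs φ hφ⟩⟩
  exact htT ⟨s, hsU, by
    rw [LinearMap.mulLeft_apply, hst, ← mul_assoc,
      show g * HopfAlgebraStruct.antipode k g = 1 from hg.mul_antipode_cancel, one_mul]⟩

/-- A finite subcomodule with single eigenvalues is contained in a translate of the unipotent part. -/
theorem le_of_single_eigen {U : Submodule k A} [Module.Finite k U] (hU : IsSubcomod (k := k) (A := A) U)
    (μ : (A →ₗ[k] k) → k)
    (hμ : ∀ φ, ∀ x ∈ U, x ∈ Module.End.maxGenEigenspace (hit (V := A) φ : Module.End k A) (μ φ)) :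
    U ≤ Submodule.span k {x : A | ∃ g b, IsGroupLikeElem k g ∧ b ∈ unipAlg k A ∧ x = g * b} := by
  classical
  by_cases hb : U ≤ ⊥
  · exact hb.trans bot_le
  obtain ⟨w, hwU, hw0, hw⟩ := exists_notMem_forall_hit_sub hU hμ hb
  replace hw : ∀ φ : A →ₗ[k] k, hit (V := A) φ w = μ φ • w := fun φ =>
    sub_eq_zero.1 ((Submodule.mem_bot k).1 (hw φ))
  have hεw : CoalgebraStruct.counit (R := k) w ≠ 0 := fun h0 => hw0 ((Submodule.mem_bot k).2 (by
    by_contra hne
    obtain ⟨φ, hφ⟩ := Module.Projective.exists_dual_ne_zero k hne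
    have := congrArg (CoalgebraStruct.counit (R := k) (A := A)) (hw φ)
    rw [counit_hit, map_smul, smul_eq_mul, h0, mul_zero] at this
    exact hφ this))
  obtain ⟨g, hεg, hg1⟩ : ∃ g : A, CoalgebraStruct.counit (R := k) g = 1 ∧
      ∀ φ : A →ₗ[k] k, hit (V := A) φ g = μ φ • g :=
    ⟨(CoalgebraStruct.counit (R := k) w)⁻¹ • w, by rw [map_smul, smul_eq_mul, inv_mul_cancel₀ hεw],
      fun φ => by rw [map_smul, hw, smul_comm]⟩
  have hμg : ∀ φ : A →ₗ[k] k, μ φ = φ g := fun φ => by
    have := congrArg (CoalgebraStruct.counit (R := k) (A := A)) (hg1 φ)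
    rw [counit_hit, map_smul, hεg, smul_eq_mul, mul_one] at this
    exact this.symm
  have hg : IsGroupLikeElem k g := ⟨hεg, eq_of_forall_sliceR_eq fun φ => by
    rw [← hit_regular, hg1, sliceR_tmul, hμg]⟩
  refine (le_translate hU hμ hg hμg).trans ?_
  rintro _ ⟨b, hb, rfl⟩
  exact Submodule.subset_span ⟨g, b, hg, hb, rfl⟩

/-- Over an algebraically closed field, the translates of the unipotent part by group-like elements
span. -/
theorem span_translates_eq_top [IsAlgClosed k] :
    Submodule.span k {x : A | ∃ g b, IsGroupLikeElem k g ∧ b ∈ unipAlg k A ∧ x = g * b} = ⊤ := by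
  classical
  suffices key : ∀ n, ∀ U : Submodule k A, IsSubcomod (k := k) (A := A) U → Module.Finite k U →
      Module.finrank k U = n →
      U ≤ Submodule.span k {x : A | ∃ g b, IsGroupLikeElem k g ∧ b ∈ unipAlg k A ∧ x = g * b} by
    refine eq_top_iff.2 fun a _ => ?_
    exact key _ _ (isSubcomod_orbit (k := k) (A := A) (V := A) a) (finite_orbit a) rfl (mem_orbit_self a)
  intro n
  induction n using Nat.strong_induction_on with
  | _ n ih =>
    intro U hU hfin hn
    by_cases hsingle : ∀ φ : A →ₗ[k] k, ∃ μ : k,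
        U ≤ Module.End.maxGenEigenspace (hit (V := A) φ : Module.End k A) μ
    · choose μ hμ using hsingle
      exact le_of_single_eigen hU μ fun φ x hx => hμ φ hx
    push_neg at hsingle
    obtain ⟨φ, hφ⟩ := hsingle
    let f : Module.End k A := hit (V := A) φ
    have hfU : ∀ x ∈ U, f x ∈ U := fun x hx => IsSubcomod.hit_mem hU φ hx
    have htop := Module.End.iSup_maxGenEigenspace_eq_top (f.restrict hfU)
    have hUle : U ≤ ⨆ μ : k, U ⊓ f.maxGenEigenspace μ := by
      intro x hx
      have h := Submodule.mem_map_of_mem (f := U.subtype)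
        (htop.ge (Submodule.mem_top (x := (⟨x, hx⟩ : U))))
      rw [Submodule.map_iSup] at h
      refine SetLike.le_def.1 (iSup_mono fun μ => ?_) h
      rintro _ ⟨y, hy, rfl⟩
      refine ⟨y.2, ?_⟩
      rw [Module.End.maxGenEigenspace, Module.End.genEigenspace_restrict] at hy
      exact hy
    refine hUle.trans (iSup_le fun μ => ?_)
    have hlt : U ⊓ f.maxGenEigenspace μ < U := lt_of_le_of_ne inf_le_left fun h => hφ μ (inf_eq_left.1 h)
    have : Module.Finite k (U ⊓ f.maxGenEigenspace μ : Submodule k A) :=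
      Submodule.finiteDimensional_of_le inf_le_left
    exact ih _ (hn ▸ Submodule.finrank_lt_finrank_of_lt hlt) _
      (isSubcomod_inf hU (isSubcomod_maxGenEigenspace φ μ)) this rfl

end Decomp

/-! ### Base change of the socle filtration -/

section BaseChange

variable {K : Type u} [Field K] [Algebra k K]

theorem socFil_baseChange_le : ∀ r, socFil K (K ⊗[k] A) r ≤ (socFil k A r).baseChange K := by
  intro r
  induction r with
  | zero => exact bot_le
  | succ r ih =>
    intro y hy
    -- every slice of `y` lies in the filtration over `k`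
    have hslice : ∀ l : K →ₗ[k] k, TensorProduct.lid k A (l.rTensor A y) ∈ socFil k A (r + 1) := by
      intro l
      refine mem_socFil_succ.2 fun φ hφ => ?_
      let φK : K ⊗[k] A →ₗ[K] K := (AlgebraTensorModule.rid k K K).toLinearMap ∘ₗ φ.baseChange K
      have hK : φK 1 = 0 := by simp [φK, Algebra.TensorProduct.one_def, hφ]
      have hcomm : ∀ z : K ⊗[k] A, TensorProduct.lid k A (l.rTensor A (hit (V := K ⊗[k] A) φK z)) =
          hit (V := A) φ (TensorProduct.lid k A (l.rTensor A z)) := by
        intro z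
        induction z using TensorProduct.induction_on with
        | zero => simp
        | add p q hp hq => simp only [map_add, hp, hq]
        | tmul c a =>
          rw [show c ⊗ₜ[k] a = c • ((1 : K) ⊗ₜ[k] a) by rw [TensorProduct.smul_tmul', smul_eq_mul, mul_one],
            map_smul, hit_baseChange_one_tmul]
          simp [TensorProduct.smul_tmul']
      rw [← hcomm]
      have hmem := ih (mem_socFil_succ.1 hy φK hK)
      generalize hit (V := K ⊗[k] A) φK y = z at hmem
      rw [Submodule.baseChange_eq_span] at hmem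
      -- slices of the base change stay in the submodule
      suffices h : ∀ l : K →ₗ[k] k, TensorProduct.lid k A (l.rTensor A z) ∈ socFil k A r from h l
      induction hmem using Submodule.span_induction with
      | mem z hz =>
        obtain ⟨a, ha, rfl⟩ := hz
        intro l
        simpa using Submodule.smul_mem _ (l 1) ha
      | zero => simp
      | add p q _ _ hp hq => intro l; simp only [map_add]; exact add_mem (hp l) (hq l)
      | smul c p _ hp =>
        intro l
        have e : ∀ p : K ⊗[k] A, TensorProduct.lid k A (l.rTensor A (c • p)) =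
            TensorProduct.lid k A ((l ∘ₗ LinearMap.mulLeft k c).rTensor A p) := fun p => by
          induction p using TensorProduct.induction_on with
          | zero => simp
          | add p q hp hq => rw [smul_add, map_add, map_add, map_add, map_add, hp, hq]
          | tmul d a => simp [TensorProduct.smul_tmul']
        rw [e]
        exact hp _
    let bK := Module.Free.chooseBasis k K
    obtain ⟨m, rfl⟩ := (TensorProduct.equivFinsuppOfBasisLeft (N := A) bK).symm.surjective y
    rw [TensorProduct.equivFinsuppOfBasisLeft_symm_apply]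
    refine Submodule.sum_mem _ fun i _ => ?_
    have hi := hslice (bK.coord i)
    have e : TensorProduct.lid k A ((bK.coord i).rTensor A
        ((TensorProduct.equivFinsuppOfBasisLeft (N := A) bK).symm m)) = m i := by
      rw [TensorProduct.equivFinsuppOfBasisLeft_symm_apply, Finsupp.sum, map_sum, map_sum]
      simp only [LinearMap.rTensor_tmul, TensorProduct.lid_tmul, Module.Basis.coord_apply,
        Module.Basis.repr_self]
      rw [Finset.sum_eq_single i]
      · simp
      · intro j _ hji; simp [Finsupp.single_eq_of_ne hji.symm]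
      · intro hi'; simp [Finsupp.notMem_support_iff.1 hi']
    rw [e] at hi
    exact Submodule.tmul_mem_baseChange_of_mem _ hi

end BaseChange

end Groth.Agent.HopfQuot.CommMultPart
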