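import Groth.Agent.HopfQuot.LinRedCrit
import Mathlib.RingTheory.Flat.Basic

/-!
# Unipotence under base change and specialisation
-/

set_option autoImplicit false

noncomputable section

open TensorProduct HopfRep
open Groth.Agent.HopfLib
open Coalgebra (comul counit)

universe u v w

namespace Groth.Agent.HopfQuot

section Field

variable {k : Type u} [Field k] {A : Type v} [CommRing A] [HopfAlgebra k A]
  {K : Type w} [Field K] [Algebra k K]

theorem mem_socFil_of_one_tmul :
    ∀ (r : ℕ) (a : A), (1 : K) ⊗ₜ[k] a ∈ socFil K (K ⊗[k] A) r → a ∈ socFil k A r := by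
  intro r
  induction r with
  | zero =>
    intro a ha
    rw [socFil, Submodule.mem_bot] at ha ⊢
    exact includeRight_injective (k := k) (R := K) (ha.trans (TensorProduct.tmul_zero A (1 : K)).symm)
  | succ r ih =>
    intro a ha
    refine mem_socFil_succ.2 fun φ hφ => ih _ ?_
    rw [← hit_baseChange_one_tmul]
    refine mem_socFil_succ.1 ha _ ?_
    simp [Algebra.TensorProduct.one_def, hφ]

theorem one_tmul_mem_socFil :
    ∀ (r : ℕ) (a : A), a ∈ socFil k A r → (1 : K) ⊗ₜ[k] a ∈ socFil K (K ⊗[k] A) r := by
  intro r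
  induction r with
  | zero =>
    intro a ha
    rw [socFil, Submodule.mem_bot] at ha
    rw [ha, TensorProduct.tmul_zero]
    exact zero_mem _
  | succ r ih =>
    intro a ha
    refine mem_socFil_succ.2 fun g hg => ?_
    have hred : CoalgebraStruct.comul (R := k) a - a ⊗ₜ[k] (1 : A) ∈
        LinearMap.range ((socFil k A r).subtype.rTensor A) := mem_range_rTensor_subtype_iff.2 fun φ => by
      rw [map_sub, sliceR_tmul, ← hit_regular, hit_eq_add φ a, add_sub_cancel_right]
      exact mem_socFil_succ.1 ha _ (sub_smul_counit_one φ)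
    obtain ⟨t, ht⟩ := hred
    have e : hit (V := K ⊗[k] A) g ((1 : K) ⊗ₜ[k] a) =
        sliceR g (incl₂ K A ((socFil k A r).subtype.rTensor A t)) := by
      rw [ht, map_sub, map_sub, incl₂_tmul, sliceR_tmul, ← Algebra.TensorProduct.one_def, hg, zero_smul, sub_zero,
        ← comul_one_tmul, hit_regular]
    rw [e]
    clear ht e
    induction t using TensorProduct.induction_on with
    | zero => simp
    | add p q hp hq => simp only [map_add]; exact add_mem hp hq
    | tmul p q =>
      rw [LinearMap.rTensor_tmul, incl₂_tmul, sliceR_tmul]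
      exact Submodule.smul_mem _ _ (ih _ p.2)

theorem isUnipotent_iff_baseChange :
    IsUnipotent k A ↔ IsUnipotent K (K ⊗[k] A) := by
  rw [isUnipotent_iff_forall_mem_socFil, isUnipotent_iff_forall_mem_socFil]
  refine ⟨fun h x => ?_, fun h a => ?_⟩
  · induction x using TensorProduct.induction_on with
    | zero => exact ⟨0, zero_mem _⟩
    | tmul c a =>
      obtain ⟨r, hr⟩ := h a
      refine ⟨r, ?_⟩
      rw [show c ⊗ₜ[k] a = c • ((1 : K) ⊗ₜ[k] a) by rw [TensorProduct.smul_tmul', smul_eq_mul, mul_one]]
      exact Submodule.smul_mem _ _ (one_tmul_mem_socFil _ _ hr)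
    | add p q hp hq =>
      obtain ⟨r, hr⟩ := hp
      obtain ⟨s, hs⟩ := hq
      exact ⟨max r s, add_mem (socFil_mono (Nat.add_le_add_right (le_max_left r s) 1) hr)
        (socFil_mono (Nat.add_le_add_right (le_max_right r s) 1) hs)⟩
  · obtain ⟨r, hr⟩ := h ((1 : K) ⊗ₜ[k] a)
    exact ⟨r, mem_socFil_of_one_tmul _ _ hr⟩

end Field

section Ring

variable {R : Type u} [CommRing R] {H : Type v} [CommRing H] [HopfAlgebra R H]

theorem comul_one_tmul' {S : Type w} [CommRing S] [Algebra R S] (a : H) :
    CoalgebraStruct.comul (R := S) ((1 : S) ⊗ₜ[R] a) =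
      AlgebraTensorModule.distribBaseChange R S H H ((1 : S) ⊗ₜ[R] CoalgebraStruct.comul (R := R) a) := by
  rw [TensorProduct.comul_tmul, CommSemiring.comul_apply]
  generalize CoalgebraStruct.comul (R := R) a = t
  induction t using TensorProduct.induction_on with
  | zero => simp
  | add p q hp hq => simp only [map_add, TensorProduct.tmul_add, hp, hq]
  | tmul p q => simp

variable [Module.Flat R H] {K : Type w} [Field K] [Algebra R K] {k : Type w} [Field k] [Algebra R k]

/-- Membership in the socle filtration of the generic fibre passes to the special fibre. -/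
theorem one_tmul_mem_socFil_of_flat (hK : Function.Injective (algebraMap R K)) :
    ∀ (r : ℕ) (a : H), (1 : K) ⊗ₜ[R] a ∈ socFil K (K ⊗[R] H) r → (1 : k) ⊗ₜ[R] a ∈ socFil k (k ⊗[R] H) r := by
  intro r
  induction r with
  | zero =>
    intro a ha
    rw [socFil, Submodule.mem_bot] at ha
    have hinj : Function.Injective (Algebra.TensorProduct.includeRight : H →ₐ[R] K ⊗[R] H) :=
      Algebra.TensorProduct.includeRight_injective hK
    rw [hinj (ha.trans (map_zero (Algebra.TensorProduct.includeRight : H →ₐ[R] K ⊗[R] H)).symm),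
      TensorProduct.tmul_zero]
    exact zero_mem _
  | succ r ih =>
    intro a ha
    refine mem_socFil_succ.2 fun g hg => ?_
    let S : Submodule K (K ⊗[R] H) := socFil K (K ⊗[R] H) r
    let j : H →ₗ[R] (K ⊗[R] H) ⧸ S := (S.mkQ.restrictScalars R) ∘ₗ TensorProduct.mk R K H 1
    let N : Submodule R H := LinearMap.ker j
    have hN : ∀ {x : H}, x ∈ N → (1 : K) ⊗ₜ[R] x ∈ S := fun hx => (Submodule.Quotient.mk_eq_zero S).1 hx
    let red : H ⊗[R] H := CoalgebraStruct.comul (R := R) a - a ⊗ₜ[R] (1 : H)
    have hred : red ∈ LinearMap.range (N.subtype.rTensor H) := by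
      have hex : Function.Exact N.subtype N.mkQ := LinearMap.exact_subtype_mkQ N
      refine ((Module.Flat.rTensor_exact H hex) red).1 ?_
      let jbar : (H ⧸ N) →ₗ[R] (K ⊗[R] H) ⧸ S := N.liftQ j le_rfl
      have hjinj : Function.Injective jbar :=
        LinearMap.ker_eq_bot.1 (Submodule.ker_liftQ_eq_bot _ _ _ le_rfl)
      refine Module.Flat.rTensor_preserves_injective_linearMap (M := H) jbar hjinj ?_
      rw [map_zero, ← LinearMap.comp_apply, ← LinearMap.rTensor_comp, Submodule.liftQ_mkQ]
      -- computed in the generic fibre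
      have hgen : LinearMap.rTensor (K ⊗[R] H) S.mkQ
          (AlgebraTensorModule.distribBaseChange R K H H ((1 : K) ⊗ₜ[R] red)) = 0 := by
        have hmem : AlgebraTensorModule.distribBaseChange R K H H ((1 : K) ⊗ₜ[R] red) ∈
            LinearMap.range (S.subtype.rTensor (K ⊗[R] H)) := mem_range_rTensor_subtype_iff.2 fun φ => by
          rw [TensorProduct.tmul_sub, map_sub, ← comul_one_tmul', AlgebraTensorModule.distribBaseChange_tmul,
            ← Algebra.TensorProduct.one_def, map_sub, sliceR_tmul, ← hit_regular, hit_eq_add φ, add_sub_cancel_right]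
          exact mem_socFil_succ.1 ha _ (sub_smul_counit_one φ)
        obtain ⟨t, ht⟩ := hmem
        rw [← ht, ← LinearMap.comp_apply, ← LinearMap.rTensor_comp,
          show S.mkQ ∘ₗ S.subtype = 0 from LinearMap.ext fun x => (Submodule.Quotient.mk_eq_zero S).2 x.2,
          LinearMap.rTensor_zero, LinearMap.zero_apply]
      have hcomm : ∀ t : H ⊗[R] H, LinearMap.rTensor H j t =
          AlgebraTensorModule.cancelBaseChange R K K ((K ⊗[R] H) ⧸ S) H
            (LinearMap.rTensor (K ⊗[R] H) S.mkQ
              (AlgebraTensorModule.distribBaseChange R K H H ((1 : K) ⊗ₜ[R] t))) := fun t => by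
        induction t using TensorProduct.induction_on with
        | zero => simp
        | add p q hp hq => simp only [map_add, TensorProduct.tmul_add, hp, hq]
        | tmul p q => simp [j]
      rw [hcomm, hgen, map_zero]
    obtain ⟨t, ht⟩ := hred
    have e : hit (V := k ⊗[R] H) g ((1 : k) ⊗ₜ[R] a) =
        sliceR g (AlgebraTensorModule.distribBaseChange R k H H ((1 : k) ⊗ₜ[R] (N.subtype.rTensor H t))) := by
      rw [ht, TensorProduct.tmul_sub, map_sub, map_sub, ← comul_one_tmul', AlgebraTensorModule.distribBaseChange_tmul,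
        ← Algebra.TensorProduct.one_def, sliceR_tmul, hg, zero_smul, sub_zero, hit_regular]
    rw [e]
    clear ht e
    induction t using TensorProduct.induction_on with
    | zero => simp
    | add p q hp hq => simp only [map_add, TensorProduct.tmul_add]; exact add_mem hp hq
    | tmul p q =>
      rw [LinearMap.rTensor_tmul, AlgebraTensorModule.distribBaseChange_tmul, sliceR_tmul]
      exact Submodule.smul_mem _ _ (ih _ (hN p.2))

theorem isUnipotent_of_flat (hK : Function.Injective (algebraMap R K)) (hU : IsUnipotent K (K ⊗[R] H)) :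
    IsUnipotent k (k ⊗[R] H) := by
  rw [isUnipotent_iff_forall_mem_socFil] at hU ⊢
  intro x
  induction x using TensorProduct.induction_on with
  | zero => exact ⟨0, zero_mem _⟩
  | tmul c a =>
    obtain ⟨r, hr⟩ := hU ((1 : K) ⊗ₜ[R] a)
    refine ⟨r, ?_⟩
    rw [show c ⊗ₜ[R] a = c • ((1 : k) ⊗ₜ[R] a) by rw [TensorProduct.smul_tmul', smul_eq_mul, mul_one]]
    exact Submodule.smul_mem _ _ (one_tmul_mem_socFil_of_flat hK _ _ hr)
  | add p q hp hq =>
    obtain ⟨r, hr⟩ := hp
    obtain ⟨s, hs⟩ := hq
    exact ⟨max r s, add_mem (socFil_mono (Nat.add_le_add_right (le_max_left r s) 1) hr)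
      (socFil_mono (Nat.add_le_add_right (le_max_right r s) 1) hs)⟩

end Ring

end Groth.Agent.HopfQuot
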