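import Groth.Agent.HopfQuot.UnipotentCrit
import Mathlib.RingTheory.HopfAlgebra.TensorProduct

/-!
# Primitive elements and socle filtration under base change
-/

set_option autoImplicit false

noncomputable section

open TensorProduct HopfRep
open Groth.Agent.HopfLib
open Coalgebra (comul counit)

universe u v w

namespace Groth.Agent.HopfQuot

variable {k : Type u} [Field k] {A : Type v} [CommRing A] [Bialgebra k A]
  {R : Type w} [CommRing R] [Algebra k R]

/-- `a ⊗ b ↦ (1 ⊗ a) ⊗ (1 ⊗ b)`. -/
def incl₂ (R : Type w) [CommRing R] [Algebra k R] (A : Type v) [CommRing A] [Bialgebra k A] :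
    A ⊗[k] A →ₗ[k] (R ⊗[k] A) ⊗[R] (R ⊗[k] A) :=
  ((AlgebraTensorModule.distribBaseChange k R A A).toLinearMap.restrictScalars k) ∘ₗ
    TensorProduct.mk k R (A ⊗[k] A) 1

@[simp] theorem incl₂_tmul (a b : A) :
    incl₂ (k := k) R A (a ⊗ₜ b) = ((1 : R) ⊗ₜ[k] a) ⊗ₜ[R] ((1 : R) ⊗ₜ[k] b) := rfl

theorem comul_one_tmul (a : A) :
    CoalgebraStruct.comul (R := R) ((1 : R) ⊗ₜ[k] a) = incl₂ R A (CoalgebraStruct.comul (R := k) a) := by
  rw [TensorProduct.comul_tmul, CommSemiring.comul_apply]
  generalize CoalgebraStruct.comul (R := k) a = t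
  induction t using TensorProduct.induction_on with
  | zero => simp
  | add p q hp hq => simp only [map_add, TensorProduct.tmul_add, hp, hq]
  | tmul p q => simp

theorem comul_baseChange (x : R ⊗[k] A) :
    CoalgebraStruct.comul (R := R) x =
      AlgebraTensorModule.distribBaseChange k R A A
        ((CoalgebraStruct.comul (R := k) (A := A)).baseChange R x) := by
  induction x using TensorProduct.induction_on with
  | zero => simp
  | add p q hp hq => simp only [map_add, hp, hq]
  | tmul r a =>
    rw [show r ⊗ₜ[k] a = r • ((1 : R) ⊗ₜ[k] a) by rw [TensorProduct.smul_tmul', smul_eq_mul, mul_one],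
      map_smul, map_smul, map_smul, comul_one_tmul]
    rfl

variable (k A) in
/-- `a ↦ Δ a - a ⊗ 1 - 1 ⊗ a`. -/
def primDefect : A →ₗ[k] A ⊗[k] A :=
  CoalgebraStruct.comul (R := k) (A := A) - (TensorProduct.mk k A A).flip 1 - TensorProduct.mk k A A 1

theorem primDefect_apply (a : A) :
    primDefect k A a = CoalgebraStruct.comul (R := k) a - a ⊗ₜ[k] (1 : A) - (1 : A) ⊗ₜ[k] a := rfl

theorem primDefect_injective
    (h : ∀ f : A, CoalgebraStruct.comul (R := k) f = f ⊗ₜ[k] (1 : A) + (1 : A) ⊗ₜ[k] f → f = 0) :
    Function.Injective (primDefect k A) := by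
  rw [injective_iff_map_eq_zero]
  intro a ha
  rw [primDefect_apply, sub_sub, sub_eq_zero] at ha
  exact h a ha

theorem primDefect_baseChange (x : R ⊗[k] A) :
    CoalgebraStruct.comul (R := R) x - x ⊗ₜ[R] (1 : R ⊗[k] A) - (1 : R ⊗[k] A) ⊗ₜ[R] x =
      AlgebraTensorModule.distribBaseChange k R A A ((primDefect k A).baseChange R x) := by
  rw [comul_baseChange]
  induction x using TensorProduct.induction_on with
  | zero => simp
  | add p q hp hq =>
    rw [map_add, map_add, map_add, map_add, TensorProduct.add_tmul, TensorProduct.tmul_add, ← hp, ← hq]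
    abel
  | tmul r a =>
    simp only [LinearMap.baseChange_tmul, primDefect_apply, TensorProduct.tmul_sub, map_sub,
      AlgebraTensorModule.distribBaseChange_tmul, Algebra.TensorProduct.one_def]
    congr 1
    rw [show r ⊗ₜ[k] a = r • ((1 : R) ⊗ₜ[k] a) by rw [TensorProduct.smul_tmul', smul_eq_mul, mul_one],
      show r ⊗ₜ[k] (1 : A) = r • ((1 : R) ⊗ₜ[k] (1 : A)) by rw [TensorProduct.smul_tmul', smul_eq_mul, mul_one],
      TensorProduct.tmul_smul, TensorProduct.smul_tmul']

/-- A base change acquires no primitive element. -/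
theorem eq_zero_of_primitive_baseChange
    (h : ∀ f : A, CoalgebraStruct.comul (R := k) f = f ⊗ₜ[k] (1 : A) + (1 : A) ⊗ₜ[k] f → f = 0)
    {x : R ⊗[k] A} (hx : CoalgebraStruct.comul (R := R) x = x ⊗ₜ[R] (1 : R ⊗[k] A) + (1 : R ⊗[k] A) ⊗ₜ[R] x) :
    x = 0 := by
  refine Module.Flat.lTensor_preserves_injective_linearMap (M := R) _ (primDefect_injective h) ?_
  rw [map_zero]
  refine (AlgebraTensorModule.distribBaseChange k R A A).injective ?_
  rw [map_zero, ← LinearMap.baseChange_eq_ltensor, ← primDefect_baseChange, hx]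
  abel

section Descend

theorem includeRight_injective [Nontrivial R] : Function.Injective fun a : A => (1 : R) ⊗ₜ[k] a :=
  Algebra.TensorProduct.includeRight_injective (RingHom.injective (algebraMap k R))

theorem incl₂_injective [Nontrivial R] : Function.Injective (incl₂ (k := k) R A) :=
  (AlgebraTensorModule.distribBaseChange k R A A).injective.comp
    (Algebra.TensorProduct.includeRight_injective (A := R) (B := A ⊗[k] A) (RingHom.injective (algebraMap k R)))

/-- A primitive element stays primitive. -/
theorem primitive_one_tmul {f : A} (hf : CoalgebraStruct.comul (R := k) f = f ⊗ₜ[k] (1 : A) + (1 : A) ⊗ₜ[k] f) :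
    CoalgebraStruct.comul (R := R) ((1 : R) ⊗ₜ[k] f) =
      ((1 : R) ⊗ₜ[k] f) ⊗ₜ[R] (1 : R ⊗[k] A) + (1 : R ⊗[k] A) ⊗ₜ[R] ((1 : R) ⊗ₜ[k] f) := by
  rw [comul_one_tmul, hf, map_add, incl₂_tmul, incl₂_tmul, Algebra.TensorProduct.one_def]

theorem isCocomm_of_baseChange [Nontrivial R] [Coalgebra.IsCocomm R (R ⊗[k] A)] : Coalgebra.IsCocomm k A := by
  refine ⟨LinearMap.ext fun a => incl₂_injective (R := R) ?_⟩
  have e : ∀ t : A ⊗[k] A, incl₂ R A (TensorProduct.comm k A A t) =
      TensorProduct.comm R (R ⊗[k] A) (R ⊗[k] A) (incl₂ R A t) := fun t => by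
    induction t using TensorProduct.induction_on with
    | zero => simp
    | add p q hp hq => simp only [map_add, hp, hq]
    | tmul p q => simp
  rw [LinearMap.comp_apply, LinearEquiv.coe_toLinearMap, e, ← comul_one_tmul, Coalgebra.comm_comul]

theorem isCocomm_baseChange [Coalgebra.IsCocomm k A] : Coalgebra.IsCocomm R (R ⊗[k] A) := by
  refine ⟨LinearMap.ext fun x => ?_⟩
  rw [LinearMap.comp_apply, LinearEquiv.coe_toLinearMap]
  induction x using TensorProduct.induction_on with
  | zero => simp
  | add p q hp hq => simp only [map_add, hp, hq]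
  | tmul r a =>
    rw [show r ⊗ₜ[k] a = r • ((1 : R) ⊗ₜ[k] a) by rw [TensorProduct.smul_tmul', smul_eq_mul, mul_one],
      map_smul, map_smul, comul_one_tmul]
    congr 1
    conv_rhs => rw [← Coalgebra.comm_comul k a]
    generalize CoalgebraStruct.comul (R := k) a = t
    induction t using TensorProduct.induction_on with
    | zero => simp
    | add p q hp hq => simp only [map_add, hp, hq]
    | tmul p q => simp

end Descend

section Diagonalizable

theorem comm_comul_of_isDiagonalizable (hA : IsDiagonalizable k A) : Coalgebra.IsCocomm k A := by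
  refine ⟨LinearMap.ext_on hA fun g hg => ?_⟩
  rw [LinearMap.comp_apply, (hg : IsGroupLikeElem k g).comul_eq_tmul_self, LinearEquiv.coe_toLinearMap,
    TensorProduct.comm_tmul]

/-- A diagonalizable group has no nonzero primitive function. -/
theorem eq_zero_of_primitive_of_isDiagonalizable (hA : IsDiagonalizable k A) {f : A}
    (hf : CoalgebraStruct.comul (R := k) f = f ⊗ₜ[k] (1 : A) + (1 : A) ⊗ₜ[k] f) : f = 0 := by
  classical
  let Gr : Set A := {a | IsGroupLikeElem k a}
  have hli : LinearIndepOn k id Gr := linearIndepOn_isGroupLikeElem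
  have hf' : f ∈ Submodule.span k (id '' Gr) := by rw [Set.image_id]; exact hA.ge Submodule.mem_top
  obtain ⟨l, hl, rfl⟩ := (Finsupp.mem_span_image_iff_linearCombination k (v := id)).1 hf'
  have key : ∀ φ : A →ₗ[k] k, φ 1 = 0 →
      Finsupp.linearCombination k id (l.sum fun g c => Finsupp.single g (c * φ g)) =
        φ (Finsupp.linearCombination k id l) • (1 : A) := by
    intro φ hφ
    have h := congrArg (sliceR φ) hf
    rw [map_add, sliceR_tmul, sliceR_tmul, hφ, zero_smul, zero_add] at h
    rw [← h]
    rw [map_finsuppSum, Finsupp.linearCombination_apply, map_finsuppSum, map_finsuppSum]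
    refine Finsupp.sum_congr fun g hg => ?_
    rw [Finsupp.linearCombination_single, map_smul, map_smul]
    simp only [id]
    rw [(hl hg : IsGroupLikeElem k g).comul_eq_tmul_self, sliceR_tmul, smul_smul]
  have hone : (1 : A) ∈ Gr := IsGroupLikeElem.one
  let β := Module.Basis.span (v := fun y : Gr => (y : A)) hli
  -- every coefficient off `1` vanishes
  have hother : ∀ x ∈ l.support, x = 1 := by
    intro x hx
    by_contra hx1
    obtain ⟨φ, hφ⟩ := (β.coord ⟨x, hl hx⟩).exists_extend
    have hφh : ∀ y ∈ Gr, φ y = if y = x then 1 else 0 := fun y hy => by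
      have h1 := LinearMap.congr_fun hφ (β ⟨y, hy⟩)
      have hβ : (β ⟨y, hy⟩ : A) = y := congrArg Subtype.val (Module.Basis.span_apply _ _)
      rw [LinearMap.comp_apply, Submodule.subtype_apply, hβ] at h1
      rw [h1, Module.Basis.coord_apply, Module.Basis.repr_self, Finsupp.single_apply]
      simp [Subtype.ext_iff]
    have h2 := congrArg φ (key φ (by rw [hφh 1 hone, if_neg (Ne.symm hx1)]))
    rw [map_smul, hφh 1 hone, if_neg (Ne.symm hx1), smul_eq_mul, mul_zero] at h2
    rw [map_finsuppSum, map_finsuppSum, Finsupp.sum_eq_single x] at h2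
    · rw [Finsupp.linearCombination_single, map_smul, id, hφh x (hl hx), if_pos rfl, smul_eq_mul,
        mul_one, mul_one] at h2
      exact Finsupp.mem_support_iff.1 hx h2
    · intro y hy hyx
      rw [Finsupp.linearCombination_single, map_smul, id,
        hφh y (hl (Finsupp.mem_support_iff.2 hy)), if_neg hyx, smul_zero]
    · intro h3; simp [h3]
  have hlc : Finsupp.linearCombination k id l = l 1 • (1 : A) := by
    rw [Finsupp.linearCombination_apply, Finsupp.sum, Finset.sum_eq_single (1 : A)]
    · rfl
    · intro y hy hy1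
      exact absurd (hother y hy) hy1
    · intro h
      rw [Finsupp.notMem_support_iff.1 h, zero_smul]
  rw [hlc] at hf ⊢
  have h := congrArg (fun t => CoalgebraStruct.counit (R := k) (TensorProduct.lid k A t))
    (Coalgebra.rTensor_counit_comul (R := k) (l 1 • (1 : A)))
  rw [hf] at h
  simp [Bialgebra.counit_one] at h
  rw [h, zero_smul]

end Diagonalizable

/-- No nonzero primitive element in a group that becomes diagonalizable over an extension field. -/
theorem eq_zero_of_primitive_of_isDiagonalizable_baseChange {K : Type w} [Field K] [Algebra k K]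
    (hA : IsDiagonalizable K (K ⊗[k] A)) {f : A}
    (hf : CoalgebraStruct.comul (R := k) f = f ⊗ₜ[k] (1 : A) + (1 : A) ⊗ₜ[k] f) : f = 0 :=
  includeRight_injective (k := k) (R := K) (by
    simpa using eq_zero_of_primitive_of_isDiagonalizable hA (primitive_one_tmul hf))

end Groth.Agent.HopfQuot
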