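import Mathlib.RingTheory.HopfAlgebra.Quotient
import Mathlib.RingTheory.HopfAlgebra.Convolution
import Mathlib.RingTheory.Unramified.Finite
import Mathlib.RingTheory.Henselian
import Mathlib.RingTheory.Flat.Basic
import Mathlib.RingTheory.Ideal.GoingUp
import Mathlib.RingTheory.Smooth.Fiber
import Groth.Agent.HenselLib.Perm
import Groth.Agent.HopfLib.HopfKaehler
import Groth.Prelude.Def_SGA3

/-!
# The unit component of a finite group scheme over a (henselian) local ring
-/

set_option autoImplicit false

noncomputable section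

open TensorProduct WithConv

universe u v w

namespace Groth.Agent.HopfQuot.UnitComp

section Key

variable {R : Type u} [CommRing R] {B : Type v} [CommRing B] [Algebra R B]
  {C : Type w} [CommRing C] [Algebra R C] [IsLocalRing C]

/-- `C ⊗ B → B` induced by a section `ε` of `C`. -/
def sect (ε : C →ₐ[R] R) : C ⊗[R] B →ₐ[R] B :=
  Algebra.TensorProduct.lift ((Algebra.ofId R B).comp ε) (AlgHom.id R B) fun _ _ => .all ..

omit [IsLocalRing C] in
@[simp] theorem sect_tmul (ε : C →ₐ[R] R) (c : C) (b : B) : sect ε (c ⊗ₜ[R] b) = algebraMap R B (ε c) * b := by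
  simp [sect]

/-- An idempotent of `C ⊗ B` (`C` local, `B` finite) with image `1` in `B` is `1`. -/
theorem eq_one_left [Module.Finite R B] (ε : C →ₐ[R] R) {x : C ⊗[R] B}
    (hx : IsIdempotentElem x) (h : sect ε x = 1) : x = 1 := by
  haveI : Nontrivial R := RingHom.domain_nontrivial (algebraMap R C)
  have hker : RingHom.ker ε ≠ ⊤ := RingHom.ker_ne_top ε.toRingHom
  have hint : Algebra.IsIntegral C (C ⊗[R] B) := inferInstance
  have hmem : ∀ t : C ⊗[R] B, t - (1 : C) ⊗ₜ[R] sect ε t ∈ (RingHom.ker ε).map (algebraMap C (C ⊗[R] B)) := by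
    intro t
    induction t using TensorProduct.induction_on with
    | zero => simp
    | add p q hp hq =>
      rw [map_add, tmul_add, add_sub_add_comm]
      exact add_mem hp hq
    | tmul c b =>
      have e : c ⊗ₜ[R] b - (1 : C) ⊗ₜ[R] sect ε (c ⊗ₜ[R] b) =
          algebraMap C (C ⊗[R] B) (c - algebraMap R C (ε c)) * ((1 : C) ⊗ₜ[R] b) := by
        rw [sect_tmul, Algebra.TensorProduct.algebraMap_apply, Algebra.algebraMap_self, RingHom.id_apply,
          Algebra.TensorProduct.tmul_mul_tmul, mul_one, one_mul, sub_tmul,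
          Algebra.algebraMap_eq_smul_one, Algebra.algebraMap_eq_smul_one, smul_mul_assoc, one_mul,
          TensorProduct.smul_tmul]
      rw [e]
      exact Ideal.mul_mem_right _ _ (Ideal.mem_map_of_mem _ (by simp))
  have h1 : (1 - x) ∈ Ideal.jacobson (⊥ : Ideal (C ⊗[R] B)) := by
    rw [Ideal.jacobson, Ideal.mem_sInf]
    intro M ⟨_, hM⟩
    haveI := hM
    have hc : (M.comap (algebraMap C (C ⊗[R] B))).IsMaximal :=
      Ideal.isMaximal_comap_of_isIntegral_of_isMaximal M
    have hle : (RingHom.ker ε).map (algebraMap C (C ⊗[R] B)) ≤ M := by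
      rw [Ideal.map_le_iff_le_comap, IsLocalRing.eq_maximalIdeal hc]
      exact IsLocalRing.le_maximalIdeal hker
    refine hle ?_
    have := hmem (1 - x)
    rwa [map_sub, map_one, h, sub_self, tmul_zero, sub_zero] at this
  have hu : IsUnit x := by
    have := (Ideal.mem_jacobson_bot.1 h1) (-1)
    simpa [sub_eq_add_neg] using this
  exact (IsIdempotentElem.iff_eq_one_of_isUnit hu).1 hx

/-- An idempotent of `B ⊗ C` (`C` local, `B` finite) with image `1` in `B` is `1`. -/
theorem eq_one_right [Module.Finite R B] (ε : C →ₐ[R] R) {x : B ⊗[R] C}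
    (hx : IsIdempotentElem x)
    (h : Algebra.TensorProduct.lift (AlgHom.id R B) ((Algebra.ofId R B).comp ε) (fun _ _ => .all ..) x = 1) :
    x = 1 := by
  have e : ∀ t : B ⊗[R] C, sect ε (Algebra.TensorProduct.comm R B C t) =
      Algebra.TensorProduct.lift (AlgHom.id R B) ((Algebra.ofId R B).comp ε) (fun _ _ => .all ..) t := fun t => by
    induction t using TensorProduct.induction_on with
    | zero => simp
    | add p q hp hq => simp only [map_add, hp, hq]
    | tmul b c => simp [Algebra.TensorProduct.comm_tmul, mul_comm]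
  refine (Algebra.TensorProduct.comm R B C).injective ?_
  rw [map_one]
  exact eq_one_left ε (hx.map _) (by rw [e, h])

/-- An idempotent of a local ring with image `1` under a section is `1`. -/
theorem eq_one_of_apply (ε : C →ₐ[R] R) {x : C} (hx : IsIdempotentElem x) (h : ε x = 1) : x = 1 := by
  haveI : Nontrivial R := RingHom.domain_nontrivial (algebraMap R C)
  refine (IsLocalRing.isUnit_or_isUnit_one_sub_self x).elim (IsIdempotentElem.iff_eq_one_of_isUnit · |>.1 hx) ?_
  intro hu
  have := hu.map ε
  rw [map_sub, map_one, h, sub_self] at this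
  exact absurd this not_isUnit_zero

/-- Two maps from an unramified algebra to a local algebra with a section agree if they do after the section. -/
theorem ext_of_formallyUnramified {D : Type*} [CommRing D] [Algebra R D] [Algebra.FormallyUnramified R D]
    [Algebra.EssFiniteType R D] (ε : C →ₐ[R] R) {u v : D →ₐ[R] C} (h : ε.comp u = ε.comp v) : u = v := by
  let w : D ⊗[R] D →ₐ[R] C := Algebra.TensorProduct.lift u v fun _ _ => .all ..
  have h2 : ε (w (Algebra.FormallyUnramified.elem R D)) = 1 := by
    have e : ε.comp w = (ε.comp u).comp (Algebra.TensorProduct.lmul' R) := by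
      apply Algebra.TensorProduct.ext
      · exact AlgHom.ext fun x => by simp [w]
      · refine AlgHom.ext fun x => ?_
        simpa [w] using (DFunLike.congr_fun h x).symm
    rw [show ε (w _) = (ε.comp w) (Algebra.FormallyUnramified.elem R D) from rfl, e, AlgHom.comp_apply,
      Algebra.FormallyUnramified.lmul_elem, map_one]
  have hidem : IsIdempotentElem (Algebra.FormallyUnramified.elem R D) := by
    have hall : ∀ t : D ⊗[R] D, t * Algebra.FormallyUnramified.elem R D =
        (Algebra.TensorProduct.lmul' R t ⊗ₜ[R] 1) * Algebra.FormallyUnramified.elem R D := fun t => by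
      induction t using TensorProduct.induction_on with
      | zero => simp
      | add p q hp hq => rw [map_add, add_tmul, add_mul, add_mul, hp, hq]
      | tmul a b =>
        have eab : a ⊗ₜ[R] b = (a ⊗ₜ[R] (1 : D)) * ((1 : D) ⊗ₜ[R] b) := by simp
        rw [eab, mul_assoc, Algebra.FormallyUnramified.one_tmul_mul_elem, ← mul_assoc]
        congr 1
        simp
    have := hall (Algebra.FormallyUnramified.elem R D)
    rwa [Algebra.FormallyUnramified.lmul_elem, ← Algebra.TensorProduct.one_def, one_mul] at this
  have h3 := eq_one_of_apply ε (hidem.map w) h2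
  refine AlgHom.ext fun x => ?_
  have h4 := congrArg w (Algebra.FormallyUnramified.one_tmul_mul_elem (R := R) x)
  rw [map_mul, map_mul, h3] at h4
  simpa [w] using h4.symm

end Key

/-- Transport of `HenselianLocalRing` along a ring isomorphism. -/
theorem henselianLocalRing_of_equiv {A : Type u} {B : Type v} [CommRing A] [CommRing B] (e : A ≃+* B)
    [HenselianLocalRing A] : HenselianLocalRing B := by
  have : Nontrivial B := e.injective.nontrivial
  have : IsLocalRing B := IsLocalRing.of_surjective' e.toRingHom e.surjective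
  exact {
    is_henselian := fun f hf b₀ h₁ h₂ => by
      obtain ⟨g, rfl⟩ : ∃ g : Polynomial A, g.map e.toRingHom = f :=
        Polynomial.map_surjective _ e.surjective f
      obtain ⟨a₀, rfl⟩ := e.surjective b₀
      have hgm : g.Monic := Polynomial.monic_of_injective e.injective hf
      rw [IsLocalRing.mem_maximalIdeal, mem_nonunits_iff, show e a₀ = e.toRingHom a₀ from rfl,
        Polynomial.eval_map, Polynomial.eval₂_hom] at h₁
      rw [Polynomial.derivative_map, show e a₀ = e.toRingHom a₀ from rfl, Polynomial.eval_map,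
        Polynomial.eval₂_hom] at h₂
      obtain ⟨a, ha, ha'⟩ := HenselianLocalRing.is_henselian g hgm a₀
        (fun hu => h₁ (hu.map e.toRingHom)) (by simpa using h₂.map e.symm.toRingHom)
      refine ⟨e a, ha.map, fun hu => ha' ?_⟩
      simpa using hu.map e.symm.toRingHom }

/-- A local algebra which is finite over a henselian local ring is henselian (any universes). -/
theorem henselianLocalRing_of_finite {R : Type u} [CommRing R] [HenselianLocalRing R]
    (S : Type v) [CommRing S] [IsLocalRing S] [Algebra R S] [Module.Finite R S] : HenselianLocalRing S := by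
  haveI : HenselianLocalRing (ULift.{v} R) := henselianLocalRing_of_equiv ULift.ringEquiv.symm
  haveI : IsLocalRing (ULift.{u} S) :=
    IsLocalRing.of_surjective' (ULift.ringEquiv.symm : S ≃+* _).toRingHom ULift.ringEquiv.symm.surjective
  let f : ULift.{v} R →+* ULift.{u} S :=
    (ULift.ringEquiv.symm : S ≃+* _).toRingHom.comp ((algebraMap R S).comp ULift.ringEquiv.toRingHom)
  have hf : f.IsIntegral :=
    RingHom.IsIntegral.trans _ _ (RingHom.IsIntegral.trans _ _
      (RingHom.isIntegral_of_surjective _ ULift.ringEquiv.surjective)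
      (algebraMap_isIntegral_iff.2 inferInstance))
      (RingHom.isIntegral_of_surjective _ ULift.ringEquiv.symm.surjective)
  letI := f.toAlgebra
  haveI : Algebra.IsIntegral (ULift.{v} R) (ULift.{u} S) := ⟨hf⟩
  haveI := HenselLib.henselianLocalRing_of_isIntegral (ULift.{v} R) (ULift.{u} S)
  exact henselianLocalRing_of_equiv (ULift.ringEquiv : ULift.{u} S ≃+* S)

section Hopf

variable {R : Type u} [CommRing R] {A : Type v} [CommRing A] [HopfAlgebra R A]
variable {e : A}

/-- The counit on the quotient by `1 - e`. -/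
def counitQuot (hε : Bialgebra.counitAlgHom R A e = 1) : (A ⧸ Ideal.span ({1 - e} : Set A)) →ₐ[R] R :=
  Ideal.Quotient.liftₐ _ (Bialgebra.counitAlgHom R A) fun a ha => by
    obtain ⟨c, rfl⟩ := Ideal.mem_span_singleton'.1 ha
    rw [map_mul, map_sub, hε, map_one, sub_self, mul_zero]

@[simp] theorem counitQuot_mk (hε : Bialgebra.counitAlgHom R A e = 1) (a : A) :
    counitQuot hε (Ideal.Quotient.mk _ a) = Bialgebra.counitAlgHom R A a := rfl

theorem mk_self : Ideal.Quotient.mk (Ideal.span ({1 - e} : Set A)) e = 1 := by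
  rw [← map_one (Ideal.Quotient.mk _), Ideal.Quotient.eq]
  rw [← neg_sub (1 : A) e]
  exact neg_mem (Ideal.subset_span rfl)

variable [IsLocalRing (A ⧸ Ideal.span ({1 - e} : Set A))]

/-- `(π ⊗ π)(Δ e) = 1`. -/
theorem comul_mk [Module.Finite R A] (he : IsIdempotentElem e) (hε : Bialgebra.counitAlgHom R A e = 1) :
    Algebra.TensorProduct.map (Ideal.Quotient.mkₐ R (Ideal.span ({1 - e} : Set A)))
      (Ideal.Quotient.mkₐ R (Ideal.span ({1 - e} : Set A))) (Bialgebra.comulAlgHom R A e) = 1 := by
  refine eq_one_left (counitQuot hε) ((he.map _).map _) ?_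
  have key : ∀ t : A ⊗[R] A, sect (counitQuot hε)
      (Algebra.TensorProduct.map (Ideal.Quotient.mkₐ R (Ideal.span ({1 - e} : Set A)))
        (Ideal.Quotient.mkₐ R (Ideal.span ({1 - e} : Set A))) t) =
      Ideal.Quotient.mk _ (Algebra.TensorProduct.lid R A
        (Algebra.TensorProduct.map (Bialgebra.counitAlgHom R A) (AlgHom.id R A) t)) := fun t => by
    induction t using TensorProduct.induction_on with
    | zero => simp
    | add p q hp hq => simp only [map_add, hp, hq]
    | tmul p q => simp [Algebra.smul_def, Ideal.Quotient.algebraMap_eq, map_mul]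
  rw [key]
  have h2 : Algebra.TensorProduct.map (Bialgebra.counitAlgHom R A) (AlgHom.id R A)
      (Bialgebra.comulAlgHom R A e) = (1 : R) ⊗ₜ[R] e := Coalgebra.rTensor_counit_comul (R := R) e
  rw [h2, Algebra.TensorProduct.lid_tmul, one_smul, mk_self]

theorem antipode_mk (he : IsIdempotentElem e) (hε : Bialgebra.counitAlgHom R A e = 1) :
    Ideal.Quotient.mk (Ideal.span ({1 - e} : Set A)) (HopfAlgebra.antipodeAlgHom R A e) = 1 := by
  refine eq_one_of_apply (counitQuot hε) ((he.map _).map _) ?_
  rw [counitQuot_mk]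
  exact (HopfAlgebra.counit_antipode (R := R) e).trans hε

/-- The unit component is a subgroup. -/
theorem isHopfIdeal_span [Module.Finite R A] (he : IsIdempotentElem e)
    (hε : Bialgebra.counitAlgHom R A e = 1) : (Ideal.span ({1 - e} : Set A)).IsHopfIdeal R := by
  refine { toIsCoideal := ⟨fun x hx => ?_, fun x hx => ?_⟩, antipode_mem := fun x hx => ?_ }
  · obtain ⟨c, rfl⟩ := Ideal.mem_span_singleton'.1 hx
    show Bialgebra.counitAlgHom R A (c * (1 - e)) = 0
    rw [map_mul, map_sub, hε, map_one, sub_self, mul_zero]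
  · obtain ⟨c, rfl⟩ := Ideal.mem_span_singleton'.1 hx
    show Algebra.TensorProduct.map (Ideal.Quotient.mkₐ R (Ideal.span ({1 - e} : Set A)))
      (Ideal.Quotient.mkₐ R (Ideal.span ({1 - e} : Set A))) (Bialgebra.comulAlgHom R A (c * (1 - e))) = 0
    simp only [map_mul, map_sub, map_one, comul_mk he hε, sub_self, mul_zero]
  · obtain ⟨c, rfl⟩ := Ideal.mem_span_singleton'.1 hx
    show HopfAlgebra.antipodeAlgHom R A (c * (1 - e)) ∈ _
    rw [← Ideal.Quotient.eq_zero_iff_mem, map_mul, map_mul, map_sub, map_sub, map_one, map_one,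
      antipode_mk he hε, sub_self, mul_zero]

omit [IsLocalRing (A ⧸ Ideal.span ({1 - e} : Set A))] in
/-- `A/(1 - e)` is a direct summand. -/
theorem flat_quot (he : IsIdempotentElem e) [Module.Flat R A] :
    Module.Flat R (A ⧸ Ideal.span ({1 - e} : Set A)) := by
  let i : (A ⧸ Ideal.span ({1 - e} : Set A)) →ₗ[R] A :=
    ((Ideal.span ({1 - e} : Set A)).restrictScalars R).liftQ (LinearMap.mulLeft R e) (fun x hx => by
      obtain ⟨c, rfl⟩ := Ideal.mem_span_singleton'.1 (Submodule.restrictScalars_mem .. |>.1 hx)
      rw [LinearMap.mem_ker, LinearMap.mulLeft_apply]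
      linear_combination (-c) * he.eq)
  refine Module.Flat.of_retract i (Ideal.Quotient.mkₐ R _).toLinearMap ?_
  refine LinearMap.ext fun x => ?_
  obtain ⟨a, rfl⟩ := Ideal.Quotient.mk_surjective x
  show Ideal.Quotient.mk _ (e * a) = Ideal.Quotient.mk _ a
  rw [map_mul, mk_self, one_mul]

/-- The residue field of the unit component is that of `R`. -/
theorem residue_surjective [IsLocalRing R] (hε : Bialgebra.counitAlgHom R A e = 1) :
    Function.Surjective (⇑(IsLocalRing.residue (A ⧸ Ideal.span ({1 - e} : Set A))) ∘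
      ⇑(algebraMap R (A ⧸ Ideal.span ({1 - e} : Set A)))) := by
  intro y
  obtain ⟨x, rfl⟩ := IsLocalRing.residue_surjective y
  refine ⟨counitQuot hε x, ?_⟩
  rw [Function.comp_apply, ← sub_eq_zero, ← map_sub, IsLocalRing.residue_eq_zero_iff]
  have hle : RingHom.ker (counitQuot hε) ≤ IsLocalRing.maximalIdeal (A ⧸ Ideal.span ({1 - e} : Set A)) :=
    IsLocalRing.le_maximalIdeal (RingHom.ker_ne_top (counitQuot hε).toRingHom)
  exact hle (by simp)

end Hopf

section Etale

variable {R : Type u} [CommRing R] {A : Type v} [CommRing A] [HopfAlgebra R A]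

theorem sq_eq_of_formallyUnramified [Algebra.FormallyUnramified R A] :
    RingHom.ker (Bialgebra.counitAlgHom R A) ^ 2 = RingHom.ker (Bialgebra.counitAlgHom R A) := by
  obtain ⟨E⟩ := HopfLib.Kaehler.exists_kaehler_equiv (R := R) (A := A)
  haveI : Subsingleton (A ⊗[R] (RingHom.ker (Bialgebra.counitAlgHom R A)).Cotangent) :=
    E.symm.toEquiv.subsingleton
  let r : A ⊗[R] (RingHom.ker (Bialgebra.counitAlgHom R A)).Cotangent →ₗ[R]
      (RingHom.ker (Bialgebra.counitAlgHom R A)).Cotangent :=
    (TensorProduct.lid R _).toLinearMap ∘ₗ (Bialgebra.counitAlgHom R A).toLinearMap.rTensor _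
  have : Subsingleton (RingHom.ker (Bialgebra.counitAlgHom R A)).Cotangent := by
    refine subsingleton_of_forall_eq 0 fun m => ?_
    have hr : r ((1 : A) ⊗ₜ[R] m) = m := by simp [r]
    rw [← hr, Subsingleton.elim ((1 : A) ⊗ₜ[R] m) 0, map_zero]
  rw [pow_two]
  exact ((Ideal.cotangent_subsingleton_iff _).1 this).eq

theorem formallyUnramified_of_sq_eq
    (h : RingHom.ker (Bialgebra.counitAlgHom R A) ^ 2 = RingHom.ker (Bialgebra.counitAlgHom R A)) :
    Algebra.FormallyUnramified R A := by
  obtain ⟨E⟩ := HopfLib.Kaehler.exists_kaehler_equiv (R := R) (A := A)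
  haveI : Subsingleton (RingHom.ker (Bialgebra.counitAlgHom R A)).Cotangent :=
    (Ideal.cotangent_subsingleton_iff _).2 (by rwa [pow_two] at h)
  haveI : Subsingleton (A ⊗[R] (RingHom.ker (Bialgebra.counitAlgHom R A)).Cotangent) := by
    refine subsingleton_of_forall_eq 0 fun t => ?_
    induction t using TensorProduct.induction_on with
    | zero => rfl
    | add p q hp hq => rw [hp, hq, add_zero]
    | tmul a m => rw [Subsingleton.elim m 0, tmul_zero]
  exact ⟨E.toEquiv.subsingleton⟩

end Etale

end Groth.Agent.HopfQuot.UnitComp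

namespace Groth.Agent.HopfQuot.UnitComp

section Relative

variable {R : Type u} [CommRing R] {A : Type v} [CommRing A] [Algebra R A]

/-- `A/(1 - e)` is flat over any base of `A`. -/
theorem flat_quot_idem [Module.Flat R A] {e : A} (he : IsIdempotentElem e) :
    Module.Flat R (A ⧸ Ideal.span ({1 - e} : Set A)) := by
  let i : (A ⧸ Ideal.span ({1 - e} : Set A)) →ₗ[R] A :=
    ((Ideal.span ({1 - e} : Set A)).restrictScalars R).liftQ (LinearMap.mulLeft R e) (fun x hx => by
      obtain ⟨c, rfl⟩ := Ideal.mem_span_singleton'.1 (Submodule.restrictScalars_mem .. |>.1 hx)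
      rw [LinearMap.mem_ker, LinearMap.mulLeft_apply]
      linear_combination (-c) * he.eq)
  refine Module.Flat.of_retract i (Ideal.Quotient.mkₐ R _).toLinearMap ?_
  refine LinearMap.ext fun x => ?_
  obtain ⟨a, rfl⟩ := Ideal.Quotient.mk_surjective x
  show Ideal.Quotient.mk _ (e * a) = Ideal.Quotient.mk _ a
  have h1 : Ideal.Quotient.mk (Ideal.span ({1 - e} : Set A)) e = 1 := by
    rw [← map_one (Ideal.Quotient.mk _), Ideal.Quotient.eq, ← neg_sub (1 : A) e]
    exact neg_mem (Ideal.subset_span rfl)
  rw [map_mul, h1, one_mul]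

/-- A flat algebra map between local rings which is finite is faithfully flat. -/
theorem faithfullyFlat_of_finite (B : Type w) [CommRing B] [Algebra R B] [IsLocalRing R] [IsLocalRing B]
    [Module.Finite R B] [Module.Flat R B] : Module.FaithfullyFlat R B := by
  haveI : IsLocalHom (algebraMap R B) :=
    ((IsLocalRing.local_hom_TFAE (algebraMap R B)).out 0 4).2
      (IsLocalRing.eq_maximalIdeal (Ideal.isMaximal_comap_of_isIntegral_of_isMaximal _))
  exact Module.FaithfullyFlat.of_flat_of_isLocalHom

end Relative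

end Groth.Agent.HopfQuot.UnitComp
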