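import Groth.Agent.HopfLib.Slices
import Groth.Agent.HopfLib.GITPoints
import Mathlib.RingTheory.HopfAlgebra.Quotient
import Mathlib.RingTheory.HopfAlgebra.Convolution
import Mathlib.RingTheory.Artinian.Module

/-!
# Separating points; Hopf ideals of groups of rational points; finite reduced groups
-/

set_option autoImplicit false

noncomputable section

open TensorProduct WithConv
open Groth.Agent.HopfLib

universe u v w

namespace Groth.Agent.HopfQuot

variable {k : Type u} [Field k]

/-- A tensor killed by all pairs from two separating families of linear forms is zero. -/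
theorem eq_zero_of_forall_pair {V : Type v} {W : Type w} [AddCommGroup V] [Module k V] [AddCommGroup W]
    [Module k W] {P : Set (V →ₗ[k] k)} {Q : Set (W →ₗ[k] k)} (hP : ∀ v, (∀ f ∈ P, f v = 0) → v = 0)
    (hQ : ∀ w, (∀ g ∈ Q, g w = 0) → w = 0) {t : V ⊗[k] W}
    (h : ∀ f ∈ P, ∀ g ∈ Q, LinearMap.mul' k k (TensorProduct.map f g t) = 0) : t = 0 := by
  refine eq_of_forall_sliceL_eq fun f => ?_
  rw [map_zero]
  refine hQ _ fun g hg => ?_
  have e : ∀ s : V ⊗[k] W, g (sliceL f s) = f (sliceR g s) := fun s => by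
    induction s using TensorProduct.induction_on with
    | zero => simp
    | add p q hp hq => simp only [map_add, hp, hq]
    | tmul p q => simp [mul_comm]
  rw [e, hP (sliceR g t) fun f' hf' => ?_, map_zero]
  have e' : ∀ s : V ⊗[k] W, f' (sliceR g s) = LinearMap.mul' k k (TensorProduct.map f' g s) := fun s => by
    induction s using TensorProduct.induction_on with
    | zero => simp
    | add p q hp hq => simp only [map_add, hp, hq]
    | tmul p q => simp [mul_comm]
  rw [e', h f' hf' g hg]

variable {A : Type v} [CommRing A] [HopfAlgebra k A]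

/-- The vanishing ideal of a group of rational points is a Hopf ideal. -/
theorem isHopfIdeal_iInf_ker (S : Subgroup (WithConv (A →ₐ[k] k))) :
    Ideal.IsHopfIdeal k (⨅ g ∈ S, RingHom.ker (ofConv g : A →ₐ[k] k)) := by
  classical
  let I : Ideal A := ⨅ g ∈ S, RingHom.ker (ofConv g : A →ₐ[k] k)
  have hI : ∀ {x : A}, x ∈ I → ∀ g ∈ S, g.ofConv x = 0 := fun {x} hx g hg => by
    simp only [I, Submodule.mem_iInf] at hx
    exact hx g hg
  refine { toIsCoideal := ⟨fun x hx => ?_, fun x hx => ?_⟩, antipode_mem := fun x hx => ?_ }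
  · have h := hI hx 1 S.one_mem
    rw [AlgHom.convOne_apply] at h
    simpa using h
  · let Q := A ⧸ I
    let P : Set (Q →ₗ[k] k) := {f | ∃ g ∈ S, ∀ a : A, f (Ideal.Quotient.mk I a) = g.ofConv a}
    have hP : ∀ v : Q, (∀ f ∈ P, f v = 0) → v = 0 := by
      intro v hv
      obtain ⟨a, rfl⟩ := Ideal.Quotient.mk_surjective v
      refine Ideal.Quotient.eq_zero_iff_mem.2 ?_
      simp only [I, Submodule.mem_iInf]
      intro g hg
      exact hv (Ideal.Quotient.liftₐ I g.ofConv fun y hy => hI hy g hg).toLinearMap ⟨g, hg, fun _ => rfl⟩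
    refine eq_zero_of_forall_pair (k := k) (V := Q) (W := Q) (P := P) (Q := P) hP hP ?_
    rintro f ⟨g, hg, hf⟩ f' ⟨g', hg', hf'⟩
    have h := hI hx (g * g') (S.mul_mem hg hg')
    rw [AlgHom.convMul_apply] at h
    have e : ∀ t : A ⊗[k] A, LinearMap.mul' k k (TensorProduct.map f f'
        (TensorProduct.map (Ideal.Quotient.mkₐ k I).toLinearMap (Ideal.Quotient.mkₐ k I).toLinearMap t)) =
        Algebra.TensorProduct.lift g.ofConv g'.ofConv (fun _ _ => .all ..) t := fun t => by
      induction t using TensorProduct.induction_on with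
      | zero => simp
      | add p q hp hq => simp only [map_add, hp, hq]
      | tmul p q =>
        simp only [TensorProduct.map_tmul, LinearMap.mul'_apply, Algebra.TensorProduct.lift_tmul]
        exact congrArg₂ (· * ·) (hf p) (hf' q)
    exact (e _).trans h
  · simp only [I, Submodule.mem_iInf]
    intro g hg
    show g.ofConv (HopfAlgebra.antipode k x) = 0
    exact hI hx g⁻¹ (S.inv_mem hg)

section Finite

variable {E : Type v} [CommRing E] [Algebra k E] [FiniteDimensional k E] [IsReduced E] [IsAlgClosed k]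

theorem eq_zero_of_forall_algHom {x : E} (h : ∀ χ : E →ₐ[k] k, χ x = 0) : x = 0 := by
  by_contra hx
  obtain ⟨χ, hχ⟩ := exists_algHom_ne_zero (k := k) (f := x) fun hn => hx hn.eq_zero
  exact hχ (h χ)

theorem finite_algHom : Finite (E →ₐ[k] k) := by
  haveI : IsArtinianRing E := isArtinian_of_tower k inferInstance
  refine Finite.of_injective (fun χ => (⟨RingHom.ker χ, RingHom.ker_isPrime χ⟩ : PrimeSpectrum E)) fun χ ψ h => ?_
  exact algHom_eq_of_ker_le (le_of_eq (congrArg PrimeSpectrum.asIdeal h))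

/-- A finite reduced algebra over an algebraically closed field is the algebra of functions on its points. -/
theorem bijective_evalPoints :
    Function.Bijective (AlgHom.pi fun χ : E →ₐ[k] k => χ) := by
  classical
  refine ⟨(injective_iff_map_eq_zero _).2 fun x hx => eq_zero_of_forall_algHom fun χ => congrFun hx χ, fun y => ?_⟩
  haveI : Finite (E →ₐ[k] k) := finite_algHom
  haveI : Fintype (E →ₐ[k] k) := Fintype.ofFinite _
  have hsep : ∀ χ : E →ₐ[k] k, ∃ x : E, χ x = 1 ∧ ∀ ψ, ψ ≠ χ → ψ x = 0 := by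
    intro χ
    have : ∀ ψ : E →ₐ[k] k, ∃ x : E, χ x = 1 ∧ (ψ ≠ χ → ψ x = 0) := fun ψ => by
      by_cases e : ψ = χ
      · exact ⟨1, map_one χ, fun h => absurd e h⟩
      · have hne : ¬ RingHom.ker ψ ≤ RingHom.ker χ := fun hle => e (algHom_eq_of_ker_le hle)
        obtain ⟨z, hz, hz'⟩ := SetLike.not_le_iff_exists.1 hne
        exact ⟨(χ z)⁻¹ • z, by rw [map_smul, smul_eq_mul, inv_mul_cancel₀ (fun h => hz' h)],
          fun _ => by rw [map_smul, show ψ z = 0 from hz, smul_zero]⟩
    choose x hx1 hx0 using this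
    refine ⟨∏ ψ, x ψ, ?_, fun ψ hψ => ?_⟩
    · rw [map_prod]; exact Finset.prod_eq_one fun ψ _ => hx1 ψ
    · rw [map_prod]; exact Finset.prod_eq_zero (Finset.mem_univ ψ) (hx0 ψ hψ)
  choose e he1 he0 using hsep
  refine ⟨∑ χ, y χ • e χ, funext fun ψ => ?_⟩
  show ψ (∑ χ, y χ • e χ) = y ψ
  rw [map_sum, Finset.sum_eq_single ψ]
  · rw [map_smul, he1, smul_eq_mul, mul_one]
  · intro χ _ hχ; rw [map_smul, he0 χ ψ (Ne.symm hχ), smul_zero]
  · intro h; exact absurd (Finset.mem_univ _) h

end Finite

end Groth.Agent.HopfQuot
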