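import Groth.Prelude.Def_AlphaP
import Groth.Prelude.Def_ConstGrp
import Groth.Prelude.Def_CartDual
import Mathlib.RingTheory.Coalgebra.MonoidAlgebra
import Mathlib.RingTheory.Bialgebra.MonoidAlgebra
import Mathlib.Data.ZMod.Basic
import Mathlib.Algebra.Field.ZMod
import Mathlib.RingTheory.Idempotents

/-!
# Calculations in `α_p` and in constant group schemes
-/

set_option autoImplicit false

noncomputable section

open TensorProduct

universe u v

namespace Groth.Agent.HopfQuot.AlphaCalc

variable (p : ℕ) [hp : Fact p.Prime] (R : Type u) [CommRing R] [hchar : CharP R p]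
include hp hchar

theorem nontrivial_base : Nontrivial R := CharP.nontrivial_of_char_ne_one (R := R) hp.out.ne_one

/-- The coefficient of `x` as a linear form. -/
def L1 : AlphaP.A p R →ₗ[R] R :=
  haveI := nontrivial_base p R
  (AlphaP.basis p R).coord ⟨1, hp.out.one_lt⟩

theorem L1_pow {i : ℕ} (hi : i < p) : L1 p R (AlphaP.x p R ^ i) = if i = 1 then 1 else 0 := by
  haveI := nontrivial_base p R
  rw [L1, show AlphaP.x p R ^ i = AlphaP.basis p R ⟨i, hi⟩ from (AlphaP.basis_apply p R ⟨i, hi⟩).symm,
    Module.Basis.coord_apply, Module.Basis.repr_self, Finsupp.single_apply]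
  simp [Fin.ext_iff]

@[simp] theorem L1_one : L1 p R 1 = 0 := by simpa using L1_pow p R hp.out.pos

@[simp] theorem L1_x : L1 p R (AlphaP.x p R) = 1 := by simpa using L1_pow p R hp.out.one_lt

/-- `d/dx` -/
def deriv : AlphaP.A p R →ₗ[R] AlphaP.A p R :=
  (TensorProduct.rid R _).toLinearMap ∘ₗ (L1 p R).lTensor _ ∘ₗ Coalgebra.comul

theorem deriv_apply (a : AlphaP.A p R) :
    deriv p R a = TensorProduct.rid R _ ((L1 p R).lTensor _ (Coalgebra.comul (R := R) a)) := rfl

theorem deriv_pow {m : ℕ} (hm : m < p) : deriv p R (AlphaP.x p R ^ m) = (m : R) • AlphaP.x p R ^ (m - 1) := by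
  rcases Nat.eq_zero_or_pos m with rfl | hm0
  · simp [deriv_apply, Bialgebra.comul_one, Algebra.TensorProduct.one_def]
  rw [deriv_apply, Bialgebra.comul_pow, AlphaP.comul_x, add_pow, map_sum, map_sum, Finset.sum_eq_single (m - 1)]
  · rw [show m - (m - 1) = 1 by omega, pow_one, Algebra.TensorProduct.tmul_pow, one_pow,
      Algebra.TensorProduct.tmul_mul_tmul, one_mul, mul_one, ← nsmul_eq_mul', map_nsmul, map_nsmul,
      LinearMap.lTensor_tmul, TensorProduct.rid_tmul, L1_x, one_smul, ← Nat.cast_smul_eq_nsmul R]
    congr 2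
    rw [← Nat.choose_symm (by omega : m - 1 ≤ m), show m - (m - 1) = 1 by omega, Nat.choose_one_right]
  · intro i hi hne
    rw [Algebra.TensorProduct.tmul_pow, one_pow, Algebra.TensorProduct.tmul_pow, one_pow,
      Algebra.TensorProduct.tmul_mul_tmul, one_mul, mul_one, ← nsmul_eq_mul', map_nsmul, map_nsmul,
      LinearMap.lTensor_tmul, TensorProduct.rid_tmul]
    have hi' : i ≤ m := by simpa [Nat.lt_succ_iff] using hi
    rw [L1_pow p R (by omega : m - i < p), if_neg (by omega), zero_smul, smul_zero]
  · intro h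
    simp at h

/-- A grouplike unit has derivative a nilpotent multiple of itself. -/
theorem isNilpotent_L1_of_grouplike {u : AlphaP.A p R} (hu : Coalgebra.comul (R := R) u = u ⊗ₜ[R] u)
    (hc : Coalgebra.counit (R := R) u = 1) : IsNilpotent (L1 p R u) := by
  haveI := nontrivial_base p R
  have hd : deriv p R u = L1 p R u • u := by
    rw [deriv_apply, hu, LinearMap.lTensor_tmul, TensorProduct.rid_tmul]
  have hit : ∀ n, ((deriv p R) ^ n) u = L1 p R u ^ n • u := fun n => by
    induction n with
    | zero => simp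
    | succ n ih => rw [pow_succ', Module.End.mul_apply, ih, map_smul, hd, smul_smul, pow_succ]
  have hpow : ∀ (n i : ℕ), i < p → i < n → ((deriv p R) ^ n) (AlphaP.x p R ^ i) = 0 := fun n => by
    induction n with
    | zero => intro i _ h; omega
    | succ n ih =>
      intro i hi hin
      rw [pow_succ, Module.End.mul_apply, deriv_pow p R hi, map_smul]
      rcases Nat.eq_zero_or_pos i with rfl | h
      · simp
      · rw [ih (i - 1) (by omega) (by omega), smul_zero]
  have hzero : ((deriv p R) ^ p) u = 0 := by
    have : (deriv p R) ^ p = 0 := (AlphaP.basis p R).ext fun i => by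
      rw [AlphaP.basis_apply, hpow p i i.2 i.2, LinearMap.zero_apply]
    rw [this, LinearMap.zero_apply]
  refine ⟨p, ?_⟩
  have h := congrArg (Coalgebra.counit (R := R) (A := AlphaP.A p R)) ((hit p).symm.trans hzero)
  rw [map_smul, hc, smul_eq_mul, mul_one, map_zero] at h
  exact h

/-- Primitive elements of `α_p` are multiples of `x`. -/
theorem eq_smul_x_of_primitive {f : AlphaP.A p R} (hf : Coalgebra.comul (R := R) f = f ⊗ₜ[R] 1 + 1 ⊗ₜ[R] f) :
    f = L1 p R f • AlphaP.x p R := by
  haveI := nontrivial_base p R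
  have hd : deriv p R f = L1 p R f • 1 := by
    rw [deriv_apply, hf, map_add, map_add, LinearMap.lTensor_tmul, LinearMap.lTensor_tmul, TensorProduct.rid_tmul,
      TensorProduct.rid_tmul, L1_one, zero_smul, zero_add]
  set g := f - L1 p R f • AlphaP.x p R with hg
  have hg0 : deriv p R g = 0 := by
    have := deriv_pow p R hp.out.one_lt
    rw [pow_one, Nat.cast_one, one_smul, show 1 - 1 = 0 from rfl, pow_zero] at this
    rw [hg, map_sub, map_smul, hd, this, sub_self]
  have hgp : Coalgebra.comul (R := R) g = g ⊗ₜ[R] 1 + 1 ⊗ₜ[R] g := by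
    rw [hg, map_sub, map_smul, hf, AlphaP.comul_x, sub_tmul, tmul_sub, smul_add, smul_tmul', tmul_smul]
    abel
  have hgc : Coalgebra.counit (R := R) g = 0 := by
    have h := Coalgebra.rTensor_counit_comul (R := R) g
    rw [hgp, map_add, LinearMap.rTensor_tmul, LinearMap.rTensor_tmul, Bialgebra.counit_one] at h
    have h' := congrArg (TensorProduct.lid R (AlphaP.A p R)) h
    rw [map_add, TensorProduct.lid_tmul, TensorProduct.lid_tmul, one_smul, add_eq_right] at h'
    have h'' := congrArg (Coalgebra.counit (R := R) (A := AlphaP.A p R)) h'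
    rwa [map_smul, Bialgebra.counit_one, smul_eq_mul, mul_one, map_zero] at h''
  have hcoef : ∀ i : Fin p, (AlphaP.basis p R).repr g i = 0 := by
    intro i
    rcases Nat.eq_zero_or_pos (i : ℕ) with hi | hi
    · have h := hgc
      rw [← (AlphaP.basis p R).sum_repr g, map_sum, Finset.sum_eq_single i] at h
      · rwa [map_smul, AlphaP.basis_apply, hi, pow_zero, Bialgebra.counit_one, smul_eq_mul, mul_one] at h
      · intro j _ hj
        rw [map_smul, AlphaP.basis_apply, Bialgebra.counit_pow, AlphaP.counit_x,
          zero_pow (fun h0 => hj (Fin.ext (h0.trans hi.symm))), smul_zero]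
      · intro h; exact absurd (Finset.mem_univ i) h
    · let j : Fin p := ⟨(i : ℕ) - 1, by omega⟩
      have h : (AlphaP.basis p R).repr (deriv p R g) j = (AlphaP.basis p R).repr 0 j := by rw [hg0]
      rw [← (AlphaP.basis p R).sum_repr g, map_sum, map_sum, map_zero, Finsupp.zero_apply,
        Finsupp.finsetSum_apply, Finset.sum_eq_single i] at h
      · rw [map_smul, AlphaP.basis_apply, deriv_pow p R i.2,
          show AlphaP.x p R ^ ((i : ℕ) - 1) = AlphaP.basis p R j from (AlphaP.basis_apply p R j).symm, smul_smul,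
          map_smul, Module.Basis.repr_self, Finsupp.smul_single, Finsupp.single_eq_same, smul_eq_mul, mul_one] at h
        have hne : ((i : ℕ) : ZMod p) ≠ 0 := fun h0 => by
          have := Nat.le_of_dvd hi ((ZMod.natCast_eq_zero_iff _ _).1 h0)
          have := i.2
          omega
        have hu : IsUnit ((i : ℕ) : R) := by
          have := (IsUnit.mk0 _ hne).map (ZMod.castHom dvd_rfl R)
          rwa [map_natCast] at this
        exact hu.mul_left_eq_zero.1 h
      · intro m _ hm
        rw [map_smul, AlphaP.basis_apply, deriv_pow p R m.2, smul_smul]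
        rcases Nat.eq_zero_or_pos (m : ℕ) with hm0 | hm0
        · rw [hm0, Nat.cast_zero, mul_zero, zero_smul, map_zero, Finsupp.zero_apply]
        · have hm1 : (m : ℕ) - 1 < p := by omega
          rw [show AlphaP.x p R ^ ((m : ℕ) - 1) = AlphaP.basis p R ⟨(m : ℕ) - 1, hm1⟩ from
            (AlphaP.basis_apply p R ⟨(m : ℕ) - 1, hm1⟩).symm, map_smul, Module.Basis.repr_self, Finsupp.smul_single,
            Finsupp.single_eq_of_ne]
          intro hjm
          refine hm (Fin.ext ?_)
          have := congrArg Fin.val hjm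
          simp [j] at this
          omega
      · intro h; exact absurd (Finset.mem_univ i) h
  have : g = 0 := by
    rw [← (AlphaP.basis p R).sum_repr g]
    exact Finset.sum_eq_zero fun i _ => by rw [hcoef i, zero_smul]
  exact sub_eq_zero.1 this

end Groth.Agent.HopfQuot.AlphaCalc

namespace Groth.Agent.HopfQuot.AlphaCalc

/-- Functions on a nontrivial finite set are not infinitesimal. -/
theorem false_of_equiv {R : Type u} [CommRing R] [Nontrivial R] {G : Type*} [DecidableEq G] {a b : G} (hab : a ≠ b)
    {A : Type*} [CommRing A] [Algebra R A] (ε : A →ₐ[R] R)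
    (hnil : ∀ x : A, IsNilpotent (x - algebraMap R A (ε x))) (f : ConstGrp.F R G ≃ₐ[R] A) : False := by
  have hidem : IsIdempotentElem (ConstGrp.e R a) := by
    refine ConstGrp.ext fun g => ?_
    rw [ConstGrp.mul_apply, ConstGrp.e_apply]
    split_ifs <;> simp
  have h1 : f (ConstGrp.e R a) = algebraMap R A (ε (f (ConstGrp.e R a))) :=
    eq_of_isNilpotent_sub_of_isIdempotentElem (hidem.map f) (((hidem.map f).map ε).map _) (hnil _)
  have h2 : ConstGrp.e R a = algebraMap R (ConstGrp.F R G) (ε (f (ConstGrp.e R a))) := by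
    apply f.injective
    rw [AlgEquiv.commutes]
    exact h1
  have ha := congrArg (fun u : ConstGrp.F R G => u a) h2
  have hb := congrArg (fun u : ConstGrp.F R G => u b) h2
  simp only [ConstGrp.e_apply_self, ConstGrp.e_apply_of_ne (Ne.symm hab), ConstGrp.algebraMap_apply] at ha hb
  exact one_ne_zero (ha.trans hb.symm)

end Groth.Agent.HopfQuot.AlphaCalc
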