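import Groth.Agent.HopfQuot.FiniteQuot
import Mathlib.RingTheory.Spectrum.Prime.FreeLocus
import Mathlib.RingTheory.LocalRing.Module
import Mathlib.RingTheory.Artinian.Module
import Mathlib.RingTheory.Finiteness.ModuleFinitePresentation

/-!
# The index formula for finite locally free subgroups
-/

set_option autoImplicit false

noncomputable section

open TensorProduct

universe u v

namespace Groth.Agent.HopfQuot.FinQuot

variable {R : Type u} [CommRing R] {A : Type v} [CommRing A] [HopfAlgebra R A] (I : Ideal A) [I.IsHopfIdeal R]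
  [Module.Finite R (A ⧸ I)] [Module.Projective R (A ⧸ I)]

/-- `tA` is linear over the invariants. -/
def tauInv : A →ₗ[↥(inv R I)] A ⊗[R] (A ⧸ I) where
  toFun := tA (R := R) I
  map_add' := map_add _
  map_smul' b a := by
    rw [RingHom.id_apply, Algebra.smul_def, map_mul,
      show tA (R := R) I (algebraMap ↥(inv R I) A b) = sA (R := R) I (b : A) from (mem_inv I).1 b.2]
    exact (Algebra.smul_def (A := A ⊗[R] (A ⧸ I)) (b : A) (tA (R := R) I a)).symm

/-- `A ⊗_B A → A ⊗_R A/I`. -/
def pairLin : A ⊗[↥(inv R I)] A →ₗ[A] A ⊗[R] (A ⧸ I) := (tauInv I).liftBaseChange A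

theorem pairLin_tmul (a a' : A) : pairLin (R := R) I (a ⊗ₜ a') = sA (R := R) I a * tA (R := R) I a' := by
  rw [pairLin, LinearMap.liftBaseChange_tmul]
  exact Algebra.smul_def (A := A ⊗[R] (A ⧸ I)) a (tA (R := R) I a')

theorem pairLin_bijective : Function.Bijective (pairLin (R := R) I) := by
  have hC : algebraMap ↥(inv R I) A = (algebraMap ↥(grpd R I).invariants A).comp (invEquiv I).toRingHom := rfl
  let C := ↥(grpd R I).invariants
  let f : A ⊗[↥(inv R I)] A →+* A ⊗[C] A :=
    liftRing₂ (S := ↥(inv R I)) (Algebra.TensorProduct.includeRight : A →ₐ[C] A ⊗[C] A).toRingHom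
      (Algebra.TensorProduct.includeLeft : A →ₐ[C] A ⊗[C] A).toRingHom (RingHom.ext fun b =>
        (AlgHom.commutes (Algebra.TensorProduct.includeLeft : A →ₐ[C] A ⊗[C] A) (invEquiv I b)).trans
          (AlgHom.commutes (Algebra.TensorProduct.includeRight : A →ₐ[C] A ⊗[C] A) (invEquiv I b)).symm)
  let g : A ⊗[C] A →+* A ⊗[↥(inv R I)] A :=
    liftRing₂ (S := C) (Algebra.TensorProduct.includeRight : A →ₐ[↥(inv R I)] A ⊗[↥(inv R I)] A).toRingHom
      (Algebra.TensorProduct.includeLeft : A →ₐ[↥(inv R I)] A ⊗[↥(inv R I)] A).toRingHom (RingHom.ext fun c =>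
        (AlgHom.commutes (Algebra.TensorProduct.includeLeft : A →ₐ[↥(inv R I)] A ⊗[↥(inv R I)] A) ((invEquiv I).symm c)).trans
          (AlgHom.commutes (Algebra.TensorProduct.includeRight : A →ₐ[↥(inv R I)] A ⊗[↥(inv R I)] A) ((invEquiv I).symm c)).symm)
  have hfg : ∀ z, g (f z) = z := fun z => by
    induction z using TensorProduct.induction_on with
    | zero => simp
    | add x y hx hy => rw [map_add, map_add, hx, hy]
    | tmul x y => simp [f, g, liftRing₂_tmul]
  have hgf : ∀ z, f (g z) = z := fun z => by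
    induction z using TensorProduct.induction_on with
    | zero => simp
    | add x y hx hy => rw [map_add, map_add, hx, hy]
    | tmul x y => simp [f, g, liftRing₂_tmul]
  have e : (pairLin (R := R) I : A ⊗[↥(inv R I)] A → A ⊗[R] (A ⧸ I)) = fun z => (grpd R I).pairMap (f z) := by
    funext z
    induction z using TensorProduct.induction_on with
    | zero => rw [map_zero, map_zero]; exact ((grpd R I).pairMap.map_zero).symm
    | add x y hx hy => rw [map_add, map_add, hx, hy]; exact ((grpd R I).pairMap.map_add (f x) (f y)).symm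
    | tmul x y =>
      have hf : f (x ⊗ₜ y) = y ⊗ₜ[C] x := by simp [f, liftRing₂_tmul]
      rw [hf, pairLin_tmul, mul_comm]
      exact ((grpd R I).pairMap_tmul y x).symm
  rw [e]
  exact (main (R := R) I).2.2.2.2.comp ⟨fun a b h => (hfg a).symm.trans ((congrArg g h).trans (hfg b)),
    fun z => ⟨g z, hgf z⟩⟩

theorem finitePresentation_inv : Module.FinitePresentation ↥(inv R I) A := by
  haveI := (main (R := R) I).1
  haveI : Algebra.FinitePresentation ↥(inv R I) A := RingHom.finitePresentation_algebraMap.1 (main (R := R) I).2.2.1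
  exact Module.FinitePresentation.of_finite_of_finitePresentation _ _

/-- The rank of `A` over the invariants is the order of the subgroup. -/
theorem rankAtStalk_inv (P : PrimeSpectrum ↥(inv R I)) :
    Module.rankAtStalk A P = Module.rankAtStalk (A ⧸ I) (P.comap (algebraMap R ↥(inv R I))) := by
  haveI := faithfullyFlat (R := R) I
  haveI := finite (R := R) I
  haveI := finitePresentation_inv (R := R) I
  obtain ⟨P', rfl⟩ := PrimeSpectrum.comap_surjective_of_faithfullyFlat (A := ↥(inv R I)) (B := A) P
  rw [← Module.rankAtStalk_baseChange (R := ↥(inv R I)) (M := A) P',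
    Module.rankAtStalk_eq_of_equiv (LinearEquiv.ofBijective (pairLin I) (pairLin_bijective I)),
    Module.rankAtStalk_baseChange (R := R) (M := A ⧸ I) P', ← PrimeSpectrum.comap_comp_apply,
    ← IsScalarTower.algebraMap_eq]

/-- Rank at maximal ideals as a fibre dimension. -/
theorem finrank_quot_tensor {S M : Type*} [CommRing S] [AddCommGroup M] [Module S M] [Module.Finite S M]
    [Module.Flat S M] (P : Ideal S) [hP : P.IsMaximal] :
    Module.finrank (S ⧸ P) ((S ⧸ P) ⊗[S] M) = Module.rankAtStalk M (⟨P, hP.isPrime⟩ : PrimeSpectrum S) := by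
  letI := Ideal.Quotient.field P
  let p : PrimeSpectrum (S ⧸ P) := ⟨⊥, Ideal.isPrime_bot⟩
  have h := Module.rankAtStalk_baseChange (R := S) (M := M) p
  rw [Module.rankAtStalk_eq_finrank_of_free] at h
  refine h.trans ?_
  congr 1
  refine PrimeSpectrum.ext ?_
  show (⊥ : Ideal (S ⧸ P)).comap (algebraMap S (S ⧸ P)) = P
  rw [← RingHom.ker_eq_comap_bot, Ideal.Quotient.algebraMap_eq, Ideal.mk_ker]

end Groth.Agent.HopfQuot.FinQuot
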