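import Groth.Agent.HopfLib.Integral
import Groth.Agent.HopfQuot.CocommDiag
import Mathlib.FieldTheory.PurelyInseparable.Basic
import Mathlib.FieldTheory.Normal.Basic
import Mathlib.LinearAlgebra.Eigenspace.Semisimple

/-!
# Linear reductivity, diagonalizability and primitive elements
-/

set_option autoImplicit false

noncomputable section

open TensorProduct HopfRep
open Groth.Agent.HopfLib
open Coalgebra (comul counit)

universe u v w

namespace Groth.Agent.HopfQuot

variable {k : Type u} [Field k] {A : Type v} [CommRing A] [HopfAlgebra k A]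

theorem eq_zero_of_primitive_of_isLinearlyReductive (hA : IsLinearlyReductive k A) {f : A}
    (hf : CoalgebraStruct.comul (R := k) f = f ⊗ₜ[k] (1 : A) + (1 : A) ⊗ₜ[k] f) : f = 0 := by
  obtain ⟨α, hα, h1⟩ := exists_integral hA
  have h := hα f
  rw [hf, map_add, sliceL_tmul, sliceL_tmul, h1, one_smul, add_eq_left] at h
  exact h

theorem isLinearlyReductive_of_isDiagonalizable (hA : IsDiagonalizable k A) : IsLinearlyReductive k A := by
  classical
  let Gr : Set A := {a | IsGroupLikeElem k a}
  have hli : LinearIndepOn k id Gr := linearIndepOn_isGroupLikeElem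
  let β := Module.Basis.span (v := fun y : Gr => (y : A)) hli
  have hβ : ∀ y : Gr, (β y : A) = y := fun y => congrArg Subtype.val (Module.Basis.span_apply _ _)
  obtain ⟨α, hα⟩ := (β.coord ⟨1, IsGroupLikeElem.one⟩).exists_extend
  have hαg : ∀ y : Gr, α y = if y = ⟨1, IsGroupLikeElem.one⟩ then 1 else 0 := fun y => by
    have h := LinearMap.congr_fun hα (β y)
    rw [LinearMap.comp_apply, Submodule.subtype_apply, hβ, Module.Basis.coord_apply,
      Module.Basis.repr_self, Finsupp.single_apply] at h
    exact h
  refine isLinearlyReductive_of_integral (α := α) (fun a => ?_) ?_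
  · have ha : a ∈ Submodule.span k Gr := hA.ge Submodule.mem_top
    induction ha using Submodule.span_induction with
    | mem g hg =>
      rw [(hg : IsGroupLikeElem k g).comul_eq_tmul_self, sliceL_tmul, hαg ⟨g, hg⟩]
      split_ifs with e
      · rw [show g = 1 from congrArg Subtype.val e]
      · simp
    | zero => simp
    | add p q _ _ hp hq => rw [map_add, map_add, map_add, hp, hq, add_smul]
    | smul c p _ hp => rw [map_smul, map_smul, map_smul, hp, smul_assoc]
  · rw [hαg ⟨1, IsGroupLikeElem.one⟩, if_pos rfl]

section BaseChange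

variable {K : Type w} [Field K] [Algebra k K]

theorem hit_baseChange_one_tmul (φ : A →ₗ[k] k) (a : A) :
    hit (k := K) (A := K ⊗[k] A) (V := K ⊗[k] A)
      ((AlgebraTensorModule.rid k K K).toLinearMap ∘ₗ φ.baseChange K) ((1 : K) ⊗ₜ[k] a) =
      (1 : K) ⊗ₜ[k] hit (V := A) φ a := by
  rw [hit_regular, comul_one_tmul, hit_regular]
  generalize CoalgebraStruct.comul (R := k) a = t
  induction t using TensorProduct.induction_on with
  | zero => simp
  | add p q hp hq => simp only [map_add, TensorProduct.tmul_add, hp, hq]
  | tmul p q => simp [TensorProduct.smul_tmul']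

end BaseChange

/-- Over a separably closed field, a group which becomes diagonalizable over the algebraic closure
is trigonalizable. -/
theorem isTrigonalizable_of_isDiagonalizable_baseChange [IsSepClosed k] [Coalgebra.IsCocomm k A]
    (hA : IsDiagonalizable (AlgebraicClosure k) (AlgebraicClosure k ⊗[k] A)) : IsTrigonalizable k A := by
  classical
  intro V _ _ cV hfin hV
  have := hV.1
  let K := AlgebraicClosure k
  have hsc : ∀ φ : A →ₗ[k] k, ∃ μ : k, ∀ v : V, hit φ v = μ • v := by
    intro φ
    let x : Module.End k V := hit (V := V) φ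
    -- an irreducible factor of the minimal polynomial with nonzero kernel
    obtain ⟨q, hq, hqm, hker⟩ : ∃ q : Polynomial k, Irreducible q ∧ q.Monic ∧
        LinearMap.ker (Polynomial.aeval x q) ≠ ⊥ := by
      have hne : ¬ IsUnit (minpoly k x) := minpoly.not_isUnit k x
      obtain ⟨q, hqm, hq, r, hr⟩ := Polynomial.exists_monic_irreducible_factor _ hne
      refine ⟨q, hq, hqm, fun hb => ?_⟩
      have hinj : Function.Injective (Polynomial.aeval x q) := LinearMap.ker_eq_bot.1 hb
      have hr0 : Polynomial.aeval x r = 0 := LinearMap.ext fun v => hinj (by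
        rw [LinearMap.zero_apply, map_zero, ← Module.End.mul_apply, ← map_mul, ← hr, minpoly.aeval,
          LinearMap.zero_apply])
      have hdvd := minpoly.dvd k x hr0
      rw [hr] at hdvd
      have hm0 : minpoly k x ≠ 0 := minpoly.ne_zero (Algebra.IsIntegral.isIntegral x)
      have hr' : r ≠ 0 := fun h => hm0 (by rw [hr, h, mul_zero])
      exact hq.not_isUnit (isUnit_of_dvd_one ((mul_dvd_mul_iff_right hr').1 (by rwa [one_mul])))
    have hcomm : ∀ (g : A →ₗ[k] k) (p : Polynomial k) (v : V),
        hit g (Polynomial.aeval x p v) = Polynomial.aeval x p (hit g v) := by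
      intro g p v
      have hc : Commute (hit (V := V) g) x := LinearMap.ext fun w => by
        show hit g (hit φ w) = hit φ (hit g w)
        rw [hit_hit, formMul_comm, ← hit_hit]
      induction p using Polynomial.induction_on' with
      | add p q hp hq => simp only [map_add, LinearMap.add_apply, hp, hq]
      | monomial n a =>
        rw [Polynomial.aeval_monomial, ← Algebra.smul_def, LinearMap.smul_apply, LinearMap.smul_apply, map_smul]
        exact congrArg (a • ·) (LinearMap.congr_fun (hc.pow_right n).eq v)
    have hsub : IsSubcomod (k := k) (A := A) (LinearMap.ker (Polynomial.aeval x q)) :=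
      isSubcomod_iff_hit.2 fun g v hv => by
        rw [LinearMap.mem_ker] at hv ⊢
        rw [← hcomm, hv, map_zero]
    have hq0 : Polynomial.aeval x q = 0 := by
      rcases hV.2 _ hsub with h | h
      · exact absurd h hker
      · exact LinearMap.ker_eq_top.1 h
    obtain ⟨v, hv⟩ := exists_ne (0 : V)
    obtain ⟨f, hf⟩ := exists_cf_ne_zero (A := A) (k := k) hv
    let c : V →ₗ[k] A := cf (A := A) f
    have hcpow : ∀ (n : ℕ) (w : V), c ((x ^ n) w) = ((hit (V := A) φ : Module.End k A) ^ n) (c w) := by
      intro n
      induction n with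
      | zero => intro w; simp
      | succ n ih =>
        intro w
        rw [pow_succ, pow_succ, Module.End.mul_apply, Module.End.mul_apply, ih,
          show c (x w) = hit (V := A) φ (c w) from IsComodHom.hit_apply (isComodHom_cf (A := A) f) φ w]
    -- the base changed operator is diagonal on the group-like elements
    let φK : K ⊗[k] A →ₗ[K] K := (AlgebraTensorModule.rid k K K).toLinearMap ∘ₗ φ.baseChange K
    let y : Module.End K (K ⊗[k] A) := hit (V := K ⊗[k] A) φK
    have hy : ∀ (n : ℕ) (a : A), (y ^ n) ((1 : K) ⊗ₜ[k] a) = (1 : K) ⊗ₜ[k] (((hit (V := A) φ : Module.End k A) ^ n) a) := by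
      intro n
      induction n with
      | zero => intro a; simp
      | succ n ih =>
        intro a
        rw [pow_succ, pow_succ, Module.End.mul_apply, Module.End.mul_apply,
          show y ((1 : K) ⊗ₜ[k] a) = (1 : K) ⊗ₜ[k] hit (V := A) φ a from hit_baseChange_one_tmul φ a, ih]
    have hqy : Polynomial.aeval y (q.map (algebraMap k K)) ((1 : K) ⊗ₜ[k] c v) = 0 := by
      have h := congrArg (fun w => (1 : K) ⊗ₜ[k] c w) (LinearMap.congr_fun hq0 v)
      simp only [Polynomial.aeval_eq_sum_range, LinearMap.sum_apply, LinearMap.smul_apply, map_sum, map_smul,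
        TensorProduct.tmul_sum, TensorProduct.tmul_smul, LinearMap.zero_apply, map_zero, TensorProduct.tmul_zero] at h
      rw [Polynomial.aeval_eq_sum_range, Polynomial.natDegree_map, LinearMap.sum_apply, ← h]
      refine Finset.sum_congr rfl fun n _ => ?_
      rw [LinearMap.smul_apply, hy, hcpow, Polynomial.coeff_map, algebraMap_smul]
    -- all eigenvalues occurring are equal to the unique root
    obtain ⟨μ, hμ⟩ := IsAlgClosed.exists_root (q.map (algebraMap k K))
      (by rw [Polynomial.degree_map]; exact (Polynomial.degree_pos_of_irreducible hq).ne')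
    have hroot : ∀ ν : K, (q.map (algebraMap k K)).eval ν = 0 → ν = μ := by
      intro ν hν
      have hm : ∀ ξ : K, (q.map (algebraMap k K)).eval ξ = 0 → minpoly k ξ = q := fun ξ hξ =>
        (minpoly.eq_of_irreducible_of_monic hq (by rw [Polynomial.aeval_def, ← Polynomial.eval_map]; exact hξ) hqm).symm
      obtain ⟨σ, hσ⟩ := (Normal.minpoly_eq_iff_mem_orbit (F := k) (E := K)).1 ((hm ν hν).trans (hm μ hμ).symm)
      have : σ.toAlgHom = AlgHom.id k K := Subsingleton.elim _ _
      rw [← hσ]
      exact DFunLike.congr_fun this μ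
    have hyμ : y ((1 : K) ⊗ₜ[k] c v) = μ • ((1 : K) ⊗ₜ[k] c v) := by
      let Gr : Set (K ⊗[k] A) := {a | IsGroupLikeElem K a}
      have hli : LinearIndepOn K id Gr := linearIndepOn_isGroupLikeElem
      have hmem : (1 : K) ⊗ₜ[k] c v ∈ Submodule.span K (id '' Gr) := by
        rw [Set.image_id]; exact hA.ge Submodule.mem_top
      obtain ⟨l, hl, hsum⟩ := (Finsupp.mem_span_image_iff_linearCombination K (v := id)).1 hmem
      have heig : ∀ G ∈ l.support, y G = φK G • G := fun G hG => by
        show hit (V := K ⊗[k] A) φK G = _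
        rw [hit_regular, (hl hG : IsGroupLikeElem K G).comul_eq_tmul_self, sliceR_tmul]
      have heigp : ∀ G ∈ l.support,
          Polynomial.aeval y (q.map (algebraMap k K)) G = (q.map (algebraMap k K)).eval (φK G) • G := fun G hG =>
        Module.End.aeval_apply_of_hasEigenvector
          ⟨Module.End.mem_eigenspace_iff.2 (heig G hG), (hl hG : IsGroupLikeElem K G).ne_zero⟩
      rw [← hsum, Finsupp.linearCombination_apply, Finsupp.sum] at hqy ⊢
      rw [map_sum] at hqy ⊢
      rw [Finset.smul_sum]
      have h0 : ∀ G ∈ l.support, l G * (q.map (algebraMap k K)).eval (φK G) = 0 := by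
        refine linearIndepOn_iff'.1 hli l.support _ hl (Eq.trans ?_ hqy)
        refine Finset.sum_congr rfl fun G hG => ?_
        rw [map_smul, id, heigp G hG, smul_smul]
      refine Finset.sum_congr rfl fun G hG => ?_
      rw [map_smul, id, heig G hG, hroot _ ((mul_eq_zero.1 (h0 G hG)).resolve_left (Finsupp.mem_support_iff.1 hG)),
        smul_comm]
    -- the eigenvalue lies in `k`
    obtain ⟨g, hg⟩ := Module.Projective.exists_dual_ne_zero k hf
    refine ⟨(g (c v))⁻¹ * g (hit (V := A) φ (c v)), fun w => ?_⟩
    have hyμ' : (1 : K) ⊗ₜ[k] hit (V := A) φ (c v) = μ • ((1 : K) ⊗ₜ[k] c v) :=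
      (hit_baseChange_one_tmul φ (c v)).symm.trans hyμ
    have hμk : μ = algebraMap k K ((g (c v))⁻¹ * g (hit (V := A) φ (c v))) := by
      have h := congrArg (fun t => AlgebraTensorModule.rid k K K (g.baseChange K t)) hyμ'
      simp only [map_smul, LinearMap.baseChange_tmul, AlgebraTensorModule.rid_tmul] at h
      rw [map_mul, map_inv₀, Algebra.algebraMap_eq_smul_one (g (hit (V := A) φ (c v))), h, smul_eq_mul,
        ← Algebra.algebraMap_eq_smul_one, mul_comm μ, inv_mul_cancel_left₀]
      exact fun h0 => hg ((algebraMap k K).injective (h0.trans (map_zero _).symm))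
    set μ₀ := (g (c v))⁻¹ * g (hit (V := A) φ (c v)) with hμ₀
    have hE : IsSubcomod (k := k) (A := A) (LinearMap.ker (x - μ₀ • LinearMap.id)) :=
      isSubcomod_iff_hit.2 fun g w hw => by
        simp only [LinearMap.mem_ker, LinearMap.sub_apply, LinearMap.smul_apply, LinearMap.id_apply,
          sub_eq_zero] at hw ⊢
        show hit φ (hit g w) = _
        rw [hit_hit, formMul_comm, ← hit_hit, show hit φ w = μ₀ • w from hw, map_smul]
    have hEv : LinearMap.ker (x - μ₀ • LinearMap.id) ≠ ⊥ := by
      have hcomod : Hoch.IsComodHom A c := isComodHom_cf (A := A) f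
      have hinj : Function.Injective c := by
        rcases hV.2 _ (isSubcomod_ker hcomod) with h | h
        · exact LinearMap.ker_eq_bot.1 h
        · exact absurd (LinearMap.congr_fun (LinearMap.ker_eq_top.1 h) v) hf
      refine (Submodule.ne_bot_iff _).2 ⟨v, ?_, hv⟩
      rw [LinearMap.mem_ker, LinearMap.sub_apply, LinearMap.smul_apply, LinearMap.id_apply, sub_eq_zero]
      refine hinj (includeRight_injective (k := k) (R := K) ?_)
      show (1 : K) ⊗ₜ[k] c (hit φ v) = (1 : K) ⊗ₜ[k] c (μ₀ • v)
      rw [IsComodHom.hit_apply hcomod, hyμ', hμk, map_smul, TensorProduct.tmul_smul, algebraMap_smul]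
    rcases hV.2 _ hE with h | h
    · exact absurd h hEv
    · have := LinearMap.congr_fun (LinearMap.ker_eq_top.1 h) w
      simpa [sub_eq_zero, x] using this
  obtain ⟨v, hv⟩ := exists_ne (0 : V)
  have hL : IsSubcomod (k := k) (A := A) (Submodule.span k {v}) := isSubcomod_iff_hit.2 fun φ y hy => by
    obtain ⟨μ, hμ⟩ := hsc φ
    rw [hμ]
    exact Submodule.smul_mem _ _ hy
  rcases hV.2 _ hL with h | h
  · exact absurd ((Submodule.eq_bot_iff _).1 h v (Submodule.mem_span_singleton_self v)) hv
  · rw [← finrank_top k V, ← h, finrank_span_singleton hv]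

end Groth.Agent.HopfQuot
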