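import Groth.Agent.HopfQuot.Basic
import Groth.Agent.HopfLib.SubHopf
import Groth.Agent.HopfLib.Slices
import Groth.Agent.HopfLib.Comod
import Mathlib.RingTheory.Flat.FaithfullyFlat.Algebra

/-!
# Right invariants of a normal subgroup
-/

set_option autoImplicit false

noncomputable section

open TensorProduct WithConv
open Groth.Agent.HopfLib

universe u v

namespace Groth.Agent.HopfQuot

variable {k : Type u} [Field k] {A : Type u} [CommRing A] [HopfAlgebra k A]
  {R : Type u} [CommRing R] [Algebra k R]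

variable (k) in
/-- `(g, n) ↦ g * n` on functions. -/
def shift (I : Ideal A) : A →ₐ[k] A ⊗[k] (A ⧸ I) :=
  (push Algebra.TensorProduct.includeLeft (idPt k A) *
    push Algebra.TensorProduct.includeRight (mkPt (k := k) I)).ofConv

variable (k) in
/-- Functions invariant under right translation. -/
def invAlg (I : Ideal A) : Subalgebra k A :=
  AlgHom.equalizer (shift k I) Algebra.TensorProduct.includeLeft

theorem shift_eq (I : Ideal A) (x : A) :
    shift k I x = LinearMap.lTensor A (Ideal.Quotient.mkₐ k I).toLinearMap (CoalgebraStruct.comul (R := k) x) := by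
  rw [shift, mul_apply]
  generalize CoalgebraStruct.comul (R := k) x = t
  induction t using TensorProduct.induction_on with
  | zero => simp
  | add p q hp hq => simp only [map_add, hp, hq]
  | tmul p q => simp

theorem mem_invAlg {I : Ideal A} {x : A} : x ∈ invAlg k I ↔ shift k I x = x ⊗ₜ 1 := Iff.rfl

theorem mul_apply_of_mem_invAlg {I : Ideal A} {x : A} (hx : x ∈ invAlg k I) (g : Pt k A R) {n : Pt k A R}
    (hn : Kills I n) : (g * n).ofConv x = g.ofConv x := by
  obtain ⟨φ, rfl⟩ := hn.exists_push
  have h := congrArg (Algebra.TensorProduct.lift g.ofConv φ fun _ _ => .all ..) (mem_invAlg.1 hx)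
  rw [shift, ← push_apply, map_mul] at h
  refine Eq.trans ?_ (h.trans (by simp))
  congr 3
  all_goals
    refine WithConv.ext (AlgHom.ext fun y => ?_)
    simp

theorem mem_invAlg_of_forall {I : Ideal A} {x : A}
    (h : ∀ (R : Type u) [CommRing R] [Algebra k R] (g n : Pt k A R), Kills I n →
      (g * n).ofConv x = g.ofConv x) : x ∈ invAlg k I :=
  h _ _ _ ((kills_mkPt I).push _)

/-- The counit vanishing elements of the invariants lie in the ideal. -/
theorem mem_of_mem_invAlg {I : Ideal A} {x : A} (hx : x ∈ invAlg k I)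
    (h0 : CoalgebraStruct.counit (R := k) x = 0) : x ∈ I := by
  have h := mul_apply_of_mem_invAlg hx 1 (kills_mkPt (k := k) I)
  rw [one_mul, one_apply, h0, map_zero] at h
  exact (Ideal.Quotient.eq_zero_iff_mem).1 h

theorem mul_apply_left_of_mem_invAlg {I : Ideal A} (hI : IsNormalSub k A I) {x : A} (hx : x ∈ invAlg k I)
    (g : Pt k A R) {n : Pt k A R} (hn : Kills I n) : (n * g).ofConv x = g.ofConv x := by
  have e : n * g = g * (g⁻¹ * n * g) := by group
  rw [e]
  exact mul_apply_of_mem_invAlg hx g (hI.conj' g hn)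

section Comodule

variable {V : Type v} [AddCommGroup V] [Module k V] [HopfRep.Comod k A V]

theorem lTensor_coact_eq_of_fixed {I : Ideal A} {w : V}
    (hw : LinearMap.lTensor V (Ideal.Quotient.mkₐ k I).toLinearMap (HopfRep.Comod.coact (k := k) (A := A) w) =
      w ⊗ₜ[k] (1 : A ⧸ I)) {n : Pt k A R} (hn : Kills I n) :
    LinearMap.lTensor V n.ofConv.toLinearMap (HopfRep.Comod.coact (k := k) (A := A) w) = w ⊗ₜ[k] (1 : R) := by
  obtain ⟨φ, rfl⟩ := hn.exists_push
  have h := congrArg (LinearMap.lTensor V φ.toLinearMap) hw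
  rw [← LinearMap.comp_apply, ← LinearMap.lTensor_comp, LinearMap.lTensor_tmul] at h
  refine Eq.trans ?_ (h.trans (congrArg (w ⊗ₜ[k] ·) (map_one φ)))
  rfl

theorem lTensor_mul_coact (g n : Pt k A R) (w : V) :
    LinearMap.lTensor V (g * n).ofConv.toLinearMap (HopfRep.Comod.coact (k := k) (A := A) w) =
      LinearMap.lTensor V (LinearMap.mul' k R) (TensorProduct.assoc k V R R
        ((LinearMap.lTensor V g.ofConv.toLinearMap ∘ₗ HopfRep.Comod.coact (k := k) (A := A)).rTensor R
          (LinearMap.lTensor V n.ofConv.toLinearMap (HopfRep.Comod.coact (k := k) (A := A) w)))) := by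
  have e : (g * n).ofConv.toLinearMap = LinearMap.mul' k R ∘ₗ
      TensorProduct.map g.ofConv.toLinearMap n.ofConv.toLinearMap ∘ₗ CoalgebraStruct.comul (R := k) (A := A) := by
    refine LinearMap.ext fun a => ?_
    rw [AlgHom.toLinearMap_apply, mul_apply, LinearMap.comp_apply, LinearMap.comp_apply]
    generalize CoalgebraStruct.comul (R := k) a = t
    induction t using TensorProduct.induction_on with
    | zero => simp
    | add p q hp hq => simp only [map_add, hp, hq]
    | tmul p q => simp
  rw [e, LinearMap.lTensor_comp, LinearMap.lTensor_comp, LinearMap.comp_apply, LinearMap.comp_apply,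
    ← coassoc_apply]
  congr 1
  generalize HopfRep.Comod.coact (k := k) (A := A) w = t
  induction t using TensorProduct.induction_on with
  | zero => simp
  | add p q hp hq => simp only [map_add, hp, hq]
  | tmul p q =>
    simp only [LinearMap.rTensor_tmul, LinearMap.lTensor_tmul, LinearMap.comp_apply]
    generalize HopfRep.Comod.coact (k := k) (A := A) p = s
    induction s using TensorProduct.induction_on with
    | zero => simp
    | add a b ha hb => simp only [map_add, TensorProduct.add_tmul, ha, hb]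
    | tmul a b => simp

theorem lTensor_left_mul_coact_of_fixed {I : Ideal A} (hI : IsNormalSub k A I) {w : V}
    (hw : LinearMap.lTensor V (Ideal.Quotient.mkₐ k I).toLinearMap (HopfRep.Comod.coact (k := k) (A := A) w) =
      w ⊗ₜ[k] (1 : A ⧸ I)) (g : Pt k A R) {h : Pt k A R} (hh : Kills I h) :
    LinearMap.lTensor V (h * g).ofConv.toLinearMap (HopfRep.Comod.coact (k := k) (A := A) w) =
      LinearMap.lTensor V g.ofConv.toLinearMap (HopfRep.Comod.coact (k := k) (A := A) w) := by
  have e : h * g = g * (g⁻¹ * h * g) := by group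
  rw [e, lTensor_mul_coact, lTensor_coact_eq_of_fixed hw (hI.conj' g hh), LinearMap.rTensor_tmul,
    LinearMap.comp_apply]
  generalize LinearMap.lTensor V g.ofConv.toLinearMap (HopfRep.Comod.coact (k := k) (A := A) w) = t
  induction t using TensorProduct.induction_on with
  | zero => simp
  | add p q hp hq => simp only [map_add, TensorProduct.add_tmul, hp, hq]
  | tmul p q => simp

theorem isSubcomod_fixed {I : Ideal A} (hI : IsNormalSub k A I) (W : Submodule k V)
    (hW : ∀ v : V, v ∈ W ↔
      LinearMap.lTensor V (Ideal.Quotient.mkₐ k I).toLinearMap (HopfRep.Comod.coact (k := k) (A := A) v) =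
        v ⊗ₜ[k] (1 : A ⧸ I)) :
    HopfRep.IsSubcomod (k := k) (A := A) W := by
  let φ : V →ₗ[k] V ⊗[k] (A ⧸ I) :=
    LinearMap.lTensor V (Ideal.Quotient.mkₐ k I).toLinearMap ∘ₗ HopfRep.Comod.coact (k := k) (A := A) -
      (TensorProduct.mk k V (A ⧸ I)).flip 1
  have hker : LinearMap.range W.subtype = LinearMap.ker φ := by
    ext v
    rw [Submodule.range_subtype, LinearMap.mem_ker, hW]
    simp [φ, sub_eq_zero]
  have hex := Module.Flat.rTensor_exact A (LinearMap.exact_iff.2 hker.symm)
  intro w hw
  refine (hex _).1 ?_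
  have h := congrArg (TensorProduct.assoc k V (A ⧸ I) A).symm
    (lTensor_left_mul_coact_of_fixed hI ((hW w).1 hw)
      (push (Algebra.TensorProduct.includeRight : A →ₐ[k] (A ⧸ I) ⊗[k] A) (idPt k A))
      (h := push Algebra.TensorProduct.includeLeft (mkPt (k := k) I)) ((kills_mkPt I).push _))
  have e1 : (push (Algebra.TensorProduct.includeLeft) (mkPt (k := k) I) *
      push (Algebra.TensorProduct.includeRight : A →ₐ[k] (A ⧸ I) ⊗[k] A) (idPt k A)).ofConv.toLinearMap =
      (Ideal.Quotient.mkₐ k I).toLinearMap.rTensor A ∘ₗ CoalgebraStruct.comul (R := k) (A := A) := by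
    refine LinearMap.ext fun a => ?_
    rw [AlgHom.toLinearMap_apply, mul_apply, LinearMap.comp_apply]
    generalize CoalgebraStruct.comul (R := k) a = t
    induction t using TensorProduct.induction_on with
    | zero => simp
    | add p q hp hq => simp only [map_add, hp, hq]
    | tmul p q => simp
  rw [e1, LinearMap.lTensor_comp, LinearMap.comp_apply, ← coassoc_apply] at h
  rw [LinearMap.rTensor_sub, LinearMap.sub_apply, sub_eq_zero]
  refine Eq.trans ?_ (h.trans ?_)
  · generalize HopfRep.Comod.coact (k := k) (A := A) w = t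
    induction t using TensorProduct.induction_on with
    | zero => simp
    | add p q hp hq => simp only [map_add, hp, hq]
    | tmul p q =>
      simp only [LinearMap.rTensor_tmul, LinearMap.comp_apply]
      generalize HopfRep.Comod.coact (k := k) (A := A) p = s
      induction s using TensorProduct.induction_on with
      | zero => simp
      | add a b ha hb => simp only [map_add, TensorProduct.add_tmul, ha, hb]
      | tmul a b => simp
  · generalize HopfRep.Comod.coact (k := k) (A := A) w = t
    induction t using TensorProduct.induction_on with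
    | zero => simp
    | add p q hp hq => simp only [map_add, hp, hq]
    | tmul p q => simp

end Comodule

theorem invAlg_toSubmodule_mem (I : Ideal A) (x : A) :
    x ∈ Subalgebra.toSubmodule (invAlg k I) ↔
      LinearMap.lTensor A (Ideal.Quotient.mkₐ k I).toLinearMap (HopfRep.Comod.coact (k := k) (A := A) (V := A) x) =
        x ⊗ₜ[k] (1 : A ⧸ I) := by
  rw [Subalgebra.mem_toSubmodule, mem_invAlg, shift_eq]
  rfl

/-- The invariants form a Hopf subalgebra. -/
theorem isHopfSubalgebra_invAlg {I : Ideal A} (hI : IsNormalSub k A I) :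
    SGA3.IsHopfSubalgebra k A (invAlg k I) := by
  refine ⟨fun x hx => ?_, fun x hx => mem_invAlg_of_forall fun R _ _ g n hn => ?_⟩
  · show _ ∈ LinearMap.range (TensorProduct.map (Subalgebra.toSubmodule (invAlg k I)).subtype
      (Subalgebra.toSubmodule (invAlg k I)).subtype)
    rw [mem_range_map_subtype_iff]
    refine ⟨fun g => sliceR_mem_of_mem_range
      (isSubcomod_fixed hI _ (fun v => invAlg_toSubmodule_mem I v) x hx) g, ?_⟩
    rw [← mem_range_lTensor_subtype_iff]
    let φ : A →ₗ[k] A ⊗[k] (A ⧸ I) :=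
      (shift k I).toLinearMap - (Algebra.TensorProduct.includeLeft : A →ₐ[k] A ⊗[k] (A ⧸ I)).toLinearMap
    have hker : LinearMap.range (Subalgebra.toSubmodule (invAlg k I)).subtype = LinearMap.ker φ := by
      ext v
      rw [Submodule.range_subtype, LinearMap.mem_ker, Subalgebra.mem_toSubmodule, mem_invAlg]
      simp [φ, sub_eq_zero]
    refine (Module.Flat.lTensor_exact A (LinearMap.exact_iff.2 hker.symm) _).1 ?_
    let g₁ : Pt k A (A ⊗[k] (A ⊗[k] (A ⧸ I))) := push Algebra.TensorProduct.includeLeft (idPt k A)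
    let g₂ : Pt k A (A ⊗[k] (A ⊗[k] (A ⧸ I))) :=
      push Algebra.TensorProduct.includeRight (push Algebra.TensorProduct.includeLeft (idPt k A))
    let n : Pt k A (A ⊗[k] (A ⊗[k] (A ⧸ I))) :=
      push Algebra.TensorProduct.includeRight (push Algebra.TensorProduct.includeRight (mkPt (k := k) I))
    have hn : Kills I n := ((kills_mkPt I).push _).push _
    have h := mul_apply_of_mem_invAlg hx (g₁ * g₂) hn
    rw [mul_assoc, mul_apply g₁ (g₂ * n), mul_apply g₁ g₂] at h
    rw [LinearMap.lTensor_sub, LinearMap.sub_apply, sub_eq_zero]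
    have e2 : g₂ * n = push Algebra.TensorProduct.includeRight
        (push Algebra.TensorProduct.includeLeft (idPt k A) *
          push Algebra.TensorProduct.includeRight (mkPt (k := k) I)) := (map_mul _ _ _).symm
    rw [e2] at h
    refine Eq.trans ?_ (h.trans ?_)
    all_goals
      generalize CoalgebraStruct.comul (R := k) x = t
      induction t using TensorProduct.induction_on with
      | zero => simp
      | add p q hp hq => simp only [map_add, hp, hq]
      | tmul p q => simp [g₁, g₂, shift, -map_mul]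
  · have h1 : (g * n).ofConv (HopfAlgebraStruct.antipode k (A := A) x) = (g * n)⁻¹.ofConv x := rfl
    rw [h1, _root_.mul_inv_rev, mul_apply_left_of_mem_invAlg hI hx g⁻¹ (hI.inv hn)]
    rfl

/-- Two points agreeing on a Hopf subalgebra. -/
theorem mul_apply_congr {B : Subalgebra k A} (hB : SGA3.IsHopfSubalgebra k A B) {g g' h h' : Pt k A R}
    (hg : ∀ b ∈ B, g.ofConv b = g'.ofConv b) (hh : ∀ b ∈ B, h.ofConv b = h'.ofConv b) {x : A} (hx : x ∈ B) :
    (g * h).ofConv x = (g' * h').ofConv x := by
  obtain ⟨t, ht⟩ := hB.1 x hx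
  rw [mul_apply, mul_apply, ← ht]
  clear ht
  induction t using TensorProduct.induction_on with
  | zero => simp
  | add p q hp hq => simp only [map_add, hp, hq]
  | tmul p q => simp [hg p p.2, hh q q.2]

/-- Two points agree on a Hopf subalgebra iff their quotient is trivial on it. -/
theorem inv_mul_apply_of_agree {B : Subalgebra k A} (hB : SGA3.IsHopfSubalgebra k A B) {g h : Pt k A R}
    (hgh : ∀ b ∈ B, g.ofConv b = h.ofConv b) {x : A} (hx : x ∈ B) :
    (g⁻¹ * h).ofConv x = algebraMap k R (CoalgebraStruct.counit (R := k) x) := by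
  rw [← mul_apply_congr hB (g := g⁻¹) (g' := g⁻¹) (fun _ _ => rfl) hgh hx, inv_mul_cancel, one_apply]

theorem kills_augIdealSpan_iff {B : Subalgebra k A} {g : Pt k A R} :
    Kills (SGA3.augIdealSpan k A B) g ↔
      ∀ b ∈ B, g.ofConv b = algebraMap k R (CoalgebraStruct.counit (R := k) b) := by
  refine ⟨fun h b hb => ?_, fun h a ha => ?_⟩
  · have := h (b - algebraMap k A (CoalgebraStruct.counit (R := k) b))
      (Ideal.subset_span ⟨sub_mem hb (B.algebraMap_mem _), by simp⟩)
    rw [map_sub, AlgHom.commutes, sub_eq_zero] at this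
    exact this
  · induction ha using Submodule.span_induction with
    | mem y hy => rw [h y hy.1, hy.2, map_zero]
    | zero => simp
    | add p q _ _ hp hq => rw [map_add, hp, hq, add_zero]
    | smul c p _ hp => rw [smul_eq_mul, map_mul, hp, mul_zero]

theorem mem_augIdealSpan_of_forall {B : Subalgebra k A} {a : A}
    (h : ∀ (R : Type u) [CommRing R] [Algebra k R] (g : Pt k A R),
      (∀ b ∈ B, g.ofConv b = algebraMap k R (CoalgebraStruct.counit (R := k) b)) → g.ofConv a = 0) :
    a ∈ SGA3.augIdealSpan k A B :=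
  (Ideal.Quotient.eq_zero_iff_mem).1
    (h _ (mkPt (k := k) (SGA3.augIdealSpan k A B)) (kills_augIdealSpan_iff.1 (kills_mkPt _)))

/-- Invariants of `B⁺A` are `B`. -/
theorem invAlg_eq_of_augIdealSpan {B : Subalgebra k A} (hB : SGA3.IsHopfSubalgebra k A B) :
    invAlg k (SGA3.augIdealSpan k A B) = B := by
  refine le_antisymm (fun x hx => ?_) fun x hx => mem_invAlg_of_forall fun R _ _ g n hn => ?_
  · have := faithfullyFlat_hopfSubalgebra hB
    let g₁ : Pt k A (A ⊗[B] A) := toConv Algebra.TensorProduct.includeLeft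
    let g₂ : Pt k A (A ⊗[B] A) :=
      toConv ((Algebra.TensorProduct.includeRight : A →ₐ[B] A ⊗[B] A).restrictScalars k)
    have hag : ∀ b ∈ B, g₁.ofConv b = g₂.ofConv b := fun b hb => by
      have := (Algebra.TensorProduct.includeRight : A →ₐ[B] A ⊗[B] A).commutes ⟨b, hb⟩
      exact this.symm
    have hn : Kills (SGA3.augIdealSpan k A B) (g₁⁻¹ * g₂) :=
      kills_augIdealSpan_iff.2 fun b hb => inv_mul_apply_of_agree hB hag hb
    have h := mul_apply_of_mem_invAlg hx g₁ hn
    rw [mul_inv_cancel_left] at h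
    have h0 := congrArg (LinearMap.lTensor A (Submodule.mkQ (LinearMap.range (Algebra.linearMap B A)))) h
    simp only [g₁, g₂, ofConv_toConv, AlgHom.restrictScalars_apply, Algebra.TensorProduct.includeLeft_apply,
      Algebra.TensorProduct.includeRight_apply, LinearMap.lTensor_tmul] at h0
    rw [show Submodule.mkQ (LinearMap.range (Algebra.linearMap B A)) (1 : A) = 0 from
      (Submodule.Quotient.mk_eq_zero _).2 ⟨1, by simp⟩, TensorProduct.tmul_zero] at h0
    have h1 := Module.FaithfullyFlat.tensorProduct_mk_injective (A := B) (B := A)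
      (A ⧸ LinearMap.range (Algebra.linearMap B A))
      (h0.trans (TensorProduct.tmul_zero _ 1).symm)
    obtain ⟨b, hb⟩ := (Submodule.Quotient.mk_eq_zero _).1 h1
    exact hb ▸ b.2
  · rw [mul_apply_congr hB (g' := g) (h' := 1) (fun _ _ => rfl)
      (fun b hb => (kills_augIdealSpan_iff.1 hn b hb).trans (one_apply b).symm) hx, mul_one]

/-- Invariant functions on a closed subscheme cut out by invariant functions lift to invariant functions. -/
theorem exists_mem_invAlg_lift {I : Ideal A} {C : Subalgebra k A} (hC : SGA3.IsHopfSubalgebra k A C)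
    (hCI : C ≤ invAlg k I) (f : A)
    (hf : ∀ (R : Type u) [CommRing R] [Algebra k R] (g n : Pt k A R),
      Kills (SGA3.augIdealSpan k A C) g → Kills I n → (g * n).ofConv f = g.ofConv f) :
    ∃ b ∈ invAlg k I, b - f ∈ SGA3.augIdealSpan k A C := by
  classical
  have := faithfullyFlat_hopfSubalgebra hC
  let φ : A →ₗ[C] A ⊗[k] (A ⧸ I) :=
    { toFun := fun x => shift k I x - x ⊗ₜ 1
      map_add' := fun x y => by simp only [map_add, TensorProduct.add_tmul]; abel
      map_smul' := fun c x => by
        have hc : shift k I (c : A) = (c : A) ⊗ₜ 1 := mem_invAlg.1 (hCI c.2)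
        have hs : ∀ t : A ⊗[k] (A ⧸ I), c • t = ((c : A) ⊗ₜ[k] 1) * t := fun t => by
          induction t using TensorProduct.induction_on with
          | zero => simp
          | add p q hp hq => simp only [mul_add, smul_add, hp, hq]
          | tmul p q => rw [Algebra.TensorProduct.tmul_mul_tmul, one_mul]; rfl
        show shift k I ((c : A) * x) - ((c : A) * x) ⊗ₜ[k] 1 = c • (shift k I x - x ⊗ₜ[k] 1)
        rw [hs, mul_sub, map_mul, hc, Algebra.TensorProduct.tmul_mul_tmul, one_mul] }
  let g₁ : Pt k A (A ⊗[C] A) := toConv Algebra.TensorProduct.includeLeft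
  let g₂ : Pt k A (A ⊗[C] A) :=
    toConv ((Algebra.TensorProduct.includeRight : A →ₐ[C] A ⊗[C] A).restrictScalars k)
  have hag : ∀ b ∈ C, g₁.ofConv b = g₂.ofConv b := fun b hb =>
    ((Algebra.TensorProduct.includeRight : A →ₐ[C] A ⊗[C] A).commutes ⟨b, hb⟩).symm
  have hk : Kills (SGA3.augIdealSpan k A C) (g₁⁻¹ * g₂) :=
    kills_augIdealSpan_iff.2 fun b hb => inv_mul_apply_of_agree hC hag hb
  let z : A ⊗[C] A := (g₁⁻¹ * g₂).ofConv f
  have hz : φ.lTensor A z = 0 := by
    let L : A →ₐ[k] A ⊗[C] (A ⊗[k] (A ⧸ I)) := Algebra.TensorProduct.includeLeft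
    let Rr : A ⊗[k] (A ⧸ I) →ₐ[k] A ⊗[C] (A ⊗[k] (A ⧸ I)) :=
      (Algebra.TensorProduct.includeRight : A ⊗[k] (A ⧸ I) →ₐ[C] _).restrictScalars k
    let h₁ : Pt k A (A ⊗[C] (A ⊗[k] (A ⧸ I))) := push L (idPt k A)
    let h₂ : Pt k A (A ⊗[C] (A ⊗[k] (A ⧸ I))) := push Rr (push Algebra.TensorProduct.includeLeft (idPt k A))
    let n : Pt k A (A ⊗[C] (A ⊗[k] (A ⧸ I))) :=
      push Rr (push Algebra.TensorProduct.includeRight (mkPt (k := k) I))
    let Ψ₁ : A ⊗[C] A →ₐ[C] A ⊗[C] (A ⊗[k] (A ⧸ I)) :=
      Algebra.TensorProduct.map (AlgHom.id C A) (IsScalarTower.toAlgHom C A (A ⊗[k] (A ⧸ I)))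
    let σ : A →ₐ[C] A ⊗[k] (A ⧸ I) :=
      { (shift k I).toRingHom with commutes' := fun c => mem_invAlg.1 (hCI c.2) }
    let Ψ₂ : A ⊗[C] A →ₐ[C] A ⊗[C] (A ⊗[k] (A ⧸ I)) := Algebra.TensorProduct.map (AlgHom.id C A) σ
    have e : ∀ w, φ.lTensor A w = Ψ₂ w - Ψ₁ w := by
      intro w
      induction w using TensorProduct.induction_on with
      | zero => simp
      | add p q hp hq => simp only [map_add, hp, hq]; abel
      | tmul p q => simp only [LinearMap.lTensor_tmul, φ, LinearMap.coe_mk, AddHom.coe_mk, TensorProduct.tmul_sub]; rfl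
    rw [e, sub_eq_zero]
    have q₁ : push (Ψ₁.restrictScalars k) g₁ = h₁ := by
      refine WithConv.ext (AlgHom.ext fun y => ?_)
      show Ψ₁ (y ⊗ₜ 1) = L y; exact (Algebra.TensorProduct.map_tmul _ _ _ _).trans (congrArg (y ⊗ₜ[C] ·) (map_one _))
    have q₂ : push (Ψ₁.restrictScalars k) g₂ = h₂ := by
      refine WithConv.ext (AlgHom.ext fun y => ?_)
      show Ψ₁ (1 ⊗ₜ y) = Rr (y ⊗ₜ 1); exact (Algebra.TensorProduct.map_tmul _ _ _ _).trans rfl
    have q₃ : push (Ψ₂.restrictScalars k) g₁ = h₁ := by
      refine WithConv.ext (AlgHom.ext fun y => ?_)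
      show Ψ₂ (y ⊗ₜ 1) = L y; exact (Algebra.TensorProduct.map_tmul _ _ _ _).trans (congrArg (y ⊗ₜ[C] ·) (map_one _))
    have q₄ : push (Ψ₂.restrictScalars k) g₂ = h₂ * n := by
      rw [← map_mul]
      refine WithConv.ext (AlgHom.ext fun y => ?_)
      rw [push_apply, push_apply]
      rfl
    have e₁ : push (Ψ₁.restrictScalars k) (g₁⁻¹ * g₂) = h₁⁻¹ * h₂ := by rw [map_mul, map_inv, q₁, q₂]
    have e₂ : push (Ψ₂.restrictScalars k) (g₁⁻¹ * g₂) = h₁⁻¹ * h₂ * n := by
      rw [map_mul, map_inv, q₃, q₄, mul_assoc]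
    have hn : Kills I n := ((kills_mkPt I).push _).push _
    refine Eq.trans (congrArg (fun p : Pt k A _ => p.ofConv f) e₂)
      (Eq.trans (hf _ _ n ?_ hn) (congrArg (fun p : Pt k A _ => p.ofConv f) e₁).symm)
    rw [← e₁]
    exact hk.push _
  have hker : LinearMap.range (⟨⟨Subtype.val, fun _ _ => rfl⟩, fun _ _ => rfl⟩ : LinearMap.ker φ →ₗ[C] A) =
      LinearMap.ker φ := Submodule.range_subtype _
  obtain ⟨w, hw⟩ := (Module.Flat.lTensor_exact A (LinearMap.exact_iff.2 hker.symm) z).1 hz
  let P := SGA3.augIdealSpan k A C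
  let θ : A ⊗[C] A →ₐ[C] A ⧸ P := Algebra.TensorProduct.lift
    { ((Algebra.ofId k (A ⧸ P)).comp (Bialgebra.counitAlgHom k A)).toRingHom with
      commutes' := fun c => (kills_augIdealSpan_iff.1 (kills_mkPt (k := k) P) c c.2).symm }
    { Ideal.Quotient.mk P with commutes' := fun c => rfl } fun _ _ => .all ..
  have hθz : θ z = Ideal.Quotient.mk P f := by
    have e₀ : push (θ.restrictScalars k) g₁ = 1 := by
      refine WithConv.ext (AlgHom.ext fun y => ?_)
      rw [one_apply]
      show θ (y ⊗ₜ[C] (1 : A)) = _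
      simp only [θ]; erw [Algebra.TensorProduct.lift_tmul]; rw [map_one, _root_.mul_one]
      rfl
    have : push (θ.restrictScalars k) (g₁⁻¹ * g₂) = mkPt (k := k) P := by
      rw [map_mul, map_inv, e₀, inv_one, one_mul]
      refine WithConv.ext (AlgHom.ext fun y => ?_)
      show θ ((1 : A) ⊗ₜ[C] y) = _
      simp only [θ]; erw [Algebra.TensorProduct.lift_tmul]; rw [map_one, _root_.one_mul]
      rfl
    exact congrArg (fun p : Pt k A _ => p.ofConv f) this
  have key : ∀ w : A ⊗[C] LinearMap.ker φ, ∃ b ∈ invAlg k I,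
      θ (LinearMap.lTensor A (LinearMap.ker φ).subtype w) = Ideal.Quotient.mk P b := by
    intro w
    induction w using TensorProduct.induction_on with
    | zero => exact ⟨0, zero_mem _, by simp⟩
    | add p q hp hq =>
      obtain ⟨b, hb, h1⟩ := hp
      obtain ⟨b', hb', h2⟩ := hq
      exact ⟨b + b', add_mem hb hb', by simp only [map_add, h1, h2]⟩
    | tmul p q =>
      refine ⟨algebraMap k A (CoalgebraStruct.counit (R := k) p) * (q : A),
        mul_mem ((invAlg k I).algebraMap_mem _) (mem_invAlg.2 (sub_eq_zero.1 (LinearMap.mem_ker.1 q.2))), ?_⟩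
      simp [θ]
      rfl
  obtain ⟨b, hb, h⟩ := key w
  refine ⟨b, hb, (Ideal.Quotient.mk_eq_mk_iff_sub_mem b f).1 ?_⟩
  rw [← h, ← hθz, ← hw]
  rfl

end Groth.Agent.HopfQuot
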