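import Groth.Agent.GrpdLib.QuotientGlobal
import Groth.Agent.GrpdLib.Rank
import Mathlib.RingTheory.HopfAlgebra.Quotient
import Mathlib.RingTheory.HopfAlgebra.Convolution
import Mathlib.RingTheory.RingHom.Flat
import Mathlib.RingTheory.RingHom.FinitePresentation

/-!
# Quotient of an affine group scheme by a finite locally free subgroup, over any ring

For a Hopf ideal `I` of a commutative Hopf `R`-algebra `A` with `A/I` finite projective, the translation groupoid of
`Spec (A/I)` on `Spec A` is an affine finite locally free equivalence relation; hence `A` is finite, faithfully flat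
and of finite presentation over the invariants, and `I` is generated by the augmentation ideal of the invariants.
-/

set_option autoImplicit false

noncomputable section

open TensorProduct WithConv
open Groth.Agent.GrpdLib

universe u v

namespace Groth.Agent.HopfQuot.FinQuot

variable {R : Type u} [CommRing R] {A : Type v} [CommRing A] [HopfAlgebra R A] (I : Ideal A) [I.IsHopfIdeal R]

/-- The map out of a tensor product defined by two compatible ring maps. -/
def liftRing₂ {S L M T : Type*} [CommRing S] [CommRing L] [CommRing M] [CommRing T] [Algebra S L] [Algebra S M]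
    (g : L →+* T) (h : M →+* T) (hgh : h.comp (algebraMap S M) = g.comp (algebraMap S L)) : L ⊗[S] M →+* T :=
  letI : Algebra S T := (g.comp (algebraMap S L)).toAlgebra
  (Algebra.TensorProduct.lift (A := L) (B := M) (C := T) (S := S) { g with commutes' := fun _ => rfl }
    { h with commutes' := fun a => RingHom.congr_fun hgh a } fun _ _ => .all ..).toRingHom

theorem liftRing₂_tmul {S L M T : Type*} [CommRing S] [CommRing L] [CommRing M] [CommRing T] [Algebra S L]
    [Algebra S M] (g : L →+* T) (h : M →+* T) (hgh : h.comp (algebraMap S M) = g.comp (algebraMap S L))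
    (x : L) (y : M) : liftRing₂ g h hgh (x ⊗ₜ[S] y) = g x * h y := by
  simp [liftRing₂]

/-- source: `a ↦ a ⊗ 1` -/
def sA : A →ₐ[R] A ⊗[R] (A ⧸ I) := Algebra.TensorProduct.includeLeft

/-- target: `a ↦ a₁ ⊗ π a₂` -/
def tA : A →ₐ[R] A ⊗[R] (A ⧸ I) :=
  (Algebra.TensorProduct.map (AlgHom.id R A) (Ideal.Quotient.mkₐ R I)).comp (Bialgebra.comulAlgHom R A)

/-- second component -/
def nA : (A ⧸ I) →ₐ[R] A ⊗[R] (A ⧸ I) := Algebra.TensorProduct.includeRight

/-- identity -/
def eA : A ⊗[R] (A ⧸ I) →ₐ[R] A :=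
  Algebra.TensorProduct.lift (AlgHom.id R A) ((Algebra.ofId R A).comp (Bialgebra.counitAlgHom R (A ⧸ I)))
    fun _ _ => .all ..

/-- inverse -/
def iA : A ⊗[R] (A ⧸ I) →ₐ[R] A ⊗[R] (A ⧸ I) :=
  Algebra.TensorProduct.lift (tA I) ((nA I).comp (HopfAlgebra.antipodeAlgHom R (A ⧸ I))) fun _ _ => .all ..

section Points

variable {T : Type v} [CommRing T] [Algebra R T]

/-- Restriction of points along `A → A/I`. -/
def pull : WithConv ((A ⧸ I) →ₐ[R] T) →* WithConv (A →ₐ[R] T) where
  toFun n := toConv (n.ofConv.comp (Ideal.Quotient.mkₐ R I))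
  map_one' := by
    refine WithConv.ext (AlgHom.ext fun a => ?_)
    rw [ofConv_toConv, AlgHom.comp_apply, AlgHom.convOne_apply, AlgHom.convOne_apply]
    rfl
  map_mul' n m :=
    congrArg toConv (AlgHom.convMul_comp_bialgHom_distrib n m (Bialgebra.Quotient.mkBialgHom I))

theorem mul_comp_antipode (n : (A ⧸ I) →ₐ[R] T) :
    toConv n * toConv (n.comp (HopfAlgebra.antipodeAlgHom R (A ⧸ I))) = 1 := by
  have h := AlgHom.comp_convMul_distrib n (toConv (AlgHom.id R (A ⧸ I))) (toConv (AlgHom.id R (A ⧸ I)))⁻¹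
  rw [mul_inv_cancel] at h
  simp only [ofConv_toConv, AlgHom.comp_id] at h
  refine WithConv.ext (Eq.trans h.symm ?_)
  refine AlgHom.ext fun a => ?_
  rw [AlgHom.comp_apply, AlgHom.convOne_apply, AlgHom.convOne_apply, AlgHom.commutes]

theorem mul_pull_mul_pull_antipode (g : WithConv (A →ₐ[R] T)) (n : (A ⧸ I) →ₐ[R] T) :
    g * pull I (toConv n) * pull I (toConv (n.comp (HopfAlgebra.antipodeAlgHom R (A ⧸ I)))) = g := by
  rw [mul_assoc, ← map_mul, mul_comp_antipode, map_one, mul_one]

theorem antipode_comp_mul (n : (A ⧸ I) →ₐ[R] T) :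
    toConv (n.comp (HopfAlgebra.antipodeAlgHom R (A ⧸ I))) * toConv n = 1 := by
  have h := AlgHom.comp_convMul_distrib n (toConv (AlgHom.id R (A ⧸ I)))⁻¹ (toConv (AlgHom.id R (A ⧸ I)))
  rw [inv_mul_cancel] at h
  simp only [ofConv_toConv, AlgHom.comp_id] at h
  refine WithConv.ext (Eq.trans h.symm ?_)
  refine AlgHom.ext fun a => ?_
  rw [AlgHom.comp_apply, AlgHom.convOne_apply, AlgHom.convOne_apply, AlgHom.commutes]

/-- The target of an arrow. -/
theorem comp_tA (φ : A ⊗[R] (A ⧸ I) →ₐ[R] T) :
    toConv (φ.comp (tA I)) = toConv (φ.comp (sA I)) * pull I (toConv (φ.comp (nA I))) := by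
  refine WithConv.ext (AlgHom.ext fun a => ?_)
  rw [ofConv_toConv, AlgHom.comp_apply, tA, AlgHom.comp_apply, AlgHom.convMul_apply]
  show _ = Algebra.TensorProduct.lift (φ.comp (sA I)) ((φ.comp (nA I)).comp (Ideal.Quotient.mkₐ R I))
    (fun _ _ => .all ..) (Bialgebra.comulAlgHom R A a)
  generalize Bialgebra.comulAlgHom R A a = z
  induction z using TensorProduct.induction_on with
  | zero => simp
  | add x y hx hy => simp only [map_add, hx, hy]
  | tmul x y =>
    rw [Algebra.TensorProduct.map_tmul, Algebra.TensorProduct.lift_tmul, AlgHom.id_apply, AlgHom.comp_apply,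
      AlgHom.comp_apply, AlgHom.comp_apply, ← map_mul]
    simp [sA, nA]

theorem algHom_ext {φ ψ : A ⊗[R] (A ⧸ I) →ₐ[R] T} (hs : φ.comp (sA I) = ψ.comp (sA I))
    (hn : toConv (φ.comp (nA I)) = toConv (ψ.comp (nA I))) : φ = ψ :=
  Algebra.TensorProduct.ext hs (toConv_injective hn)

end Points

section Comp

variable {T : Type v} [CommRing T]

theorem compat {α β : A ⊗[R] (A ⧸ I) →+* T}
    (h : α.comp (sA (R := R) I).toRingHom = β.comp (tA (R := R) I).toRingHom) (r : R) :
    α (algebraMap R _ r) = β (algebraMap R _ r) := by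
  have := RingHom.congr_fun h (algebraMap R A r)
  simpa using this

/-- Multiplication of the second components. -/
def mulH (α β : A ⊗[R] (A ⧸ I) →+* T) (h : α.comp (sA (R := R) I).toRingHom = β.comp (tA (R := R) I).toRingHom) :
    (A ⧸ I) →+* T :=
  (liftRing₂ (S := R) (β.comp (nA I).toRingHom) (α.comp (nA I).toRingHom) (RingHom.ext fun r => by
    show α (nA I (algebraMap R _ r)) = β (nA I (algebraMap R _ r))
    rw [AlgHom.commutes, compat I h])).comp (Bialgebra.comulAlgHom R (A ⧸ I)).toRingHom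

/-- Composition of arrows. -/
def compH (α β : A ⊗[R] (A ⧸ I) →+* T) (h : α.comp (sA (R := R) I).toRingHom = β.comp (tA (R := R) I).toRingHom) :
    A ⊗[R] (A ⧸ I) →+* T :=
  liftRing₂ (S := R) (β.comp (sA (R := R) I).toRingHom) (mulH I α β h) (RingHom.ext fun r => by
    show mulH I α β h (algebraMap R _ r) = β (sA I (algebraMap R A r))
    rw [mulH, RingHom.comp_apply,
      show (Bialgebra.comulAlgHom R (A ⧸ I)).toRingHom (algebraMap R _ r) = algebraMap R _ r from AlgHom.commutes _ r,
      Algebra.TensorProduct.algebraMap_apply, liftRing₂_tmul, map_one, mul_one, AlgHom.commutes]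
    show β (nA I (algebraMap R _ r)) = _
    rw [AlgHom.commutes])

theorem compH_map {T' : Type v} [CommRing T'] (g : T →+* T') (α β : A ⊗[R] (A ⧸ I) →+* T)
    (h : α.comp (sA (R := R) I).toRingHom = β.comp (tA (R := R) I).toRingHom)
    (h' : (g.comp α).comp (sA (R := R) I).toRingHom = (g.comp β).comp (tA (R := R) I).toRingHom) :
    g.comp (compH I α β h) = compH I (g.comp α) (g.comp β) h' := by
  refine RingHom.ext fun z => ?_
  induction z using TensorProduct.induction_on with
  | zero => simp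
  | add x y hx hy => simp only [map_add, hx, hy]
  | tmul x y =>
    simp only [compH, RingHom.comp_apply, liftRing₂_tmul, map_mul, mulH]
    congr 1
    generalize (Bialgebra.comulAlgHom R (A ⧸ I)).toRingHom y = w
    induction w using TensorProduct.induction_on with
    | zero => simp
    | add p q hp hq => simp only [map_add, hp, hq]
    | tmul p q => simp only [liftRing₂_tmul, map_mul, RingHom.comp_apply]

/-- Composition of `R`-algebra valued arrows. -/
theorem compH_eq [Algebra R T] (α β : A ⊗[R] (A ⧸ I) →ₐ[R] T)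
    (h : (α : A ⊗[R] (A ⧸ I) →+* T).comp (sA (R := R) I).toRingHom = (β : A ⊗[R] (A ⧸ I) →+* T).comp (tA (R := R) I).toRingHom) :
    ∃ φ : A ⊗[R] (A ⧸ I) →ₐ[R] T, (φ : A ⊗[R] (A ⧸ I) →+* T) = compH I (α : A ⊗[R] (A ⧸ I) →+* T) β h ∧
      φ.comp (sA I) = β.comp (sA I) ∧
      toConv (φ.comp (nA I)) = toConv (β.comp (nA I)) * toConv (α.comp (nA I)) := by
  let m := (toConv (β.comp (nA I)) * toConv (α.comp (nA I))).ofConv
  refine ⟨Algebra.TensorProduct.lift (β.comp (sA I)) m (fun _ _ => .all ..), ?_, ?_, ?_⟩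
  · refine RingHom.ext fun z => ?_
    induction z using TensorProduct.induction_on with
    | zero => simp
    | add x y hx hy => simp only [map_add, hx, hy]
    | tmul x y =>
      rw [RingHom.coe_coe, Algebra.TensorProduct.lift_tmul, compH, liftRing₂_tmul]
      congr 1
      rw [mulH, RingHom.comp_apply]
      show m y = _
      simp only [m]
      rw [AlgHom.convMul_apply, ofConv_toConv, ofConv_toConv]
      show _ = liftRing₂ _ _ _ (Bialgebra.comulAlgHom R (A ⧸ I) y)
      rw [show CoalgebraStruct.comul (R := R) y = Bialgebra.comulAlgHom R (A ⧸ I) y from rfl]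
      generalize Bialgebra.comulAlgHom R (A ⧸ I) y = w
      induction w using TensorProduct.induction_on with
      | zero => simp
      | add p q hp hq => simp only [map_add, hp, hq]
      | tmul p q => rw [liftRing₂_tmul, Algebra.TensorProduct.lift_tmul]; rfl
  · exact AlgHom.ext fun x => by simp [sA]
  · refine congrArg toConv (AlgHom.ext fun x => ?_)
    simp only [nA, AlgHom.comp_apply, Algebra.TensorProduct.includeRight_apply, Algebra.TensorProduct.lift_tmul,
      map_one, one_mul]
    rfl

end Comp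

section Laws

variable {T : Type v} [CommRing T] [Algebra R T]

theorem compH_congr {α α' β β' : A ⊗[R] (A ⧸ I) →+* T} (ha : α = α') (hb : β = β')
    (h : α.comp (sA (R := R) I).toRingHom = β.comp (tA (R := R) I).toRingHom) :
    compH I α β h = compH I α' β' (ha ▸ hb ▸ h) := by subst ha hb; rfl

theorem exists_algHom (α : A ⊗[R] (A ⧸ I) →+* T) (h : ∀ r, α (algebraMap R _ r) = algebraMap R T r) :
    ∃ φ : A ⊗[R] (A ⧸ I) →ₐ[R] T, (φ : A ⊗[R] (A ⧸ I) →+* T) = α :=
  ⟨{ α with commutes' := h }, rfl⟩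

omit [Algebra R T] in
theorem exists_algebra (α : A ⊗[R] (A ⧸ I) →+* T) :
    ∃ (_ : Algebra R T) (φ : A ⊗[R] (A ⧸ I) →ₐ[R] T), (φ : A ⊗[R] (A ⧸ I) →+* T) = α :=
  ⟨(α.comp (algebraMap R (A ⊗[R] (A ⧸ I)))).toAlgebra,
    @AlgHom.mk _ _ _ _ _ _ _ (α.comp (algebraMap R (A ⊗[R] (A ⧸ I)))).toAlgebra α fun _ => rfl, rfl⟩

theorem eA_sA : (eA (R := R) I).comp (sA (R := R) I) = AlgHom.id R A := AlgHom.ext fun a => by simp [eA, sA]

theorem eA_nA : toConv ((eA (R := R) I).comp (nA (R := R) I)) = 1 := by
  refine WithConv.ext (AlgHom.ext fun a => ?_)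
  rw [AlgHom.convOne_apply]
  simp [eA, nA]

theorem eA_tA : (eA (R := R) I).comp (tA (R := R) I) = AlgHom.id R A := by
  have h := comp_tA I (eA (R := R) I)
  rw [eA_sA, eA_nA, map_one, mul_one] at h
  exact toConv_injective h

theorem iA_sA : (iA (R := R) I).comp (sA (R := R) I) = tA (R := R) I := AlgHom.ext fun a => by simp [iA, sA]

theorem iA_nA : (iA (R := R) I).comp (nA (R := R) I) = (nA (R := R) I).comp (HopfAlgebra.antipodeAlgHom R (A ⧸ I)) :=
  AlgHom.ext fun a => by simp [iA, nA]

theorem comp_iA_tA (φ : A ⊗[R] (A ⧸ I) →ₐ[R] T) :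
    (φ.comp (iA (R := R) I)).comp (tA (R := R) I) = φ.comp (sA (R := R) I) := by
  have h := comp_tA I (φ.comp (iA (R := R) I))
  rw [AlgHom.comp_assoc φ _ (sA (R := R) I), iA_sA, comp_tA I φ, AlgHom.comp_assoc φ _ (nA (R := R) I), iA_nA,
    ← AlgHom.comp_assoc, mul_pull_mul_pull_antipode] at h
  exact toConv_injective h

theorem iA_tA : (iA (R := R) I).comp (tA (R := R) I) = sA (R := R) I :=
  comp_iA_tA I (AlgHom.id R (A ⊗[R] (A ⧸ I)))

end Laws

variable (R) in
/-- The translation groupoid. -/
def grpd : RingGrpd A (A ⊗[R] (A ⧸ I)) where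
  s := (sA (R := R) I).toRingHom
  t := (tA (R := R) I).toRingHom
  e := (eA (R := R) I).toRingHom
  i := (iA (R := R) I).toRingHom
  comp α β h := compH I α β h
  comp_map g α β h h' := compH_map I g α β h h'
  comp_s := by
    intro T _ α β h
    refine RingHom.ext fun a => ?_
    simp only [RingHom.comp_apply]
    show compH I α β h (a ⊗ₜ[R] 1) = β (a ⊗ₜ[R] 1)
    rw [compH, liftRing₂_tmul, map_one, mul_one]
    rfl
  comp_t := by
    intro T _ α β h
    obtain ⟨_, a', rfl⟩ := exists_algebra I α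
    obtain ⟨b', rfl⟩ := exists_algHom I β fun r => (compat I h r).symm.trans (a'.commutes r)
    obtain ⟨φ, hφ, hs, hn⟩ := compH_eq I a' b' h
    rw [← hφ]
    refine congrArg AlgHom.toRingHom (toConv_injective (?_ : toConv (φ.comp (tA I)) = toConv (a'.comp (tA I))))
    have hh : a'.comp (sA I) = b'.comp (tA I) := AlgHom.ext fun x => RingHom.congr_fun h x
    rw [comp_tA, comp_tA, hs, hn, map_mul, ← mul_assoc, ← comp_tA, hh]
  assoc := by
    intro T _ α β γ h₁ h₂ h₃ h₄
    obtain ⟨_, a', rfl⟩ := exists_algebra I α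
    obtain ⟨b', rfl⟩ := exists_algHom I β fun r => (compat I h₁ r).symm.trans (a'.commutes r)
    obtain ⟨c', rfl⟩ := exists_algHom I γ fun r => ((compat I h₂ r).symm.trans (b'.commutes r))
    obtain ⟨φ, hφ, hs, hn⟩ := compH_eq I a' b' h₁
    obtain ⟨ψ, hψ, hs', hn'⟩ := compH_eq I b' c' h₂
    rw [compH_congr I hφ.symm rfl h₃, compH_congr I rfl hψ.symm h₄]
    obtain ⟨φ', hφ', hs₂, hn₂⟩ := compH_eq I φ c' (hφ.symm ▸ h₃)
    obtain ⟨ψ', hψ', hs₂', hn₂'⟩ := compH_eq I a' ψ (hψ.symm ▸ h₄)
    rw [← hφ', ← hψ']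
    exact congrArg AlgHom.toRingHom (algHom_ext I (by rw [hs₂, hs₂', hs'])
      (by rw [hn₂, hn₂', hn, hn', mul_assoc]))
  e_s := congrArg AlgHom.toRingHom (eA_sA (R := R) I)
  e_t := congrArg AlgHom.toRingHom (eA_tA (R := R) I)
  comp_e := by
    intro T _ α h
    obtain ⟨_, a', rfl⟩ := exists_algebra I α
    obtain ⟨φ, hφ, hs, hn⟩ := compH_eq I a' ((a'.comp (sA (R := R) I)).comp (eA I)) h
    refine hφ.symm.trans (congrArg AlgHom.toRingHom (algHom_ext I ?_ ?_))
    · rw [hs, AlgHom.comp_assoc, eA_sA, AlgHom.comp_id]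
    · rw [hn]
      have : toConv (((a'.comp (sA (R := R) I)).comp (eA I)).comp (nA I)) = 1 := by
        rw [AlgHom.comp_assoc, show (eA (R := R) I).comp (nA I) = _ from congrArg ofConv (eA_nA I)]
        refine WithConv.ext (AlgHom.ext fun x => ?_)
        rw [ofConv_toConv, AlgHom.comp_apply, AlgHom.convOne_apply, AlgHom.convOne_apply, AlgHom.commutes]
      rw [this, one_mul]
  e_comp := by
    intro T _ α h
    obtain ⟨_, a', rfl⟩ := exists_algebra I α
    obtain ⟨φ, hφ, hs, hn⟩ := compH_eq I ((a'.comp (tA (R := R) I)).comp (eA I)) a' h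
    refine hφ.symm.trans (congrArg AlgHom.toRingHom (algHom_ext I hs ?_))
    rw [hn]
    have : toConv (((a'.comp (tA (R := R) I)).comp (eA I)).comp (nA I)) = 1 := by
      rw [AlgHom.comp_assoc, show (eA (R := R) I).comp (nA I) = _ from congrArg ofConv (eA_nA I)]
      refine WithConv.ext (AlgHom.ext fun x => ?_)
      rw [ofConv_toConv, AlgHom.comp_apply, AlgHom.convOne_apply, AlgHom.convOne_apply, AlgHom.commutes]
    rw [this, mul_one]
  i_s := congrArg AlgHom.toRingHom (iA_sA (R := R) I)
  i_t := congrArg AlgHom.toRingHom (iA_tA (R := R) I)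
  comp_i := by
    intro T _ α h
    obtain ⟨_, a', rfl⟩ := exists_algebra I α
    obtain ⟨φ, hφ, hs, hn⟩ := compH_eq I a' (a'.comp (iA I)) h
    refine hφ.symm.trans (congrArg AlgHom.toRingHom
      ((algHom_ext I ?_ ?_ : φ = (a'.comp (tA (R := R) I)).comp (eA I))))
    · rw [hs, AlgHom.comp_assoc, iA_sA, AlgHom.comp_assoc, eA_sA, AlgHom.comp_id]
    · rw [hn, AlgHom.comp_assoc, iA_nA, ← AlgHom.comp_assoc, antipode_comp_mul, AlgHom.comp_assoc,
        show (eA (R := R) I).comp (nA I) = _ from congrArg ofConv (eA_nA I)]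
      refine WithConv.ext (AlgHom.ext fun x => ?_)
      rw [ofConv_toConv, AlgHom.comp_apply, AlgHom.convOne_apply, AlgHom.convOne_apply, AlgHom.commutes]
  i_comp := by
    intro T _ α h
    obtain ⟨_, a', rfl⟩ := exists_algebra I α
    obtain ⟨φ, hφ, hs, hn⟩ := compH_eq I (a'.comp (iA I)) a' h
    refine hφ.symm.trans (congrArg AlgHom.toRingHom
      ((algHom_ext I ?_ ?_ : φ = (a'.comp (sA (R := R) I)).comp (eA I))))
    · rw [hs, AlgHom.comp_assoc, eA_sA, AlgHom.comp_id]
    · rw [hn, AlgHom.comp_assoc, iA_nA, ← AlgHom.comp_assoc, mul_comp_antipode, AlgHom.comp_assoc,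
        show (eA (R := R) I).comp (nA I) = _ from congrArg ofConv (eA_nA I)]
      refine WithConv.ext (AlgHom.ext fun x => ?_)
      rw [ofConv_toConv, AlgHom.comp_apply, AlgHom.convOne_apply, AlgHom.convOne_apply, AlgHom.commutes]

section Main

variable (R) in
/-- The functions invariant under right translation by `Spec (A/I)`. -/
def inv : Subalgebra R A := AlgHom.equalizer (tA (R := R) I) (sA (R := R) I)

theorem mem_inv {a : A} : a ∈ inv R I ↔ tA (R := R) I a = sA (R := R) I a := Iff.rfl

theorem mem_inv_iff {a : A} : a ∈ inv R I ↔ a ∈ (grpd R I).invariants := eq_comm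

/-- The two descriptions of the invariants. -/
def invEquiv : ↥(inv R I) ≃+* ↥(grpd R I).invariants where
  toFun a := ⟨a.1, (mem_inv_iff I).1 a.2⟩
  invFun a := ⟨a.1, (mem_inv_iff I).2 a.2⟩
  left_inv _ := rfl
  right_inv _ := rfl
  map_mul' _ _ := rfl
  map_add' _ _ := rfl

theorem algebraMap_inv :
    algebraMap ↥(inv R I) A = (algebraMap ↥(grpd R I).invariants A).comp (invEquiv I).toRingHom := rfl

/-- The arrows over the source are `A ⊗ A/I`. -/
def sbEquiv : A ⊗[R] (A ⧸ I) ≃ₗ[A] (grpd R I).SB where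
  toFun x := x
  invFun x := x
  left_inv _ := rfl
  right_inv _ := rfl
  map_add' _ _ := rfl
  map_smul' a x := by
    rw [RingHom.id_apply]
    refine (Algebra.smul_def a x).trans ?_
    exact (Algebra.smul_def (R := A) (A := (grpd R I).SB) a x).symm

theorem finite_SB [Module.Finite R (A ⧸ I)] : Module.Finite A (grpd R I).SB :=
  Module.Finite.equiv (sbEquiv I)

theorem projective_SB [Module.Projective R (A ⧸ I)] : Module.Projective A (grpd R I).SB :=
  Module.Projective.of_equiv (sbEquiv I)

theorem inv_comp_mul {T : Type v} [CommRing T] [Algebra R T] (g : A →ₐ[R] T) :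
    toConv (g.comp (HopfAlgebra.antipodeAlgHom R A)) * toConv g = 1 := by
  have h := AlgHom.comp_convMul_distrib g (toConv (AlgHom.id R A))⁻¹ (toConv (AlgHom.id R A))
  rw [inv_mul_cancel] at h
  simp only [ofConv_toConv, AlgHom.comp_id] at h
  refine WithConv.ext (Eq.trans h.symm ?_)
  refine AlgHom.ext fun a => ?_
  rw [AlgHom.comp_apply, AlgHom.convOne_apply, AlgHom.convOne_apply, AlgHom.commutes]

/-- The action is free. -/
theorem arrows_ext {T : Type v} [CommRing T] (α β : A ⊗[R] (A ⧸ I) →+* T)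
    (hs : α.comp (sA (R := R) I).toRingHom = β.comp (sA (R := R) I).toRingHom)
    (ht : α.comp (tA (R := R) I).toRingHom = β.comp (tA (R := R) I).toRingHom) : α = β := by
  obtain ⟨_, a', rfl⟩ := exists_algebra I α
  obtain ⟨b', rfl⟩ := exists_algHom I β fun r => by
    have h1 := RingHom.congr_fun hs (algebraMap R A r)
    simp only [RingHom.comp_apply, AlgHom.toRingHom_eq_coe, RingHom.coe_coe, AlgHom.commutes] at h1
    exact h1.symm
  have hs' : a'.comp (sA (R := R) I) = b'.comp (sA (R := R) I) := AlgHom.ext fun x => RingHom.congr_fun hs x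
  have ht' : a'.comp (tA (R := R) I) = b'.comp (tA (R := R) I) := AlgHom.ext fun x => RingHom.congr_fun ht x
  have h := congrArg toConv ht'
  rw [comp_tA, comp_tA, hs'] at h
  have h2 := congrArg (toConv ((b'.comp (sA (R := R) I)).comp (HopfAlgebra.antipodeAlgHom R A)) * ·) h
  simp only [← mul_assoc, inv_comp_mul, one_mul] at h2
  refine congrArg AlgHom.toRingHom (algHom_ext I hs' (WithConv.ext (AlgHom.ext fun x => ?_)))
  obtain ⟨a, rfl⟩ := Ideal.Quotient.mk_surjective x
  exact DFunLike.congr_fun (congrArg ofConv h2) a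

variable [Module.Finite R (A ⧸ I)] [Module.Projective R (A ⧸ I)]

theorem main : Module.Finite ↥(inv R I) A ∧ Module.Flat ↥(inv R I) A ∧
    (algebraMap ↥(inv R I) A).FinitePresentation ∧ Module.FaithfullyFlat ↥(inv R I) A ∧
    Function.Bijective (grpd R I).pairMap := by
  haveI := finite_SB (R := R) I
  haveI := projective_SB (R := R) I
  obtain ⟨N, a, ha⟩ := (grpd R I).exists_span_eq_top fun α β hs ht => arrows_ext I α β hs ht
  obtain ⟨h1, h2, h3, h4⟩ := (grpd R I).finite_flat_quotient a ha
  have hb : Function.Bijective (invEquiv (R := R) I).toRingHom := (invEquiv I).bijective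
  have f1 : Module.Finite ↥(inv R I) A := by
    rw [← RingHom.finite_algebraMap, algebraMap_inv]
    exact RingHom.Finite.comp (RingHom.finite_algebraMap.2 h1) (RingHom.Finite.of_surjective _ hb.2)
  have f2 : Module.Flat ↥(inv R I) A := by
    rw [← RingHom.flat_algebraMap_iff, algebraMap_inv]
    exact RingHom.Flat.comp (RingHom.Flat.of_bijective hb) (RingHom.flat_algebraMap_iff.2 h2)
  have f3 : (algebraMap ↥(inv R I) A).FinitePresentation := by
    rw [algebraMap_inv]
    exact RingHom.FinitePresentation.comp (RingHom.finitePresentation_algebraMap.2 h3)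
      (RingHom.FinitePresentation.of_bijective hb)
  haveI := f1
  haveI := f2
  refine ⟨f1, f2, f3, Module.FaithfullyFlat.of_comap_surjective fun P => ?_, h4⟩
  obtain ⟨Q, -, hQ, hQP⟩ := Ideal.exists_ideal_over_prime_of_isIntegral (S := A) P.asIdeal ⊥ (by
    rw [← RingHom.ker_eq_comap_bot, (RingHom.injective_iff_ker_eq_bot _).1 (Subtype.val_injective :
      Function.Injective (algebraMap ↥(inv R I) A))]; exact bot_le)
  exact ⟨⟨Q, hQ⟩, PrimeSpectrum.ext hQP⟩

theorem faithfullyFlat : Module.FaithfullyFlat ↥(inv R I) A := (main (R := R) I).2.2.2.1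

theorem finite : Module.Finite ↥(inv R I) A := (main (R := R) I).1

omit [Module.Finite R (A ⧸ I)] [Module.Projective R (A ⧸ I)] in
theorem mem_of_mem_inv {b : A} (hb : b ∈ inv R I) (hε : Bialgebra.counitAlgHom R A b = 0) : b ∈ I := by
  have h := congrArg (Algebra.TensorProduct.lift ((Algebra.ofId R (A ⧸ I)).comp (Bialgebra.counitAlgHom R A))
    (AlgHom.id R (A ⧸ I)) fun _ _ => .all ..) ((mem_inv I).1 hb)
  have e : ∀ z : A ⊗[R] A, Algebra.TensorProduct.lift ((Algebra.ofId R (A ⧸ I)).comp (Bialgebra.counitAlgHom R A))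
      (AlgHom.id R (A ⧸ I)) (fun _ _ => .all ..)
      (Algebra.TensorProduct.map (AlgHom.id R A) (Ideal.Quotient.mkₐ R I) z) =
      Ideal.Quotient.mk I (TensorProduct.lid R A ((Coalgebra.counit (R := R) (A := A)).rTensor A z)) := fun z => by
    induction z using TensorProduct.induction_on with
    | zero => simp
    | add x y hx hy => simp only [map_add, hx, hy]
    | tmul x y => simp [Algebra.smul_def, map_mul, Ideal.Quotient.algebraMap_eq]
  rw [tA, AlgHom.comp_apply, e, show Bialgebra.comulAlgHom R A b = Coalgebra.comul (R := R) b from rfl,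
    Coalgebra.rTensor_counit_comul, TensorProduct.lid_tmul, one_smul, sA,
    Algebra.TensorProduct.includeLeft_apply, Algebra.TensorProduct.lift_tmul, map_one, mul_one,
    AlgHom.comp_apply, hε, map_zero] at h
  exact Ideal.Quotient.eq_zero_iff_mem.1 h

/-- `I` is generated by the augmentation ideal of the invariants. -/
theorem span_aug : Ideal.span {a : A | a ∈ inv R I ∧ Bialgebra.counitAlgHom R A a = 0} = I := by
  refine le_antisymm (Ideal.span_le.2 fun b hb => mem_of_mem_inv I hb.1 hb.2) fun a ha => ?_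
  set J := Ideal.span {a : A | a ∈ inv R I ∧ Bialgebra.counitAlgHom R A a = 0} with hJ
  let q : A →+* A ⧸ J := Ideal.Quotient.mk J
  let ε' : A →+* A ⧸ J := q.comp ((algebraMap R A).comp (Bialgebra.counitAlgHom R A).toRingHom)
  have hagree : ε'.comp (algebraMap ↥(grpd R I).invariants A) = q.comp (algebraMap ↥(grpd R I).invariants A) := by
    refine RingHom.ext fun c => ?_
    refine Ideal.Quotient.eq.2 (Ideal.neg_mem_iff _ |>.1 ?_)
    rw [neg_sub]
    refine Ideal.subset_span ⟨sub_mem ((mem_inv_iff I).2 c.2) (Subalgebra.algebraMap_mem _ _), ?_⟩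
    show Bialgebra.counitAlgHom R A ((c : A) - algebraMap R A (Bialgebra.counitAlgHom R A c)) = 0
    simp
  obtain ⟨-, -, -, -, hbij⟩ := main (R := R) I
  let P := RingEquiv.ofBijective (grpd R I).pairMap.toRingHom hbij
  let χ : A ⊗[R] (A ⧸ I) →+* A ⧸ J :=
    (liftRing₂ (S := ↥(grpd R I).invariants) q ε' hagree).comp P.symm.toRingHom
  have hP : ∀ x y : A, P.symm ((grpd R I).tSB x * algebraMap A (grpd R I).SB y) = x ⊗ₜ y := fun x y => by
    apply P.injective
    rw [RingEquiv.apply_symm_apply]
    exact ((grpd R I).pairMap_tmul x y).symm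
  have hχt : ∀ x : A, χ (tA (R := R) I x) = q x := fun x => by
    have := congrArg (liftRing₂ (S := ↥(grpd R I).invariants) q ε' hagree) (hP x 1)
    rw [map_one, mul_one, liftRing₂_tmul, map_one, mul_one] at this
    exact this
  have hχs : ∀ y : A, χ (sA (R := R) I y) = ε' y := fun y => by
    have := congrArg (liftRing₂ (S := ↥(grpd R I).invariants) q ε' hagree) (hP 1 y)
    rw [map_one, one_mul, liftRing₂_tmul, map_one, one_mul] at this
    exact this
  have key : ∀ z : A ⊗[R] A, χ (Algebra.TensorProduct.map (AlgHom.id R A) (Ideal.Quotient.mkₐ R I) z) =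
      χ (nA (R := R) I (Ideal.Quotient.mk I
        (TensorProduct.lid R A ((Coalgebra.counit (R := R) (A := A)).rTensor A z)))) := fun z => by
    induction z using TensorProduct.induction_on with
    | zero => simp
    | add x y hx hy => simp only [map_add, hx, hy]
    | tmul x y =>
      rw [LinearMap.rTensor_tmul, TensorProduct.lid_tmul, Algebra.smul_def, map_mul, map_mul, map_mul,
        Algebra.TensorProduct.map_tmul]
      have e1 : (AlgHom.id R A x) ⊗ₜ[R] (Ideal.Quotient.mkₐ R I y) =
          sA (R := R) I x * nA (R := R) I (Ideal.Quotient.mk I y) := by simp [sA, nA]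
      rw [e1, map_mul, hχs, show Ideal.Quotient.mk I (algebraMap R A (Coalgebra.counit (R := R) x)) =
        algebraMap R (A ⧸ I) (Coalgebra.counit (R := R) x) from rfl, AlgHom.commutes,
        ← AlgHom.commutes (sA (R := R) I), hχs]
      congr 1
      show q _ = q _
      simp
  have hqa : q a = 0 := by
    rw [← hχt a, tA, AlgHom.comp_apply, key, show Bialgebra.comulAlgHom R A a = Coalgebra.comul (R := R) a from rfl,
      Coalgebra.rTensor_counit_comul, TensorProduct.lid_tmul, one_smul, Ideal.Quotient.eq_zero_iff_mem.2 ha,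
      map_zero, map_zero]
  exact Ideal.Quotient.eq_zero_iff_mem.1 hqa

end Main

end Groth.Agent.HopfQuot.FinQuot
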