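import Groth.Agent.HopfQuot.FiniteQuot
import Groth.Prelude.Def_SGA3

/-!
# Quotient by a finite locally free normal subgroup over any ring is a group
-/

set_option autoImplicit false

noncomputable section

open TensorProduct WithConv

universe u

namespace Groth.Agent.HopfQuot.FinQuot

variable {R : Type u} [CommRing R] {A : Type u} [CommRing A] [HopfAlgebra R A] {I : Ideal A} [I.IsHopfIdeal R]

/-- Any algebra map out of `A ⊗ A` evaluated on `Δ a` is a product of points. -/
theorem apply_comul {T : Type u} [CommRing T] [Algebra R T] (φ : A ⊗[R] A →ₐ[R] T) (a : A) :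
    φ (Bialgebra.comulAlgHom R A a) =
      (toConv (φ.comp (Algebra.TensorProduct.includeLeft : A →ₐ[R] A ⊗[R] A)) *
        toConv (φ.comp Algebra.TensorProduct.includeRight)).ofConv a := by
  rw [AlgHom.convMul_apply, ofConv_toConv, ofConv_toConv]
  show _ = Algebra.TensorProduct.lift (φ.comp (Algebra.TensorProduct.includeLeft : A →ₐ[R] A ⊗[R] A))
    (φ.comp Algebra.TensorProduct.includeRight) (fun _ _ => .all ..) (Bialgebra.comulAlgHom R A a)
  congr 1
  apply Algebra.TensorProduct.ext <;> exact AlgHom.ext fun x => by simp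

variable {T : Type u} [CommRing T] [Algebra R T]

/-- Right translation by a point of the subgroup fixes invariants. -/
theorem mul_apply_of_mem {b : A} (hb : b ∈ inv R I) (x : WithConv (A →ₐ[R] T)) (m : A →ₐ[R] T)
    (hm : ∀ a ∈ I, m a = 0) : (x * toConv m).ofConv b = x.ofConv b := by
  let m' : (A ⧸ I) →ₐ[R] T := Ideal.Quotient.liftₐ I m hm
  let φ : A ⊗[R] (A ⧸ I) →ₐ[R] T := Algebra.TensorProduct.lift x.ofConv m' fun _ _ => .all ..
  have hs : φ.comp (sA (R := R) I) = x.ofConv := AlgHom.ext fun y => by simp [φ, sA]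
  have hn : φ.comp (nA (R := R) I) = m' := AlgHom.ext fun y => by simp [φ, nA]
  have hp : pull I (toConv m') = toConv m := congrArg toConv (AlgHom.ext fun y => rfl)
  have h := comp_tA I φ
  rw [hs, hn, toConv_ofConv, hp] at h
  rw [← h, ofConv_toConv, AlgHom.comp_apply, (mem_inv I).1 hb, ← AlgHom.comp_apply, hs]

/-- The inverse point. -/
def pinv (g : WithConv (A →ₐ[R] T)) : WithConv (A →ₐ[R] T) :=
  toConv (g.ofConv.comp (HopfAlgebra.antipodeAlgHom R A))

theorem pinv_mul (g : WithConv (A →ₐ[R] T)) : pinv g * g = 1 := inv_comp_mul g.ofConv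

theorem mul_pinv (g : WithConv (A →ₐ[R] T)) : g * pinv g = 1 := by
  have h := AlgHom.comp_convMul_distrib g.ofConv (toConv (AlgHom.id R A)) (toConv (AlgHom.id R A))⁻¹
  rw [mul_inv_cancel] at h
  simp only [ofConv_toConv, AlgHom.comp_id] at h
  refine WithConv.ext (Eq.trans h.symm ?_)
  refine AlgHom.ext fun a => ?_
  rw [AlgHom.comp_apply, AlgHom.convOne_apply, AlgHom.convOne_apply, AlgHom.commutes]

theorem pinv_pinv (g : WithConv (A →ₐ[R] T)) : pinv (pinv g) = g :=
  left_inv_eq_right_inv (pinv_mul (pinv g)) (pinv_mul g)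

variable (hI : SGA3.IsNormalHopfIdeal R A I)
include hI

theorem kills_conj (g : WithConv (A →ₐ[R] T)) (m : A →ₐ[R] T) (hm : ∀ a ∈ I, m a = 0) :
    ∀ a ∈ I, (g * toConv m * pinv g).ofConv a = 0 := by
  intro a ha
  have h := hI T g.ofConv m hm a ha
  have e : toConv (Dyn.conv3 R A g.ofConv m (g.ofConv.comp (HopfAlgebra.antipodeAlgHom R A))) =
      g * toConv m * pinv g := by
    simp only [AlgHom.convMul_def, Dyn.conv3, WithConv.ofConv_toConv, pinv]
    congr 2
    rw [← AlgHom.comp_assoc, ← Algebra.TensorProduct.map_comp]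
    rfl
  rw [← e]
  exact h

theorem mul_mul_apply_of_mem {b : A} (hb : b ∈ inv R I) (g h : WithConv (A →ₐ[R] T)) (m : A →ₐ[R] T)
    (hm : ∀ a ∈ I, m a = 0) : (g * toConv m * h).ofConv b = (g * h).ofConv b := by
  have e : g * toConv m * h = g * h * (pinv h * toConv m * pinv (pinv h)) := by
    rw [pinv_pinv, ← mul_assoc, ← mul_assoc, mul_assoc g h (pinv h), mul_pinv, mul_one]
  rw [e, ← toConv_ofConv (pinv h * toConv m * pinv (pinv h))]
  exact mul_apply_of_mem hb _ _ (kills_conj hI (pinv h) m hm)

theorem antipode_mem {b : A} (hb : b ∈ inv R I) : HopfAlgebra.antipodeAlgHom R A b ∈ inv R I := by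
  have key : ∀ {T : Type u} [CommRing T] [Algebra R T] (φ : A ⊗[R] (A ⧸ I) →ₐ[R] T),
      φ (tA (R := R) I (HopfAlgebra.antipodeAlgHom R A b)) = φ (sA (R := R) I (HopfAlgebra.antipodeAlgHom R A b)) := by
    intro T _ _ φ
    let g : WithConv (A →ₐ[R] T) := toConv (φ.comp (sA (R := R) I))
    let n : WithConv (A →ₐ[R] T) := pull I (toConv (φ.comp (nA (R := R) I)))
    let n' : WithConv (A →ₐ[R] T) :=
      pull I (toConv ((φ.comp (nA (R := R) I)).comp (HopfAlgebra.antipodeAlgHom R (A ⧸ I))))
    have hn : n' * n = 1 := by rw [← map_mul, antipode_comp_mul, map_one]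
    have hinv : pinv (g * n) = n' * pinv g := by
      refine left_inv_eq_right_inv (pinv_mul (g * n)) ?_
      rw [← mul_assoc, show g * n * n' = g from mul_pull_mul_pull_antipode I g _, mul_pinv]
    have h1 : φ (tA (R := R) I (HopfAlgebra.antipodeAlgHom R A b)) = (pinv (g * n)).ofConv b := by
      rw [← comp_tA]
      rfl
    rw [h1, hinv]
    have h2 := kills_conj hI g n'.ofConv (fun a ha => by
      show ((φ.comp (nA (R := R) I)).comp (HopfAlgebra.antipodeAlgHom R (A ⧸ I))) (Ideal.Quotient.mk I a) = 0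
      rw [Ideal.Quotient.eq_zero_iff_mem.2 ha, map_zero])
    have e : n' * pinv g = pinv g * (g * toConv n'.ofConv * pinv g) := by
      rw [toConv_ofConv, ← mul_assoc, ← mul_assoc, pinv_mul, one_mul]
    rw [e, ← toConv_ofConv (g * toConv n'.ofConv * pinv g), mul_apply_of_mem hb _ _ h2]
    rfl
  exact key (AlgHom.id R _)

theorem comul_mem_range [Module.Flat R A] [Module.Flat R ↥(inv R I)] [Module.Flat R (A ⧸ I)] {b : A}
    (hb : b ∈ inv R I) : CoalgebraStruct.comul (R := R) b ∈
      LinearMap.range (TensorProduct.map (inv R I).val.toLinearMap (inv R I).val.toLinearMap) := by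
  let d : A →ₗ[R] A ⊗[R] (A ⧸ I) := (tA (R := R) I).toLinearMap - (sA (R := R) I).toLinearMap
  have hd : Function.Exact (inv R I).val.toLinearMap d := fun x => by
    rw [LinearMap.sub_apply, sub_eq_zero]
    exact ⟨fun h => ⟨⟨x, h⟩, rfl⟩, fun ⟨y, hy⟩ => hy ▸ y.2⟩
  have hleft : d.rTensor A (CoalgebraStruct.comul (R := R) b) = 0 := by
    have hl : ∀ z : A ⊗[R] A, d.rTensor A z =
        Algebra.TensorProduct.map (tA (R := R) I) (AlgHom.id R A) z -
          Algebra.TensorProduct.map (sA (R := R) I) (AlgHom.id R A) z := fun z => by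
      induction z using TensorProduct.induction_on with
      | zero => simp
      | add x y hx hy => simp only [map_add, hx, hy]; abel
      | tmul x y =>
        rw [LinearMap.rTensor_tmul, LinearMap.sub_apply, sub_tmul]
        simp
    rw [hl, sub_eq_zero]
    have key : ∀ {T : Type u} [CommRing T] [Algebra R T] (ψ : (A ⊗[R] (A ⧸ I)) ⊗[R] A →ₐ[R] T),
        ψ (Algebra.TensorProduct.map (tA (R := R) I) (AlgHom.id R A) (Bialgebra.comulAlgHom R A b)) =
          ψ (Algebra.TensorProduct.map (sA (R := R) I) (AlgHom.id R A) (Bialgebra.comulAlgHom R A b)) := by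
      intro T _ _ ψ
      let φ : A ⊗[R] (A ⧸ I) →ₐ[R] T := ψ.comp Algebra.TensorProduct.includeLeft
      rw [← AlgHom.comp_apply ψ, ← AlgHom.comp_apply ψ, apply_comul, apply_comul]
      have e1 : (ψ.comp (Algebra.TensorProduct.map (tA (R := R) I) (AlgHom.id R A))).comp
          (Algebra.TensorProduct.includeLeft : A →ₐ[R] A ⊗[R] A) = φ.comp (tA (R := R) I) :=
        AlgHom.ext fun x => by simp [φ]
      have e2 : (ψ.comp (Algebra.TensorProduct.map (sA (R := R) I) (AlgHom.id R A))).comp
          (Algebra.TensorProduct.includeLeft : A →ₐ[R] A ⊗[R] A) = φ.comp (sA (R := R) I) :=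
        AlgHom.ext fun x => by simp [φ]
      have e3 : (ψ.comp (Algebra.TensorProduct.map (tA (R := R) I) (AlgHom.id R A))).comp
          (Algebra.TensorProduct.includeRight : A →ₐ[R] A ⊗[R] A) =
          (ψ.comp (Algebra.TensorProduct.map (sA (R := R) I) (AlgHom.id R A))).comp
          (Algebra.TensorProduct.includeRight : A →ₐ[R] A ⊗[R] A) := AlgHom.ext fun x => by simp
      rw [e1, e2, e3, comp_tA]
      exact mul_mul_apply_of_mem hI hb _ _ ((φ.comp (nA (R := R) I)).comp (Ideal.Quotient.mkₐ R I)) fun a ha => by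
        rw [AlgHom.comp_apply, show Ideal.Quotient.mkₐ R I a = 0 from Ideal.Quotient.eq_zero_iff_mem.2 ha, map_zero]
    exact key (T := (A ⊗[R] (A ⧸ I)) ⊗[R] A) (AlgHom.id R _)
  have hright : d.lTensor A (CoalgebraStruct.comul (R := R) b) = 0 := by
    have hb' : tA (R := R) I b = sA (R := R) I b := (mem_inv I).1 hb
    have hl : ∀ z : A ⊗[R] A, d.lTensor A z =
        (Algebra.TensorProduct.assoc R R R A A (A ⧸ I)).toAlgHom
          (Algebra.TensorProduct.map (AlgHom.id R (A ⊗[R] A)) (Ideal.Quotient.mkₐ R I)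
            ((TensorProduct.assoc R A A A).symm ((CoalgebraStruct.comul (R := R) (A := A)).lTensor A z))) -
        (Algebra.TensorProduct.assoc R R R A A (A ⧸ I)).toAlgHom (z ⊗ₜ[R] (1 : A ⧸ I)) := fun z => by
      induction z using TensorProduct.induction_on with
      | zero => simp
      | add x y hx hy => simp only [map_add, hx, hy, add_tmul]; abel
      | tmul x y =>
        simp only [LinearMap.lTensor_tmul]
        have et : tA (R := R) I y = Algebra.TensorProduct.map (AlgHom.id R A) (Ideal.Quotient.mkₐ R I)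
            (CoalgebraStruct.comul (R := R) y) := rfl
        show x ⊗ₜ[R] (tA (R := R) I y - sA (R := R) I y) = _
        rw [tmul_sub, et]
        congr 1
        generalize CoalgebraStruct.comul (R := R) y = w
        induction w using TensorProduct.induction_on with
        | zero => simp
        | add p q hp hq => simp only [map_add, tmul_add, hp, hq]
        | tmul p q => simp
    rw [hl, Coalgebra.coassoc_symm_apply, sub_eq_zero]
    have hr : ∀ z : A ⊗[R] A, Algebra.TensorProduct.map (AlgHom.id R (A ⊗[R] A)) (Ideal.Quotient.mkₐ R I)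
        ((CoalgebraStruct.comul (R := R) (A := A)).rTensor A z) =
        Algebra.TensorProduct.map (Bialgebra.comulAlgHom R A) (AlgHom.id R (A ⧸ I))
          (Algebra.TensorProduct.map (AlgHom.id R A) (Ideal.Quotient.mkₐ R I) z) := fun z => by
      induction z using TensorProduct.induction_on with
      | zero => simp
      | add x y hx hy => simp only [map_add, hx, hy]
      | tmul x y => simp
    rw [hr]
    congr 1
    show Algebra.TensorProduct.map (Bialgebra.comulAlgHom R A) (AlgHom.id R (A ⧸ I)) (tA (R := R) I b) = _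
    rw [hb']
    simp [sA]
  obtain ⟨y, hy⟩ := (Module.Flat.rTensor_exact A hd _).1 hleft
  have hinj : Function.Injective ((inv R I).val.toLinearMap.rTensor (A ⊗[R] (A ⧸ I))) :=
    Module.Flat.rTensor_preserves_injective_linearMap _ Subtype.val_injective
  have hy' : d.lTensor ↥(inv R I) y = 0 := by
    apply hinj
    rw [map_zero, ← LinearMap.comp_apply, LinearMap.rTensor_comp_lTensor, ← LinearMap.lTensor_comp_rTensor,
      LinearMap.comp_apply, hy, hright]
  obtain ⟨z, hz⟩ := (Module.Flat.lTensor_exact ↥(inv R I) hd _).1 hy'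
  refine ⟨z, ?_⟩
  rw [← LinearMap.rTensor_comp_lTensor, LinearMap.comp_apply, hz, hy]

theorem isHopfSubalgebra [Module.Flat R A] [Module.Flat R ↥(inv R I)] [Module.Flat R (A ⧸ I)] :
    SGA3.IsHopfSubalgebra R A (inv R I) :=
  ⟨fun _ hb => comul_mem_range hI hb, fun _ hb => antipode_mem hI hb⟩

end Groth.Agent.HopfQuot.FinQuot
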