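import Groth.Agent.HopfQuot.Smooth
import Groth.Agent.GrpdLib.QuotientGlobal
import Groth.Agent.GrpdLib.Rank
import Mathlib.RingTheory.TensorProduct.Finite

/-!
# Finite subgroups are kernels: the free quotient
-/

set_option autoImplicit false

noncomputable section

open TensorProduct WithConv
open Groth.Agent.GrpdLib

universe u

namespace Groth.Agent.HopfQuot

variable {k : Type u} [Field k] {A : Type u} [CommRing A] [HopfAlgebra k A]
  {R : Type u} [CommRing R] [Algebra k R] {I : Ideal A}

/-- The group coordinate of a pair. -/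
abbrev fstPt (α : A ⊗[k] (A ⧸ I) →ₐ[k] R) : Pt k A R :=
  push α (push Algebra.TensorProduct.includeLeft (idPt k A))

/-- The subgroup coordinate of a pair. -/
abbrev sndPt (α : A ⊗[k] (A ⧸ I) →ₐ[k] R) : Pt k A R :=
  push α (push Algebra.TensorProduct.includeRight (mkPt (k := k) I))

theorem kills_sndPt (α : A ⊗[k] (A ⧸ I) →ₐ[k] R) : Kills I (sndPt α) := ((kills_mkPt I).push _).push _

/-- A pair `(g, n)`. -/
def pairPt (g n : Pt k A R) (hn : Kills I n) : A ⊗[k] (A ⧸ I) →ₐ[k] R :=
  Algebra.TensorProduct.lift g.ofConv (Ideal.Quotient.liftₐ I n.ofConv hn) fun _ _ => .all ..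

@[simp] theorem fstPt_pairPt (g n : Pt k A R) (hn : Kills I n) : fstPt (pairPt g n hn) = g :=
  WithConv.ext (AlgHom.ext fun a => by simp [pairPt])

@[simp] theorem sndPt_pairPt (g n : Pt k A R) (hn : Kills I n) : sndPt (pairPt g n hn) = n := by
  refine WithConv.ext (AlgHom.ext fun a => ?_)
  simp only [push_apply, pairPt, ofConv_toConv, Algebra.TensorProduct.includeRight_apply,
    Algebra.TensorProduct.lift_tmul, map_one, _root_.one_mul]
  rfl

theorem pair_ext {α β : A ⊗[k] (A ⧸ I) →ₐ[k] R} (h1 : fstPt α = fstPt β) (h2 : sndPt α = sndPt β) : α = β := by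
  refine Algebra.TensorProduct.ext' fun a m => ?_
  obtain ⟨a', rfl⟩ := Ideal.Quotient.mk_surjective m
  have e : a ⊗ₜ[k] Ideal.Quotient.mk I a' =
      (a ⊗ₜ[k] (1 : A ⧸ I)) * ((1 : A) ⊗ₜ[k] Ideal.Quotient.mk I a') := by simp
  rw [e, map_mul, map_mul]
  exact congrArg₂ (· * ·) (congrArg (fun p : Pt k A R => p.ofConv a) h1)
    (congrArg (fun p : Pt k A R => p.ofConv a') h2)

theorem pairPt_congr {g g' n n' : Pt k A R} {hn : Kills I n} {hn' : Kills I n'} (h1 : g = g') (h2 : n = n') :
    pairPt g n hn = pairPt g' n' hn' := by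
  subst h1 h2; rfl

theorem push_fstPt {R' : Type u} [CommRing R'] [Algebra k R'] (φ : R →ₐ[k] R')
    (α : A ⊗[k] (A ⧸ I) →ₐ[k] R) : push φ (fstPt α) = fstPt (φ.comp α) := rfl

theorem push_sndPt {R' : Type u} [CommRing R'] [Algebra k R'] (φ : R →ₐ[k] R')
    (α : A ⊗[k] (A ⧸ I) →ₐ[k] R) : push φ (sndPt α) = sndPt (φ.comp α) := rfl

theorem comp_pairPt {R' : Type u} [CommRing R'] [Algebra k R'] (φ : R →ₐ[k] R') (g n : Pt k A R)
    (hn : Kills I n) : φ.comp (pairPt g n hn) = pairPt (push φ g) (push φ n) (hn.push φ) :=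
  pair_ext (by rw [← push_fstPt, fstPt_pairPt, fstPt_pairPt]) (by rw [← push_sndPt, sndPt_pairPt, sndPt_pairPt])

theorem comp_shift (α : A ⊗[k] (A ⧸ I) →ₐ[k] R) :
    toConv (α.comp (shift k I)) = fstPt α * sndPt α := by
  rw [← map_mul]; rfl

variable (k) in
/-- The algebra structure induced by a ring point. -/
abbrev algOf {B T : Type u} [CommRing B] [Algebra k B] [CommRing T] (α : B →+* T) : Algebra k T :=
  (α.comp (algebraMap k B)).toAlgebra

/-- A ring point as an algebra point. -/
def toAlg {B T : Type u} [CommRing B] [Algebra k B] [CommRing T] [Algebra k T] (α : B →+* T)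
    (h : α.comp (algebraMap k B) = algebraMap k T) : B →ₐ[k] T :=
  { α with commutes' := fun c => RingHom.congr_fun h c }

theorem algMap_eq_of_compat {T : Type u} [CommRing T] {α β : A ⊗[k] (A ⧸ I) →+* T}
    (h : α.comp (Algebra.TensorProduct.includeLeft : A →ₐ[k] A ⊗[k] (A ⧸ I)).toRingHom =
      β.comp (shift k I).toRingHom) :
    α.comp (algebraMap k (A ⊗[k] (A ⧸ I))) = β.comp (algebraMap k (A ⊗[k] (A ⧸ I))) := by
  refine RingHom.ext fun c => ?_
  have := RingHom.congr_fun h (algebraMap k A c)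
  simpa [AlgHom.commutes] using this

variable (k) in
/-- Composition `(g, n) ∘ (g', n') = (g', n' n)` when `g = g' n'`. -/
def compPt (hI : IsNormalSub k A I) {T : Type u} [CommRing T] (α β : A ⊗[k] (A ⧸ I) →+* T)
    (h : α.comp (Algebra.TensorProduct.includeLeft : A →ₐ[k] A ⊗[k] (A ⧸ I)).toRingHom =
      β.comp (shift k I).toRingHom) : A ⊗[k] (A ⧸ I) →+* T :=
  letI := algOf k β
  let a := toAlg α (algMap_eq_of_compat h)
  let b := toAlg β rfl
  (pairPt (fstPt b) (sndPt b * sndPt a) (hI.mul (kills_sndPt _) (kills_sndPt _))).toRingHom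

theorem compPt_eq' (hI : IsNormalSub k A I) {T : Type u} [CommRing T] [inst : Algebra k T]
    (α β : A ⊗[k] (A ⧸ I) →+* T) (hα : α.comp (algebraMap k _) = algebraMap k T)
    (hβ : β.comp (algebraMap k _) = algebraMap k T)
    (h : α.comp (Algebra.TensorProduct.includeLeft : A →ₐ[k] A ⊗[k] (A ⧸ I)).toRingHom =
      β.comp (shift k I).toRingHom) :
    compPt k hI α β h = (pairPt (fstPt (toAlg β hβ)) (sndPt (toAlg β hβ) * sndPt (toAlg α hα))
      (hI.mul (kills_sndPt _) (kills_sndPt _))).toRingHom := by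
  have e : inst = algOf k β := Algebra.algebra_ext _ _ fun c => (RingHom.congr_fun hβ c).symm
  subst e
  rfl

/-- Identities `(g, 1)`. -/
def idArrow (hI : IsNormalSub k A I) : A ⊗[k] (A ⧸ I) →ₐ[k] A := pairPt (idPt k A) 1 (hI.one A)

/-- Inverses `(g n, n⁻¹)`. -/
def invArrow (hI : IsNormalSub k A I) : A ⊗[k] (A ⧸ I) →ₐ[k] A ⊗[k] (A ⧸ I) :=
  pairPt (fstPt (AlgHom.id k _) * sndPt (AlgHom.id k _)) (sndPt (AlgHom.id k _))⁻¹ (hI.inv (kills_sndPt _))

theorem fstPt_idArrow (hI : IsNormalSub k A I) (g : Pt k A R) :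
    fstPt (g.ofConv.comp (idArrow hI)) = g ∧ sndPt (g.ofConv.comp (idArrow hI)) = 1 := by
  rw [← push_fstPt, ← push_sndPt, idArrow, fstPt_pairPt, sndPt_pairPt, map_one]
  exact ⟨rfl, rfl⟩

theorem fstPt_invArrow (hI : IsNormalSub k A I) (α : A ⊗[k] (A ⧸ I) →ₐ[k] R) :
    fstPt (α.comp (invArrow hI)) = fstPt α * sndPt α ∧ sndPt (α.comp (invArrow hI)) = (sndPt α)⁻¹ := by
  rw [← push_fstPt, ← push_sndPt, invArrow, fstPt_pairPt, sndPt_pairPt, map_mul, map_inv]
  exact ⟨rfl, rfl⟩

theorem fst_eq_of_compat {α β : A ⊗[k] (A ⧸ I) →ₐ[k] R}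
    (h : α.toRingHom.comp (Algebra.TensorProduct.includeLeft : A →ₐ[k] A ⊗[k] (A ⧸ I)).toRingHom =
      β.toRingHom.comp (shift k I).toRingHom) : fstPt α = fstPt β * sndPt β := by
  rw [← comp_shift]
  exact WithConv.ext (AlgHom.ext fun a => RingHom.congr_fun h a)

/-- The action groupoid of right translation. -/
def transGrpd (hI : IsNormalSub k A I) : RingGrpd A (A ⊗[k] (A ⧸ I)) where
  s := (Algebra.TensorProduct.includeLeft : A →ₐ[k] A ⊗[k] (A ⧸ I)).toRingHom
  t := (shift k I).toRingHom
  e := (idArrow hI).toRingHom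
  i := (invArrow hI).toRingHom
  comp α β h := compPt k hI α β h
  comp_map {T T'} _ _ φ α β h h' := by
    let := algOf k β
    let := algOf k (φ.comp β)
    let φ' : T →ₐ[k] T' := { φ with commutes' := fun c => rfl }
    rw [compPt_eq' hI α β (algMap_eq_of_compat h) rfl h,
      compPt_eq' hI (φ.comp α) (φ.comp β) (algMap_eq_of_compat h') rfl h']
    exact (congrArg AlgHom.toRingHom (comp_pairPt φ' _ _ _)).trans
      (congrArg AlgHom.toRingHom (pairPt_congr rfl (map_mul _ _ _)))
  comp_s {T} _ α β h := by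
    let := algOf k β
    rw [compPt_eq' hI α β (algMap_eq_of_compat h) rfl h]
    refine RingHom.ext fun a => ?_
    exact congrArg (fun p : Pt k A T => p.ofConv a) (fstPt_pairPt _ _ _)
  comp_t {T} _ α β h := by
    let := algOf k β
    rw [compPt_eq' hI α β (algMap_eq_of_compat h) rfl h]
    have key : toConv ((pairPt (fstPt (toAlg β rfl)) (sndPt (toAlg β rfl) * sndPt (toAlg α (algMap_eq_of_compat h)))
        (hI.mul (kills_sndPt _) (kills_sndPt _))).comp (shift k I)) =
        toConv ((toAlg α (algMap_eq_of_compat h)).comp (shift k I)) := by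
      rw [comp_shift, comp_shift, fstPt_pairPt, sndPt_pairPt,
        fst_eq_of_compat (α := toAlg α (algMap_eq_of_compat h)) (β := toAlg β rfl) h, mul_assoc]
    exact RingHom.ext fun a => congrArg (fun p : Pt k A T => p.ofConv a) key
  assoc {T} _ α β γ h₁ h₂ h₃ h₄ := by
    let := algOf k γ
    have hβ : β.comp (algebraMap k _) = algebraMap k T := algMap_eq_of_compat h₂
    have hα : α.comp (algebraMap k _) = algebraMap k T := (algMap_eq_of_compat h₁).trans hβ
    have e₁ : compPt k hI α β h₁ = _ := compPt_eq' hI α β hα hβ h₁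
    have e₂ : compPt k hI β γ h₂ = _ := compPt_eq' hI β γ hβ rfl h₂
    have c₁ : (compPt k hI α β h₁).comp (algebraMap k _) = algebraMap k T := by
      rw [e₁]; exact AlgHom.comp_algebraMap (pairPt _ _ _)
    have c₂ : (compPt k hI β γ h₂).comp (algebraMap k _) = algebraMap k T := by
      rw [e₂]; exact AlgHom.comp_algebraMap (pairPt _ _ _)
    rw [compPt_eq' hI _ γ c₁ rfl h₃, compPt_eq' hI α _ hα c₂ h₄]
    refine congrArg AlgHom.toRingHom (pair_ext ?_ ?_)
    all_goals
      have a₁ : toAlg (compPt k hI α β h₁) c₁ = pairPt (fstPt (toAlg β hβ)) (sndPt (toAlg β hβ) *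
          sndPt (toAlg α hα)) (hI.mul (kills_sndPt _) (kills_sndPt _)) :=
        AlgHom.ext fun x => RingHom.congr_fun e₁ x
      have a₂ : toAlg (compPt k hI β γ h₂) c₂ = pairPt (fstPt (toAlg γ rfl)) (sndPt (toAlg γ rfl) *
          sndPt (toAlg β hβ)) (hI.mul (kills_sndPt _) (kills_sndPt _)) :=
        AlgHom.ext fun x => RingHom.congr_fun e₂ x
      simp only [a₁, a₂, fstPt_pairPt, sndPt_pairPt, mul_assoc]
  e_s := RingHom.ext fun a =>
    congrArg (fun p : Pt k A A => p.ofConv a) (fstPt_pairPt (idPt k A) 1 (hI.one A))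
  e_t := RingHom.ext fun a => by
    have h := comp_shift (idArrow hI)
    rw [idArrow, fstPt_pairPt, sndPt_pairPt, _root_.mul_one] at h
    exact congrArg (fun p : Pt k A A => p.ofConv a) h
  comp_e {T} _ α h := by
    let := algOf k α
    have hg : ((α.comp (Algebra.TensorProduct.includeLeft : A →ₐ[k] A ⊗[k] (A ⧸ I)).toRingHom).comp
        (idArrow hI).toRingHom).comp (algebraMap k _) = algebraMap k T := by
      refine RingHom.ext fun c => ?_
      simp only [RingHom.comp_apply, AlgHom.toRingHom_eq_coe, RingHom.coe_coe, AlgHom.commutes]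
      rfl
    rw [compPt_eq' hI _ _ rfl hg h]
    have e : toAlg _ hg = (fstPt (toAlg α rfl)).ofConv.comp (idArrow hI) := AlgHom.ext fun x => rfl
    refine (congrArg AlgHom.toRingHom (pair_ext (β := toAlg α rfl) ?_ ?_)).trans rfl
    · rw [fstPt_pairPt, e, (fstPt_idArrow hI _).1]
    · rw [sndPt_pairPt, e, (fstPt_idArrow hI _).2, _root_.one_mul]
  e_comp {T} _ α h := by
    let := algOf k α
    have hg : ((α.comp (shift k I).toRingHom).comp
        (idArrow hI).toRingHom).comp (algebraMap k _) = algebraMap k T := by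
      refine RingHom.ext fun c => ?_
      simp only [RingHom.comp_apply, AlgHom.toRingHom_eq_coe, RingHom.coe_coe, AlgHom.commutes]
      rfl
    rw [compPt_eq' hI _ _ hg rfl h]
    have e : toAlg _ hg = (toConv ((toAlg α rfl).comp (shift k I)) : Pt k A T).ofConv.comp (idArrow hI) :=
      AlgHom.ext fun x => rfl
    refine (congrArg AlgHom.toRingHom (pair_ext (β := toAlg α rfl) ?_ ?_)).trans rfl
    · rw [fstPt_pairPt]
    · rw [sndPt_pairPt, e, (fstPt_idArrow hI _).2, _root_.mul_one]
  i_s := RingHom.ext fun a =>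
    congrArg (fun p : Pt k A (A ⊗[k] (A ⧸ I)) => p.ofConv a) (fstPt_pairPt _ _ _)
  i_t := RingHom.ext fun a => by
    have h := comp_shift (invArrow hI)
    rw [invArrow, fstPt_pairPt, sndPt_pairPt, mul_inv_cancel_right] at h
    exact congrArg (fun p : Pt k A (A ⊗[k] (A ⧸ I)) => p.ofConv a) h
  comp_i {T} _ α h := by
    let := algOf k α
    have hi : (α.comp (invArrow hI).toRingHom).comp (algebraMap k _) = algebraMap k T := by
      refine RingHom.ext fun c => ?_
      simp only [RingHom.comp_apply, AlgHom.toRingHom_eq_coe, RingHom.coe_coe, AlgHom.commutes]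
      rfl
    rw [compPt_eq' hI _ _ rfl hi h]
    have e : toAlg _ hi = (toAlg α rfl).comp (invArrow hI) := AlgHom.ext fun x => rfl
    refine (congrArg AlgHom.toRingHom (pair_ext
      (β := (toConv ((toAlg α rfl).comp (shift k I)) : Pt k A T).ofConv.comp (idArrow hI)) ?_ ?_)).trans rfl
    · rw [fstPt_pairPt, e, (fstPt_invArrow hI _).1, (fstPt_idArrow hI _).1, comp_shift]
    · rw [sndPt_pairPt, e, (fstPt_invArrow hI _).2, (fstPt_idArrow hI _).2, inv_mul_cancel]
  i_comp {T} _ α h := by
    let := algOf k α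
    have hi : (α.comp (invArrow hI).toRingHom).comp (algebraMap k _) = algebraMap k T := by
      refine RingHom.ext fun c => ?_
      simp only [RingHom.comp_apply, AlgHom.toRingHom_eq_coe, RingHom.coe_coe, AlgHom.commutes]
      rfl
    rw [compPt_eq' hI _ _ hi rfl h]
    have e : toAlg _ hi = (toAlg α rfl).comp (invArrow hI) := AlgHom.ext fun x => rfl
    refine (congrArg AlgHom.toRingHom (pair_ext
      (β := (fstPt (toAlg α rfl)).ofConv.comp (idArrow hI)) ?_ ?_)).trans rfl
    · rw [fstPt_pairPt, (fstPt_idArrow hI _).1]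
    · rw [sndPt_pairPt, e, (fstPt_invArrow hI _).2, (fstPt_idArrow hI _).2, mul_inv_cancel]

theorem shift_surjective_aux (a : A) :
    ∃ (w : A ⊗[k] A), (Algebra.TensorProduct.lift (Algebra.TensorProduct.includeLeft : A →ₐ[k] A ⊗[k] (A ⧸ I))
      (shift k I) fun _ _ => .all ..) w = (1 : A) ⊗ₜ Ideal.Quotient.mk I a := by
  refine ⟨Algebra.TensorProduct.map (HopfAlgebra.antipodeAlgHom k A) (AlgHom.id k A)
    (CoalgebraStruct.comul (R := k) a), ?_⟩
  let g : Pt k A (A ⊗[k] (A ⧸ I)) := fstPt (AlgHom.id k _)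
  let n : Pt k A (A ⊗[k] (A ⧸ I)) := sndPt (AlgHom.id k _)
  have h : (g⁻¹ * (g * n)).ofConv a = n.ofConv a := by rw [inv_mul_cancel_left]
  refine Eq.trans ?_ h
  rw [mul_apply]
  generalize CoalgebraStruct.comul (R := k) a = t
  induction t using TensorProduct.induction_on with
  | zero => simp
  | add p q hp hq => simp only [map_add, hp, hq]
  | tmul p q =>
    rw [Algebra.TensorProduct.map_tmul, Algebra.TensorProduct.lift_tmul, Algebra.TensorProduct.lift_tmul,
      inv_apply]
    rfl

/-- A finite normal subgroup is the kernel on its invariants. -/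
theorem gen_of_finite (hI : IsNormalSub k A I) [Module.Finite k (A ⧸ I)] : Gen k I := by
  classical
  intro R _ _ g hg
  let G := transGrpd hI
  let eqv : A ⊗[k] (A ⧸ I) ≃ₗ[A] G.SB :=
    { toFun := fun x => x, invFun := fun x => x, map_add' := fun _ _ => rfl,
      left_inv := fun _ => rfl, right_inv := fun _ => rfl,
      map_smul' := fun a x => by
        show (a • x : A ⊗[k] (A ⧸ I)) = (a ⊗ₜ[k] (1 : A ⧸ I)) * x
        induction x using TensorProduct.induction_on with
        | zero => simp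
        | add p q hp hq => simp only [smul_add, mul_add, hp, hq]
        | tmul p q =>
          rw [Algebra.TensorProduct.tmul_mul_tmul, _root_.one_mul, TensorProduct.smul_tmul', smul_eq_mul] }
  have : Module.Free k (A ⧸ I) := Module.Free.of_divisionRing k _
  have : Module.Finite A G.SB := Module.Finite.equiv eqv
  have : Module.Free A G.SB := Module.Free.of_equiv eqv
  obtain ⟨N, a, ha⟩ := G.exists_span_eq_top fun {T} _ α β hs ht => by
    letI := algOf k β
    have hα : α.comp (algebraMap k _) = algebraMap k T := RingHom.ext fun c => by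
      have h := RingHom.congr_fun hs (algebraMap k A c)
      exact h
    have h1 : fstPt (toAlg α hα) = fstPt (toAlg β rfl) := WithConv.ext (AlgHom.ext fun x => RingHom.congr_fun hs x)
    have h2 : toConv ((toAlg α hα).comp (shift k I)) = toConv ((toAlg β rfl).comp (shift k I)) :=
      WithConv.ext (AlgHom.ext fun x => RingHom.congr_fun ht x)
    rw [comp_shift, comp_shift, h1] at h2
    exact RingHom.ext fun x => AlgHom.congr_fun (pair_ext h1 (mul_left_cancel h2)) x
  obtain ⟨-, -, -, hbij⟩ := G.finite_flat_quotient a ha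
  intro x hx
  let ε₀ : A →+* R := (algebraMap k R).comp (Bialgebra.counitAlgHom k A).toRingHom
  letI : Algebra G.invariants R := (ε₀.comp G.invariants.subtype).toAlgebra
  have hbal : ∀ c : G.invariants, g.ofConv c = ε₀ c := fun c => hg c (mem_invAlg.2 c.2.symm)
  let θ : A ⊗[G.invariants] A →ₐ[G.invariants] R :=
    Algebra.TensorProduct.lift { g.ofConv.toRingHom with commutes' := fun c => hbal c }
      { ε₀ with commutes' := fun c => rfl } fun _ _ => .all ..
  have hθ : ∀ p q : A, θ (p ⊗ₜ q) = g.ofConv p * algebraMap k R (CoalgebraStruct.counit (R := k) q) := fun p q => by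
    simp only [θ]
    erw [Algebra.TensorProduct.lift_tmul]
    rfl
  -- every element with vanishing `ε ⊗ 1` comes from the kernel of `θ`
  have hsurj : ∀ q : A, ∃ w, G.pairMap w = ((1 : A) ⊗ₜ[k] Ideal.Quotient.mk I q : A ⊗[k] (A ⧸ I)) := by
    intro q
    obtain ⟨w, hw⟩ := shift_surjective_aux (k := k) (I := I) q
    have key : ∀ w : A ⊗[k] A, ∃ w' : A ⊗[G.invariants] A, G.pairMap w' =
        (Algebra.TensorProduct.lift (Algebra.TensorProduct.includeLeft : A →ₐ[k] A ⊗[k] (A ⧸ I))
          (shift k I) fun _ _ => .all ..) w := by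
      intro w
      induction w using TensorProduct.induction_on with
      | zero => exact ⟨0, by rw [map_zero, map_zero]; rfl⟩
      | add u v hu hv =>
        obtain ⟨u', hu'⟩ := hu
        obtain ⟨v', hv'⟩ := hv
        exact ⟨u' + v', by rw [map_add, map_add, ← hu', ← hv']; rfl⟩
      | tmul u v =>
        refine ⟨v ⊗ₜ u, ?_⟩
        rw [G.pairMap_tmul, Algebra.TensorProduct.lift_tmul]
        exact mul_comm (shift k I v) _
    obtain ⟨w', hw'⟩ := key w
    exact ⟨w', hw'.trans hw⟩
  have key : ∀ t : A ⊗[k] (A ⧸ I), ∃ w, θ w = 0 ∧ G.pairMap w =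
      t - (1 : A) ⊗ₜ[k] (TensorProduct.lid k (A ⧸ I)
        ((CoalgebraStruct.counit (R := k) (A := A)).rTensor (A ⧸ I) t)) := by
    intro t
    induction t using TensorProduct.induction_on with
    | zero => exact ⟨0, map_zero θ, by simp; rfl⟩
    | add u v hu hv =>
      obtain ⟨u', h1, hu'⟩ := hu
      obtain ⟨v', h2, hv'⟩ := hv
      refine ⟨u' + v', by rw [map_add, h1, h2, add_zero], ?_⟩
      rw [map_add, hu', hv', map_add, map_add, TensorProduct.tmul_add]
      show (_ : A ⊗[k] (A ⧸ I)) + _ = _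
      abel
    | tmul p q =>
      obtain ⟨q, rfl⟩ := Ideal.Quotient.mk_surjective q
      obtain ⟨w, hw⟩ := hsurj q
      let p' := p - algebraMap k A (CoalgebraStruct.counit (R := k) p)
      refine ⟨((1 : A) ⊗ₜ p') * w, ?_, ?_⟩
      · rw [map_mul, hθ, show CoalgebraStruct.counit (R := k) p' = 0 by simp [p'], map_zero, mul_zero, zero_mul]
      · rw [map_mul, hw, G.pairMap_tmul]
        show (shift k I 1 * (p' ⊗ₜ[k] (1 : A ⧸ I))) * ((1 : A) ⊗ₜ[k] Ideal.Quotient.mk I q) = _
        rw [map_one, _root_.one_mul, Algebra.TensorProduct.tmul_mul_tmul, _root_.one_mul, _root_.mul_one,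
          LinearMap.rTensor_tmul, TensorProduct.lid_tmul, TensorProduct.sub_tmul, ← TensorProduct.smul_tmul,
          ← Algebra.algebraMap_eq_smul_one]
  obtain ⟨w, hw0, hw⟩ := key (shift k I x)
  have hsx : G.pairMap (x ⊗ₜ (1 : A)) = shift k I x := by
    rw [G.pairMap_tmul]
    show shift k I x * ((1 : A) ⊗ₜ[k] (1 : A ⧸ I)) = _
    exact mul_one _
  have h0 : TensorProduct.lid k (A ⧸ I)
      ((CoalgebraStruct.counit (R := k) (A := A)).rTensor (A ⧸ I) (shift k I x)) = 0 := by
    rw [shift_eq, ← LinearMap.comp_apply ((CoalgebraStruct.counit (R := k) (A := A)).rTensor (A ⧸ I)),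
      LinearMap.rTensor_comp_lTensor, ← LinearMap.lTensor_comp_rTensor, LinearMap.comp_apply,
      Coalgebra.rTensor_counit_comul, LinearMap.lTensor_tmul, TensorProduct.lid_tmul, one_smul]
    exact (Ideal.Quotient.eq_zero_iff_mem).2 hx
  rw [h0, TensorProduct.tmul_zero] at hw
  have := hbij.1 ((hw.trans (sub_zero _)).trans hsx.symm)
  rw [this, hθ] at hw0
  simpa using hw0

end Groth.Agent.HopfQuot
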