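import Groth.Agent.HopfQuot.UnipotentInduction
import Groth.Agent.HopfQuot.CocommDiag
import Mathlib.RingTheory.HopfAlgebra.Convolution
import Mathlib.RingTheory.Artinian.Module
import Mathlib.Algebra.CharP.Algebra

/-!
# Simple infinitesimal groups
-/

set_option autoImplicit false

noncomputable section

open TensorProduct HopfRep WithConv
open Groth.Agent.HopfLib
open Coalgebra (comul counit)

universe u

namespace Groth.Agent.HopfQuot

variable {k : Type u} [Field k] {A : Type u} [CommRing A] [HopfAlgebra k A]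

theorem augIdealSpan_adjoin (x : A) :
    SGA3.augIdealSpan k A (Algebra.adjoin k {x}) =
      Ideal.span {x - algebraMap k A (CoalgebraStruct.counit (R := k) x)} := by
  refine le_antisymm (Ideal.span_le.2 ?_) (Ideal.span_le.2 ?_)
  · rintro b ⟨hb, h0⟩
    rw [Algebra.adjoin_singleton_eq_range_aeval] at hb
    obtain ⟨P, rfl⟩ := hb
    have hroot : P.IsRoot (CoalgebraStruct.counit (R := k) x) := by
      show P.eval _ = 0
      rw [← Polynomial.coe_aeval_eq_eval]
      exact (Polynomial.aeval_algHom_apply (Bialgebra.counitAlgHom k A) x P).trans h0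
    obtain ⟨Q, rfl⟩ := Polynomial.dvd_iff_isRoot.2 hroot
    refine Ideal.mem_span_singleton.2 ⟨Polynomial.aeval x Q, ?_⟩
    simp
  · rintro _ rfl
    refine Ideal.subset_span ⟨sub_mem (Algebra.self_mem_adjoin_singleton k x) (Subalgebra.algebraMap_mem _ _), ?_⟩
    rw [map_sub, Bialgebra.counit_algebraMap, sub_self]

theorem span_pow_eq_top {y : A} (hy : CoalgebraStruct.counit (R := k) y = 0)
    (hgen : ∀ a : A, CoalgebraStruct.counit (R := k) a = 0 → y ∣ a) {n : ℕ} (hn : y ^ n = 0) :
    Submodule.span k (Set.range fun i : Fin n => y ^ (i : ℕ)) = ⊤ := by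
  suffices key : ∀ m, ∀ a : A, ∃ s ∈ Submodule.span k (Set.range fun i : Fin n => y ^ (i : ℕ)), ∃ b : A,
      a = s + y ^ m * b by
    refine eq_top_iff.2 fun a _ => ?_
    obtain ⟨s, hs, b, hb⟩ := key n a
    rw [hb, hn, zero_mul, add_zero]
    exact hs
  intro m
  induction m with
  | zero => exact fun a => ⟨0, zero_mem _, a, by simp⟩
  | succ m ih =>
    intro a
    obtain ⟨s, hs, b, hb⟩ := ih a
    obtain ⟨b', hb'⟩ := hgen (b - algebraMap k A (CoalgebraStruct.counit (R := k) b))
      (by rw [map_sub, Bialgebra.counit_algebraMap, sub_self])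
    have hpow : y ^ m ∈ Submodule.span k (Set.range fun i : Fin n => y ^ (i : ℕ)) := by
      by_cases hm : m < n
      · exact Submodule.subset_span ⟨⟨m, hm⟩, rfl⟩
      · rw [show m = n + (m - n) by omega, pow_add, hn, zero_mul]; exact zero_mem _
    refine ⟨s + CoalgebraStruct.counit (R := k) b • y ^ m, add_mem hs (Submodule.smul_mem _ _ hpow), b', ?_⟩
    rw [hb, Algebra.smul_def, pow_succ, mul_assoc, ← hb']
    ring

variable [FiniteDimensional k A] [IsLocalRing A]

theorem isNilpotent_of_counit_eq_zero {a : A} (ha : CoalgebraStruct.counit (R := k) a = 0) : IsNilpotent a := by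
  haveI : IsArtinianRing A := isArtinian_of_tower k inferInstance
  refine (IsArtinianRing.isNilpotent_jacobson_bot (R := A)).elim fun N hN => ⟨N, ?_⟩
  have hm : a ∈ (⊥ : Ideal A).jacobson := by
    rw [IsLocalRing.jacobson_eq_maximalIdeal ⊥ bot_ne_top, IsLocalRing.mem_maximalIdeal, mem_nonunits_iff]
    intro hu
    have h := hu.map (Bialgebra.counitAlgHom k A)
    rw [Bialgebra.counitAlgHom_apply, ha] at h
    exact not_isUnit_zero h
  have := Ideal.pow_mem_pow hm N
  rwa [hN] at this

variable (hsimple : ∀ I : Ideal A, I.IsHopfIdeal k → I = ⊥ ∨ I = RingHom.ker (Bialgebra.counitAlgHom k A))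
include hsimple

/-- In a simple infinitesimal group a Hopf subalgebra generated by one element `x ≠ ε x` cuts out the identity. -/
theorem dvd_of_simple {x : A} (hB : SGA3.IsHopfSubalgebra k A (Algebra.adjoin k {x}))
    (hx : x ≠ algebraMap k A (CoalgebraStruct.counit (R := k) x)) {a : A}
    (ha : CoalgebraStruct.counit (R := k) a = 0) :
    (x - algebraMap k A (CoalgebraStruct.counit (R := k) x)) ∣ a := by
  have hJ : (SGA3.augIdealSpan k A (Algebra.adjoin k {x})).IsHopfIdeal k := (isNormalSub_augIdealSpan hB).isHopfIdeal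
  rw [augIdealSpan_adjoin] at hJ
  rcases hsimple _ hJ with h | h
  · exact absurd (sub_eq_zero.1 (Ideal.span_singleton_eq_bot.1 h)) hx
  · refine Ideal.mem_span_singleton.1 ?_
    rw [h]
    exact ha

theorem exists_alpha_generator {p : ℕ} [Fact p.Prime] [CharP k p] {x : A} (hx0 : x ≠ 0)
    (hx : CoalgebraStruct.comul (R := k) x = x ⊗ₜ[k] (1 : A) + (1 : A) ⊗ₜ[k] x) :
    x ^ p = 0 ∧ LinearIndependent k (fun i : Fin p => x ^ (i : ℕ)) ∧ Module.finrank k A = p := by
  classical
  have hp := (Fact.out : p.Prime)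
  haveI : Nontrivial A := ⟨⟨x, 0, hx0⟩⟩
  haveI : CharP A p := charP_of_injective_algebraMap (algebraMap k A).injective p
  haveI : CharP (A ⊗[k] A) p := by
    have hinj : Function.Injective (algebraMap k (A ⊗[k] A)) := fun a b h => by
      have h' := congrArg (Algebra.TensorProduct.lift (Algebra.ofId k k) (Algebra.ofId k k) (fun _ _ => .all ..)) 
        (congrArg (Algebra.TensorProduct.map (Bialgebra.counitAlgHom k A) (Bialgebra.counitAlgHom k A)) h)
      simp only [AlgHom.commutes] at h'
      simpa using h'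
    exact charP_of_injective_algebraMap hinj p
  have hεx := counit_eq_zero_of_primitive hx
  -- the Frobenius power is zero
  have hxp : CoalgebraStruct.comul (R := k) (x ^ p) = (x ^ p) ⊗ₜ[k] (1 : A) + (1 : A) ⊗ₜ[k] (x ^ p) := by
    rw [Bialgebra.comul_pow, hx, add_pow_char, Algebra.TensorProduct.tmul_pow, Algebra.TensorProduct.tmul_pow,
      one_pow]
  have hxp0 : x ^ p = 0 := by
    by_contra hne
    have hεp := counit_eq_zero_of_primitive hxp
    obtain ⟨a, ha⟩ := dvd_of_simple hsimple (isHopfSubalgebra_adjoin_primitive hxp)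
      (by rw [hεp, map_zero]; exact hne) hεx
    rw [hεp, map_zero, sub_zero] at ha
    have hu : IsUnit (1 - x ^ (p - 1) * a) := by
      refine IsNilpotent.isUnit_one_sub ((Commute.all _ _).isNilpotent_mul_right ?_)
      have hp1 : p - 1 ≠ 0 := (Nat.sub_pos_of_lt hp.one_lt).ne'
      exact (isNilpotent_of_counit_eq_zero hεx).pow_of_pos hp1
    refine hx0 (hu.mul_left_eq_zero.1 ?_)
    rw [mul_sub, mul_one, ← mul_assoc, ← pow_succ', show p - 1 + 1 = p by have := hp.two_le; omega, ← ha, sub_self]
  have hgen : ∀ a : A, CoalgebraStruct.counit (R := k) a = 0 → x ∣ a := fun a ha => by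
    have := dvd_of_simple hsimple (isHopfSubalgebra_adjoin_primitive hx) (by rw [hεx, map_zero]; exact hx0) ha
    rwa [hεx, map_zero, sub_zero] at this
  -- the order of nilpotence
  have hex : ∃ n, x ^ n = 0 := ⟨p, hxp0⟩
  let n := Nat.find hex
  have hn : x ^ n = 0 := Nat.find_spec hex
  have hli : LinearIndependent k (fun i : Fin n => x ^ (i : ℕ)) := by
    rw [Fintype.linearIndependent_iff]
    intro c hc
    by_contra hne
    push Not at hne
    let T := Finset.univ.filter fun i : Fin n => c i ≠ 0
    have hT : T.Nonempty := hne.imp fun i hi => Finset.mem_filter.2 ⟨Finset.mem_univ _, hi⟩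
    let i₀ := T.min' hT
    have hi₀ : c i₀ ≠ 0 := (Finset.mem_filter.1 (T.min'_mem hT)).2
    have hlt := i₀.2
    have h1 := congrArg (· * x ^ (n - 1 - (i₀ : ℕ))) hc
    simp only [Finset.sum_mul, zero_mul] at h1
    rw [Finset.sum_eq_single i₀] at h1
    · rw [smul_mul_assoc, ← pow_add, show (i₀ : ℕ) + (n - 1 - (i₀ : ℕ)) = n - 1 by omega, smul_eq_zero] at h1
      exact Nat.find_min hex (show n - 1 < n by omega) (h1.resolve_left hi₀)
    · intro i _ hi
      by_cases hci : c i = 0
      · rw [hci, zero_smul, zero_mul]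
      · have hle : i₀ ≤ i := T.min'_le i (Finset.mem_filter.2 ⟨Finset.mem_univ _, hci⟩)
        have hlt' : (i₀ : ℕ) < (i : ℕ) := lt_of_le_of_ne hle fun h => hi (Fin.ext h).symm
        rw [smul_mul_assoc, ← pow_add, show (i : ℕ) + (n - 1 - (i₀ : ℕ)) = n + ((i : ℕ) - 1 - (i₀ : ℕ)) by omega,
          pow_add, hn, zero_mul, smul_zero]
    · intro h; exact absurd (Finset.mem_univ _) h
  let b : Module.Basis (Fin n) k A := Module.Basis.mk hli (span_pow_eq_top hεx hgen hn).ge
  have hnp : n = p := by
    refine le_antisymm (Nat.find_min' hex hxp0) ?_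
    by_contra hlt
    push Not at hlt
    have hn2 : 2 ≤ n := by
      by_contra h
      push Not at h
      interval_cases hh : n
      · simp at hn
      · exact hx0 (by simpa using hn)
    let i : Fin n := ⟨n - 1, by omega⟩
    let j : Fin n := ⟨1, by omega⟩
    have hb : ∀ l : Fin n, b l = x ^ (l : ℕ) := fun l => Module.Basis.mk_apply _ _ l
    have h := congrArg (fun z => b.coord i (sliceR (b.coord j) z))
      ((Bialgebra.comul_pow x n).symm.trans (by rw [hn, map_zero]))
    simp only [map_zero] at h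
    rw [hx, (Commute.all _ _).add_pow, map_sum, map_sum, Finset.sum_eq_single (n - 1)] at h
    · rw [Algebra.TensorProduct.tmul_pow, Algebra.TensorProduct.tmul_pow, one_pow, one_pow,
        Algebra.TensorProduct.tmul_mul_tmul, mul_one, one_mul, ← nsmul_eq_mul', map_nsmul, map_nsmul, sliceR_tmul,
        map_smul, show n - (n - 1) = 1 by omega, show x ^ 1 = b j from (hb j).symm,
        show x ^ (n - 1) = b i from (hb i).symm, Module.Basis.coord_apply, Module.Basis.coord_apply,
        Module.Basis.repr_self, Module.Basis.repr_self, Finsupp.single_eq_same, Finsupp.single_eq_same, smul_eq_mul,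
        mul_one, nsmul_one, Nat.choose_symm_of_eq_add (show n = n - 1 + 1 by omega), Nat.choose_one_right,
        CharP.cast_eq_zero_iff k p] at h
      exact absurd (Nat.le_of_dvd (by omega) h) (by omega)
    · intro m hm hmne
      have hmn : m ≤ n := Nat.lt_add_one_iff.1 (Finset.mem_range.1 hm)
      rw [Algebra.TensorProduct.tmul_pow, Algebra.TensorProduct.tmul_pow, one_pow, one_pow,
        Algebra.TensorProduct.tmul_mul_tmul, mul_one, one_mul, ← nsmul_eq_mul', map_nsmul, map_nsmul, sliceR_tmul,
        map_smul]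
      rcases hmn.lt_or_eq with hlt2 | heq
      · rw [show x ^ m = b ⟨m, hlt2⟩ from (hb ⟨m, hlt2⟩).symm, Module.Basis.coord_apply (b := b) (i := i),
          Module.Basis.repr_self, Finsupp.single_eq_of_ne (fun e => hmne (congrArg Fin.val e).symm), smul_zero,
          smul_zero]
      · rw [heq, hn, map_zero, smul_zero, smul_zero]
    · intro hnot
      exact absurd (Finset.mem_range.2 (by omega)) hnot
  subst hnp
  exact ⟨hn, hli, by rw [Module.finrank_eq_card_basis b, Fintype.card_fin]⟩

theorem exists_mu_generator {p : ℕ} [Fact p.Prime] [CharP k p] {g : A} (hg1 : g ≠ 1)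
    (hg : IsGroupLikeElem k g) :
    g ^ p = 1 ∧ LinearIndependent k (fun i : Fin p => g ^ (i : ℕ)) ∧ Module.finrank k A = p := by
  classical
  have hp := (Fact.out : p.Prime)
  haveI : Nontrivial A := ⟨⟨g, 1, hg1⟩⟩
  haveI : CharP A p := charP_of_injective_algebraMap (algebraMap k A).injective p
  have hε : CoalgebraStruct.counit (R := k) (g - 1) = 0 := by
    rw [map_sub, hg.counit_eq_one, Bialgebra.counit_one, sub_self]
  obtain ⟨N, hN⟩ := isNilpotent_of_counit_eq_zero hε
  have hgN : g ^ p ^ N = 1 := by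
    rw [← sub_eq_zero, ← one_pow (p ^ N), ← sub_pow_char_pow g 1]
    exact pow_eq_zero_of_le (Nat.lt_pow_self hp.one_lt).le hN
  have hgl : ∀ j : ℕ, IsGroupLikeElem k (g ^ j) := fun j => by
    induction j with
    | zero => rw [pow_zero]; exact IsGroupLikeElem.one
    | succ j ih => rw [pow_succ]; exact ih.mul hg
  have hsub : ∀ j : ℕ, SGA3.IsHopfSubalgebra k A (Algebra.adjoin k {g ^ j}) := fun j => by
    refine ⟨fun b hb => ?_, fun b hb => ?_⟩
    · induction hb using Algebra.adjoin_induction with
      | mem y hy =>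
        rw [Set.mem_singleton_iff.1 hy, (hgl j).comul_eq_tmul_self]
        exact ⟨(⟨_, Algebra.self_mem_adjoin_singleton k _⟩ : Algebra.adjoin k {g ^ j}) ⊗ₜ
          ⟨_, Algebra.self_mem_adjoin_singleton k _⟩, rfl⟩
      | algebraMap r => exact ⟨algebraMap k _ r ⊗ₜ 1, by simp [Algebra.TensorProduct.one_def]⟩
      | add a b _ _ ha hb => rw [map_add]; exact add_mem ha hb
      | mul a b _ _ ha hb =>
        obtain ⟨s, hs⟩ := ha
        obtain ⟨t, ht⟩ := hb
        refine ⟨s * t, ?_⟩
        rw [Bialgebra.comul_mul, ← hs, ← ht]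
        exact map_mul (Algebra.TensorProduct.map (Algebra.adjoin k {g ^ j}).val (Algebra.adjoin k {g ^ j}).val) s t
    · induction hb using Algebra.adjoin_induction with
      | mem y hy =>
        rw [Set.mem_singleton_iff.1 hy]
        have e : g ^ j * (g ^ j) ^ (p ^ N - 1) = 1 := by
          rw [← pow_succ', Nat.sub_add_cancel (Nat.one_le_pow _ _ hp.pos), ← pow_mul, mul_comm, pow_mul, hgN, one_pow]
        rw [show HopfAlgebra.antipode k (g ^ j) = (g ^ j) ^ (p ^ N - 1) from
          left_inv_eq_right_inv (hgl j).antipode_mul_cancel e]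
        exact pow_mem (Algebra.self_mem_adjoin_singleton k _) _
      | algebraMap r =>
        rw [Algebra.algebraMap_eq_smul_one, map_smul, HopfAlgebra.antipode_one]
        exact Subalgebra.smul_mem _ (one_mem _) _
      | add a b _ _ ha hb => rw [map_add]; exact add_mem ha hb
      | mul a b _ _ ha hb => rw [HopfAlgebra.antipode_mul]; exact mul_mem hb ha
  have hgp : g ^ p = 1 := by
    by_contra hne
    obtain ⟨a, ha⟩ := dvd_of_simple hsimple (hsub p) (by rw [(hgl p).counit_eq_one, map_one]; exact hne) hε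
    rw [(hgl p).counit_eq_one, map_one, show g ^ p - 1 = (g - 1) ^ p from by rw [sub_pow_char, one_pow]] at ha
    have hu : IsUnit (1 - (g - 1) ^ (p - 1) * a) := by
      refine IsNilpotent.isUnit_one_sub ((Commute.all _ _).isNilpotent_mul_right ?_)
      have hp1 : p - 1 ≠ 0 := (Nat.sub_pos_of_lt hp.one_lt).ne'
      exact (isNilpotent_of_counit_eq_zero hε).pow_of_pos hp1
    refine hg1 (sub_eq_zero.1 (hu.mul_left_eq_zero.1 ?_))
    rw [mul_sub, mul_one, ← mul_assoc, ← pow_succ', Nat.sub_add_cancel hp.one_le, ← ha, sub_self]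
  have hord : orderOf g = p := orderOf_eq_prime hgp hg1
  have hli : LinearIndependent k (fun i : Fin p => g ^ (i : ℕ)) := by
    have h := (linearIndepOn_isGroupLikeElem (R := k) (A := A)).linearIndependent
    refine h.comp (fun i : Fin p => ⟨g ^ (i : ℕ), hgl i⟩) fun i j hij => ?_
    exact Fin.ext (pow_injOn_Iio_orderOf (by rw [hord]; exact i.2) (by rw [hord]; exact j.2) (congrArg Subtype.val hij))
  have hyp : (g - 1) ^ p = 0 := by rw [sub_pow_char, hgp, one_pow, sub_self]
  have hdvd : ∀ a : A, CoalgebraStruct.counit (R := k) a = 0 → g - 1 ∣ a := fun a ha => by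
    have h := dvd_of_simple hsimple (hsub 1) (by rw [pow_one, hg.counit_eq_one, map_one]; exact hg1) ha
    rwa [pow_one, hg.counit_eq_one, map_one] at h
  have htop : Submodule.span k (Set.range fun i : Fin p => g ^ (i : ℕ)) = ⊤ := by
    rw [eq_top_iff, ← span_pow_eq_top hε hdvd hyp, Submodule.span_le]
    rintro _ ⟨i, rfl⟩
    refine (?_ : Subalgebra.toSubmodule (Algebra.adjoin k {g}) ≤ _)
      (pow_mem (sub_mem (Algebra.self_mem_adjoin_singleton k g) (one_mem _)) _)
    rw [Algebra.adjoin_eq_span, Submodule.span_le]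
    intro z hz
    obtain ⟨m, rfl⟩ := Submonoid.mem_closure_singleton.1 hz
    exact Submodule.subset_span ⟨⟨m % p, Nat.mod_lt _ hp.pos⟩, (pow_eq_pow_mod m hgp).symm⟩
  exact ⟨hgp, hli, by rw [Module.finrank_eq_card_basis (Module.Basis.mk hli htop.ge), Fintype.card_fin]⟩

end Groth.Agent.HopfQuot
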