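import Groth.Agent.HopfQuot.Invariants
import Groth.Agent.HopfLib.Chevalley
import Groth.Agent.HopfLib.GITPoints

/-!
# Normal subgroups of reduced groups over algebraically closed fields are kernels
-/

set_option autoImplicit false

noncomputable section

open TensorProduct WithConv
open Groth.Agent.HopfLib
open Coalgebra (comul counit)

universe u

namespace Groth.Agent.HopfQuot

variable {k : Type u} [Field k] {A : Type u} [CommRing A] [HopfAlgebra k A]

variable (k) in
/-- `Spec (A ⧸ I)` is the subgroup of points trivial on all invariant functions. -/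
def Gen (I : Ideal A) : Prop :=
  ∀ (R : Type u) [CommRing R] [Algebra k R] (g : Pt k A R),
    (∀ b ∈ invAlg k I, g.ofConv b = algebraMap k R (CoalgebraStruct.counit (R := k) b)) → Kills I g

theorem mkBialgHom_apply (I : Ideal A) [I.IsHopfIdeal k] (a : A) :
    Bialgebra.Quotient.mkBialgHom (R := k) I a = Ideal.Quotient.mkₐ k I a := rfl

/-- Chevalley functions cutting out a closed subgroup. -/
theorem exists_functions_cutting_out [Algebra.FiniteType k A] (I : Ideal A) [I.IsHopfIdeal k] :
    ∃ (ι : Type) (_ : Fintype ι) (F : ι → A) (o₀ : ι), CoalgebraStruct.counit (R := k) (F o₀) = 1 ∧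
      (∀ (R : Type u) [CommRing R] [Algebra k R] (g : A →ₐ[k] R), (∀ a ∈ I, g a = 0) →
        ∀ o, ptShift g (F o) = F o ⊗ₜ g (F o₀)) ∧
      ∀ (R : Type u) [CommRing R] [Algebra k R] (g : A →ₐ[k] R) (r : R),
        (∀ o, ptShift g (F o) = F o ⊗ₜ r) → ∀ a ∈ I, g a = 0 := by
  classical
  let π := Bialgebra.Quotient.mkBialgHom (R := k) I
  have hπ : Function.Surjective π := Ideal.Quotient.mk_surjective
  have hker : RingHom.ker (π : A →+* A ⧸ I) = I := Ideal.mk_ker
  obtain ⟨d, e, a, hε, hΔ, hπa, hcut⟩ := exists_matrix_cutting_out π hπ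
  let rowsel : Option (Fin d × Fin e) → Fin d → Fin d ⊕ Fin e := fun o i =>
    o.elim (Sum.inl i) fun p => if i = p.1 then Sum.inr p.2 else Sum.inl i
  let F : Option (Fin d × Fin e) → A := fun o => Matrix.det (Matrix.of fun l i => a (rowsel o l) (Sum.inl i))
  have hF0 : CoalgebraStruct.counit (R := k) (F none) = 1 := by
    show Bialgebra.counitAlgHom k A _ = 1
    rw [AlgHom.map_det]
    convert Matrix.det_one (n := Fin d) (R := k)
    refine Matrix.ext fun l i => ?_
    simp [rowsel, hε, Matrix.one_apply, Sum.inl_injective.eq_iff]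
  refine ⟨_, inferInstance, F, none, hF0, ?_, ?_⟩
  · intro R _ _ g hgI o
    have hg : ∀ (j : Fin e) (i : Fin d), g (a (Sum.inr j) (Sum.inl i)) = 0 := fun j i =>
      hgI _ (hker ▸ RingHom.mem_ker.2 (hπa j i))
    have hmat : (ptShift g).mapMatrix (Matrix.of fun l i => a (rowsel o l) (Sum.inl i)) =
        (Algebra.TensorProduct.includeLeft : A →ₐ[k] A ⊗[k] R).mapMatrix
            (Matrix.of fun l i => a (rowsel o l) (Sum.inl i)) *
          ((Algebra.TensorProduct.includeRight : R →ₐ[k] A ⊗[k] R).comp g).mapMatrix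
            (Matrix.of fun l i => a (rowsel none l) (Sum.inl i)) := by
      refine Matrix.ext fun l i => ?_
      simp only [AlgHom.mapMatrix_apply, Matrix.map_apply, Matrix.of_apply, Matrix.mul_apply,
        AlgHom.comp_apply, Algebra.TensorProduct.includeLeft_apply, Algebra.TensorProduct.includeRight_apply,
        Algebra.TensorProduct.tmul_mul_tmul, mul_one, one_mul]
      rw [ptShift_eq, hΔ, map_sum, Fintype.sum_sum_type]
      simp [hg, rowsel]
    show ptShift g (F o) = _
    rw [AlgHom.map_det, hmat, Matrix.det_mul, ← AlgHom.map_det, ← AlgHom.map_det]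
    simp [F]
  · intro R _ _ g r hr
    have hru : IsUnit r := isUnit_of_ptShift g hF0 (hr none)
    have h0 := apply_eq_of_ptShift g (hr none)
    rw [hF0, one_smul] at h0
    have hu : IsUnit (g (F none)) := h0 ▸ hru
    have hI0 : ∀ (j : Fin e) (i : Fin d), g (a (Sum.inr j) (Sum.inl i)) = 0 := by
      intro j
      let M : Matrix (Fin d) (Fin d) R := Matrix.of fun l i => g (a (Sum.inl l) (Sum.inl i))
      let x : Fin d → R := fun i => g (a (Sum.inr j) (Sum.inl i))
      have hMdet : M.det = g (F none) := by
        show _ = g (Matrix.det _)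
        rw [AlgHom.map_det]
        rfl
      have hminor : ∀ i₀, (M.updateRow i₀ x).det = 0 := by
        intro i₀
        have hz : CoalgebraStruct.counit (R := k) (F (some (i₀, j))) = 0 := by
          show Bialgebra.counitAlgHom k A _ = 0
          rw [AlgHom.map_det]
          refine Matrix.det_eq_zero_of_row_eq_zero i₀ fun i => ?_
          simp [rowsel, hε]
        have h1 := apply_eq_of_ptShift g (hr (some (i₀, j)))
        rw [hz, zero_smul] at h1
        refine Eq.trans ?_ h1
        show _ = g (Matrix.det _)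
        rw [AlgHom.map_det]
        congr 1
        refine Matrix.ext fun l i => ?_
        by_cases hl : l = i₀ <;> simp [M, x, rowsel, Matrix.updateRow_apply, hl]
      have hzero : Matrix.cramer M.transpose x = 0 := funext fun i₀ => by
        rw [Matrix.cramer_transpose_apply, hminor i₀]; rfl
      have h2 := Matrix.mulVec_cramer M.transpose x
      rw [hzero, Matrix.mulVec_zero, Matrix.det_transpose, hMdet] at h2
      intro i
      have h3 := congrFun h2 i
      simp only [Pi.zero_apply, Pi.smul_apply, smul_eq_mul] at h3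
      exact (hu.mul_right_eq_zero).1 h3.symm
    intro y hy
    exact hcut R g hI0 y (hker.symm ▸ hy)

theorem apply_sliceR {V : Type*} [AddCommGroup V] [Module k V] (f : V →ₗ[k] k) (φ : A →ₗ[k] k) (t : V ⊗[k] A) :
    f (sliceR φ t) = φ (sliceL f t) := by
  induction t using TensorProduct.induction_on with
  | zero => simp
  | add p q hp hq => simp only [map_add, hp, hq]
  | tmul p q => simp [mul_comm]

variable {R : Type u} [CommRing R] [Algebra k R]

/-- `k`-points as `R`-points. -/
abbrev ofPt (g : Pt k A k) : Pt k A R := push (Algebra.ofId k R) g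

theorem ofConv_sliceR (g : Pt k A k) (h : Pt k A R) (x : A) :
    h.ofConv (sliceR g.ofConv.toLinearMap (CoalgebraStruct.comul (R := k) x)) = (h * ofPt g).ofConv x := by
  rw [mul_apply]
  generalize CoalgebraStruct.comul (R := k) x = t
  induction t using TensorProduct.induction_on with
  | zero => simp
  | add p q hp hq => simp only [map_add, hp, hq]
  | tmul p q =>
    simp only [sliceR_tmul, map_smul, Algebra.TensorProduct.lift_tmul, push_apply, AlgHom.toLinearMap_apply]
    rw [Algebra.smul_def, mul_comm]
    rfl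

/-- Points on eigenfunctions. -/
theorem mul_apply_of_eigen {I : Ideal A} {x c : A} (hx : shift k I x = x ⊗ₜ Ideal.Quotient.mk I c)
    (g : Pt k A R) {n : Pt k A R} (hn : Kills I n) : (g * n).ofConv x = g.ofConv x * n.ofConv c := by
  obtain ⟨φ, rfl⟩ := hn.exists_push
  have h := congrArg (Algebra.TensorProduct.lift g.ofConv φ fun _ _ => .all ..) hx
  rw [shift, ← push_apply, map_mul, Algebra.TensorProduct.lift_tmul] at h
  refine Eq.trans ?_ h
  congr 3
  all_goals
    refine WithConv.ext (AlgHom.ext fun y => ?_)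
    simp

theorem gen_of_isAlgClosed [IsAlgClosed k] [Algebra.FiniteType k A] [IsReduced A] {I : Ideal A}
    [I.IsHopfIdeal k] (hI : IsNormalSub k A I) : Gen k I := by
  classical
  obtain ⟨ι, _, F, o₀, hF0, hshift, hcut⟩ := exists_functions_cutting_out (k := k) I
  obtain ⟨V, hV, hFV, hVs⟩ := exists_finite_subcomod (k := k) (A := A) (V := A) (Set.range F) (Set.finite_range F)
  have : Module.Finite k V := hV
  let E : Set A := {x | x ∈ V ∧ ∃ c, shift k I x = x ⊗ₜ Ideal.Quotient.mk I c}
  let U : Submodule k A := Submodule.span k E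
  have hUV : U ≤ V := Submodule.span_le.2 fun x hx => hx.1
  have : Module.Finite k U := Submodule.finiteDimensional_of_le hUV
  -- translates of eigenfunctions
  have htrans : ∀ (g : Pt k A k), ∀ x ∈ E, sliceR g.ofConv.toLinearMap (CoalgebraStruct.comul (R := k) x) ∈ E := by
    rintro g x ⟨hxV, c, hc⟩
    let gA : Pt k A A := ofPt g
    refine ⟨sliceR_mem_of_mem_range (hVs x hxV) _, (gA⁻¹ * idPt k A * gA).ofConv c, ?_⟩
    let g₁ : Pt k A (A ⊗[k] (A ⧸ I)) := push Algebra.TensorProduct.includeLeft (idPt k A)
    let n : Pt k A (A ⊗[k] (A ⧸ I)) := push Algebra.TensorProduct.includeRight (mkPt (k := k) I)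
    have hn : Kills I n := (kills_mkPt I).push _
    show (g₁ * n).ofConv _ = _
    rw [ofConv_sliceR, show g₁ * n * ofPt g = g₁ * ofPt g * ((ofPt g)⁻¹ * n * ofPt g) by group,
      mul_apply_of_eigen hc _ (hI.conj' _ hn), ← ofConv_sliceR,
      show ((ofPt g)⁻¹ * n * ofPt g : Pt k A (A ⊗[k] (A ⧸ I))) =
        push ((Algebra.TensorProduct.includeRight : (A ⧸ I) →ₐ[k] A ⊗[k] (A ⧸ I)).comp (Ideal.Quotient.mkₐ k I))
          (gA⁻¹ * idPt k A * gA) by
        rw [map_mul, map_mul, map_inv]
        congr 3 <;> refine WithConv.ext (AlgHom.ext fun y => ?_) <;> simp [gA, n]]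
    simp only [g₁, push_apply]
    simp [-map_mul, -map_inv]
  have hUmem : ∀ (p : A →ₐ[k] k), ∀ x ∈ U,
      sliceR p.toLinearMap (CoalgebraStruct.comul (R := k) x) ∈ U := by
    intro p x hx
    induction hx using Submodule.span_induction with
    | mem y hy => exact Submodule.subset_span (htrans (toConv p) y hy)
    | zero => simp
    | add a b _ _ ha hb => simp only [map_add]; exact add_mem ha hb
    | smul c a _ ha => simp only [map_smul]; exact U.smul_mem c ha
  have hUs : ∀ x ∈ U, CoalgebraStruct.comul (R := k) x ∈ LinearMap.range (U.subtype.rTensor A) := by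
    intro x hx
    rw [mem_range_rTensor_subtype_iff]
    intro φ
    by_contra hnot
    obtain ⟨f, hf0, hfU⟩ := U.exists_dual_map_eq_bot_of_notMem hnot inferInstance
    refine hf0 ?_
    rw [apply_sliceR]
    suffices sliceL f (CoalgebraStruct.comul (R := k) x) = 0 by rw [this, map_zero]
    by_contra hne
    obtain ⟨p, hp⟩ := exists_algHom_ne_zero (k := k) (fun hn => hne (IsReduced.eq_zero _ hn))
    refine hp ?_
    have hmem := hUmem p x hx
    have := (Submodule.map_le_iff_le_comap.1 hfU.le) hmem
    rw [Submodule.mem_comap, Submodule.mem_bot, apply_sliceR] at this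
    exact this
  -- a basis of eigenfunctions
  obtain ⟨B, hBE, hBspan, hBli⟩ := exists_linearIndependent k E
  have : Fintype B := by
    have h : LinearIndependent k (fun t : B => (⟨t, Submodule.subset_span (hBE t.2)⟩ : U)) :=
      LinearIndependent.of_comp U.subtype hBli
    have := h.finite
    exact Fintype.ofFinite B
  let u : B → A := fun t => t
  have hu : ∀ t : B, ∃ c, shift k I (u t) = u t ⊗ₜ Ideal.Quotient.mk I c := fun t => (hBE t.2).2
  choose c hc using hu
  have hspan : U = Submodule.span k (Set.range u) := by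
    rw [show Set.range u = B from Subtype.range_coe]; exact hBspan.symm
  have hu' : ∀ t, u t ∈ U := fun t => hspan ▸ Submodule.subset_span ⟨t, rfl⟩
  have hext : ∀ s : B, ∃ f : A →ₗ[k] k, ∀ t, f (u t) = if t = s then 1 else 0 := by
    intro s
    let β := Module.Basis.span hBli
    obtain ⟨f, hf⟩ := (β.coord s).exists_extend
    refine ⟨f, fun t => ?_⟩
    have h1 := LinearMap.congr_fun hf (β t)
    have hβ : (β t : A) = u t := congrArg Subtype.val (Module.Basis.span_apply hBli t)
    rw [LinearMap.comp_apply, Submodule.subtype_apply, hβ] at h1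
    rw [show f (u t) = β.coord s (β t) from h1, Module.Basis.coord_apply, Module.Basis.repr_self,
      Finsupp.single_apply]
  choose f hf using hext
  have hrep : ∀ x ∈ U, x = ∑ t, f t x • u t := by
    intro x hx
    rw [hspan] at hx
    induction hx using Submodule.span_induction with
    | mem y hy => obtain ⟨t, rfl⟩ := hy; simp [hf]
    | zero => simp
    | add a b _ _ ha hb => simp only [map_add, add_smul, Finset.sum_add_distrib, ← ha, ← hb]
    | smul r a _ ha => simp only [map_smul, smul_eq_mul, mul_smul, ← Finset.smul_sum, ← ha]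
  let a : B → B → A := fun s t => cf (A := A) (f s) (u t)
  have hexp : ∀ t, CoalgebraStruct.comul (R := k) (u t) = ∑ s, u s ⊗ₜ[k] a s t := by
    intro t
    obtain ⟨y, hy⟩ := hUs (u t) (hu' t)
    show _ = ∑ s, u s ⊗ₜ[k] sliceL (f s) (CoalgebraStruct.comul (R := k) (u t))
    rw [← hy]
    generalize hy' : y = y'
    clear hy hy'
    induction y' using TensorProduct.induction_on with
    | zero => simp
    | add p q hp hq => simp only [map_add, TensorProduct.tmul_add, Finset.sum_add_distrib, ← hp, ← hq]
    | tmul w q =>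
      simp only [LinearMap.rTensor_tmul, Submodule.subtype_apply, sliceL_tmul]
      conv_lhs => rw [hrep w.1 w.2, TensorProduct.sum_tmul]
      exact Finset.sum_congr rfl fun s _ => (TensorProduct.smul_tmul _ _ _)
  have hΔa : ∀ s t, CoalgebraStruct.comul (R := k) (a s t) = ∑ l, a s l ⊗ₜ[k] a l t := by
    intro s t
    have h := IsComodHom.coact_apply (isComodHom_cf (A := A) (f s)) (u t)
    rw [show CoalgebraStruct.comul (R := k) (a s t) =
      HopfRep.Comod.coact (k := k) (A := A) (cf (A := A) (f s) (u t)) from rfl, h,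
      show HopfRep.Comod.coact (k := k) (A := A) (u t) = CoalgebraStruct.comul (R := k) (u t) from rfl,
      hexp, map_sum]
    rfl
  have hεa : ∀ s t, CoalgebraStruct.counit (R := k) (a s t) = if t = s then 1 else 0 := fun s t =>
    (counit_cf (f s) (u t)).trans (hf s t)
  have hπa : ∀ s t, Ideal.Quotient.mk I (a s t) = if t = s then Ideal.Quotient.mk I (c t) else 0 := by
    intro s t
    have h := congrArg (sliceL (f s)) (hc t)
    rw [shift_eq, sliceL_lTensor, sliceL_tmul, hf] at h
    refine h.trans ?_
    split_ifs <;> simp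
  have hmul : ∀ {R : Type u} [CommRing R] [Algebra k R] (g h : Pt k A R) (s t : B),
      (g * h).ofConv (a s t) = ∑ l, g.ofConv (a s l) * h.ofConv (a l t) := by
    intro R _ _ g h s t
    rw [mul_apply, hΔa, map_sum]
    exact Finset.sum_congr rfl fun l _ => Algebra.TensorProduct.lift_tmul _ _ _ _ _
  have hn_a : ∀ {R : Type u} [CommRing R] [Algebra k R] (n : Pt k A R), Kills I n → ∀ s t,
      n.ofConv (a s t) = if t = s then n.ofConv (c t) else 0 := by
    intro R _ _ n hn s t
    obtain ⟨φ, rfl⟩ := hn.exists_push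
    show φ (Ideal.Quotient.mk I (a s t)) = _
    rw [hπa]
    split_ifs <;> simp
  intro R _ _ g hg
  have hinv : ∀ s j i t, Ideal.Quotient.mk I (c i) = Ideal.Quotient.mk I (c j) →
      a s j * HopfAlgebraStruct.antipode k (A := A) (a i t) ∈ invAlg k I := by
    intro s j i t hij
    refine mem_invAlg_of_forall fun R' _ _ g' n hn => ?_
    rw [map_mul, map_mul, ← inv_apply, ← inv_apply, _root_.mul_inv_rev, hmul g' n, hmul n⁻¹ g'⁻¹]
    simp only [hn_a n hn, hn_a n⁻¹ (hI.inv hn), mul_ite, mul_zero, ite_mul, zero_mul, Finset.sum_ite_eq,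
      Finset.sum_ite_eq', Finset.mem_univ, if_true]
    have h1 : n.ofConv (c j) * n⁻¹.ofConv (c i) = 1 := by
      have hc' : n.ofConv (c j) = n.ofConv (c i) := by
        obtain ⟨φ, rfl⟩ := hn.exists_push
        exact congrArg φ hij.symm
      have h := congrArg (fun p : Pt k A R' => p.ofConv (a i i)) (mul_inv_cancel n)
      simp only [one_apply, hεa, if_true, map_one, hmul, hn_a n hn, hn_a n⁻¹ (hI.inv hn), mul_ite, mul_zero,
        ite_mul, zero_mul, Finset.sum_ite_eq, Finset.sum_ite_eq', Finset.mem_univ] at h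
      rw [hc', h]
    linear_combination (g'.ofConv (a s j) * g'⁻¹.ofConv (a i t)) * h1
  have hrel : ∀ s j i, Ideal.Quotient.mk I (c i) = Ideal.Quotient.mk I (c j) →
      g.ofConv (a s j) = if j = s then g.ofConv (a i i) else 0 := by
    intro s j i hij
    have hb : ∀ t, g.ofConv (a s j) * g⁻¹.ofConv (a i t) = if j = s ∧ t = i then 1 else 0 := by
      intro t
      have h := hg _ (hinv s j i t hij)
      rw [map_mul, ← inv_apply, Bialgebra.counit_mul, HopfAlgebra.counit_antipode, hεa, hεa] at h
      rw [h]
      rcases eq_or_ne j s with h1 | h1 <;> rcases eq_or_ne t i with h2 | h2 <;> simp [h1, h2]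
    have h1 : ∑ t, g⁻¹.ofConv (a i t) * g.ofConv (a t i) = 1 := by
      rw [← hmul, inv_mul_cancel, one_apply, hεa, if_pos rfl, map_one]
    calc g.ofConv (a s j) = g.ofConv (a s j) * ∑ t, g⁻¹.ofConv (a i t) * g.ofConv (a t i) := by rw [h1, mul_one]
      _ = ∑ t, (if j = s ∧ t = i then 1 else 0) * g.ofConv (a t i) := by
        rw [Finset.mul_sum]
        exact Finset.sum_congr rfl fun t _ => by rw [← mul_assoc, hb]
      _ = _ := by
        by_cases hjs : j = s <;> simp [hjs, ite_mul, Finset.sum_ite_eq']
  -- the functions F lie in one eigenspace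
  have hFU : ∀ o, F o ∈ U := fun o => Submodule.subset_span ⟨hFV ⟨o, rfl⟩, F o₀, by
    rw [shift_eq]
    exact (ptShift_eq _ _).symm.trans (hshift (A ⧸ I) (Ideal.Quotient.mkₐ k I) (kills_mkPt (k := k) I) o)⟩
  have hr : ∀ o t, f t (F o) ≠ 0 → Ideal.Quotient.mk I (c t) = Ideal.Quotient.mk I (F o₀) := by
    intro o t hne
    have h1 : shift k I (F o) = F o ⊗ₜ Ideal.Quotient.mk I (F o₀) := by
      rw [shift_eq]
      exact (ptShift_eq _ _).symm.trans (hshift (A ⧸ I) (Ideal.Quotient.mkₐ k I) (kills_mkPt (k := k) I) o)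
    have h2 := congrArg (sliceL (f t)) h1
    conv_lhs at h2 => rw [hrep _ (hFU o), map_sum]
    simp only [map_smul, hc, map_sum, sliceL_tmul, hf, smul_eq_mul] at h2
    simp only [ite_smul, one_smul, zero_smul, smul_ite, smul_zero, Finset.sum_ite_eq', Finset.mem_univ,
      if_true] at h2
    exact smul_right_injective _ hne h2
  obtain ⟨i, hi⟩ : ∃ t, f t (F o₀) ≠ 0 := by
    by_contra h
    push Not at h
    have := hrep _ (hFU o₀)
    simp [h] at this
    rw [this] at hF0
    simp at hF0
  refine hcut R g.ofConv (g.ofConv (a i i)) fun o => ?_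
  rw [ptShift_eq]
  conv_lhs => rw [hrep _ (hFU o), map_sum, map_sum]
  conv_rhs => rw [hrep _ (hFU o), TensorProduct.sum_tmul]
  refine Finset.sum_congr rfl fun j _ => ?_
  rw [map_smul, map_smul, hexp, map_sum, ← TensorProduct.smul_tmul']
  rcases eq_or_ne (f j (F o)) 0 with h0 | h0
  · simp [h0]
  · simp only [LinearMap.lTensor_tmul, AlgHom.toLinearMap_apply,
      hrel _ j i ((hr o₀ i hi).trans (hr o j h0).symm)]
    rw [Finset.sum_eq_single j]
    · simp [TensorProduct.smul_tmul']
    · intro s _ hs; simp [Ne.symm hs]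
    · simp

end Groth.Agent.HopfQuot
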