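import Groth.Prelude.Def_SGA3
import Mathlib.RingTheory.HopfAlgebra.Basic
import Mathlib.RingTheory.Bialgebra.Hom
import Mathlib.RingTheory.Flat.Basic

/-!
# Hopf structures on flat Hopf subalgebras over an arbitrary ring
-/

set_option autoImplicit false

noncomputable section

open TensorProduct

universe u

namespace Groth.Agent.HopfQuot.SubHopfRing

variable {k : Type u} [CommRing k] {A : Type u} [CommRing A] [HopfAlgebra k A] [Module.Flat k A]
  {B : Subalgebra k A} [Module.Flat k ↥B] (hB : SGA3.IsHopfSubalgebra k A B)

lemma map_val_injective : Function.Injective (Algebra.TensorProduct.map B.val B.val) := by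
  have h : Function.Injective (TensorProduct.map B.val.toLinearMap B.val.toLinearMap) := by
    rw [← LinearMap.lTensor_comp_rTensor, LinearMap.coe_comp]
    exact (Module.Flat.lTensor_preserves_injective_linearMap _ Subtype.val_injective).comp
      (Module.Flat.rTensor_preserves_injective_linearMap _ Subtype.val_injective)
  exact h

/-- the comultiplication of a Hopf subalgebra -/
def subComul : B →ₐ[k] B ⊗[k] B :=
  (AlgEquiv.ofInjective _ (map_val_injective (B := B))).symm.toAlgHom.comp
    (((Bialgebra.comulAlgHom k A).comp B.val).codRestrict _ fun b => by
      obtain ⟨t, ht⟩ := hB.1 b.1 b.2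
      exact ⟨t, ht⟩)

lemma map_subComul (b : B) :
    Algebra.TensorProduct.map B.val B.val (subComul hB b) = CoalgebraStruct.comul (R := k) (b : A) :=
  congrArg Subtype.val ((AlgEquiv.ofInjective _ (map_val_injective (B := B))).apply_symm_apply _)

/-- the bialgebra structure on a Hopf subalgebra -/
abbrev subBialgebra : Bialgebra k B :=
  Bialgebra.ofAlgHom (subComul hB) ((Bialgebra.counitAlgHom k A).comp B.val)
    (by
      refine AlgHom.ext fun b => ?_
      have hinj : Function.Injective
          (Algebra.TensorProduct.map B.val (Algebra.TensorProduct.map B.val B.val)) := by
        have h : Function.Injective (TensorProduct.map B.val.toLinearMap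
            (Algebra.TensorProduct.map B.val B.val).toLinearMap) := by
          rw [← LinearMap.lTensor_comp_rTensor, LinearMap.coe_comp]
          exact (Module.Flat.lTensor_preserves_injective_linearMap _ (map_val_injective (B := B))).comp
            (Module.Flat.rTensor_preserves_injective_linearMap _ Subtype.val_injective)
        exact h
      apply hinj
      simp only [AlgHom.comp_apply]
      have h1 : ∀ z : B ⊗[k] B,
          Algebra.TensorProduct.map B.val (Algebra.TensorProduct.map B.val B.val)
            ((Algebra.TensorProduct.assoc k k k B B B).toAlgHom
              (Algebra.TensorProduct.map (subComul hB) (AlgHom.id k B) z)) =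
          TensorProduct.assoc k A A A ((CoalgebraStruct.comul (R := k) (A := A)).rTensor A
            (Algebra.TensorProduct.map B.val B.val z)) := by
        intro z
        induction z using TensorProduct.induction_on with
        | zero => simp
        | add p q hp hq => simp only [map_add, hp, hq]
        | tmul p q =>
          simp only [Algebra.TensorProduct.map_tmul, AlgHom.id_apply, LinearMap.rTensor_tmul]
          rw [show B.val p = (p : A) from rfl, ← map_subComul hB p]
          generalize subComul hB p = t
          induction t using TensorProduct.induction_on with
          | zero => simp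
          | add u v hu hv => simp only [map_add, add_tmul, hu, hv]
          | tmul u v => simp
      have h2 : ∀ z : B ⊗[k] B,
          Algebra.TensorProduct.map B.val (Algebra.TensorProduct.map B.val B.val)
            (Algebra.TensorProduct.map (AlgHom.id k B) (subComul hB) z) =
          (CoalgebraStruct.comul (R := k) (A := A)).lTensor A (Algebra.TensorProduct.map B.val B.val z) := by
        intro z
        induction z using TensorProduct.induction_on with
        | zero => simp
        | add p q hp hq => simp only [map_add, hp, hq]
        | tmul p q => simp [map_subComul hB q]
      rw [h1, h2, map_subComul hB b, Coalgebra.coassoc_apply])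
    (by
      refine AlgHom.ext fun b => ?_
      have hinj : Function.Injective (Algebra.TensorProduct.map (AlgHom.id k k) B.val) :=
        Module.Flat.lTensor_preserves_injective_linearMap B.val.toLinearMap Subtype.val_injective
      apply hinj
      simp only [AlgHom.comp_apply]
      have h1 : ∀ z : B ⊗[k] B, Algebra.TensorProduct.map (AlgHom.id k k) B.val
          (Algebra.TensorProduct.map ((Bialgebra.counitAlgHom k A).comp B.val) (AlgHom.id k B) z) =
          (CoalgebraStruct.counit (R := k) (A := A)).rTensor A (Algebra.TensorProduct.map B.val B.val z) := by
        intro z
        induction z using TensorProduct.induction_on with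
        | zero => simp
        | add p q hp hq => simp only [map_add, hp, hq]
        | tmul p q => simp
      rw [h1, map_subComul hB b, Coalgebra.rTensor_counit_comul]
      simp)
    (by
      refine AlgHom.ext fun b => ?_
      have hinj : Function.Injective (Algebra.TensorProduct.map B.val (AlgHom.id k k)) :=
        Module.Flat.rTensor_preserves_injective_linearMap B.val.toLinearMap Subtype.val_injective
      apply hinj
      simp only [AlgHom.comp_apply]
      have h1 : ∀ z : B ⊗[k] B, Algebra.TensorProduct.map B.val (AlgHom.id k k)
          (Algebra.TensorProduct.map (AlgHom.id k B) ((Bialgebra.counitAlgHom k A).comp B.val) z) =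
          (CoalgebraStruct.counit (R := k) (A := A)).lTensor A (Algebra.TensorProduct.map B.val B.val z) := by
        intro z
        induction z using TensorProduct.induction_on with
        | zero => simp
        | add p q hp hq => simp only [map_add, hp, hq]
        | tmul p q => simp
      rw [h1, map_subComul hB b, Coalgebra.lTensor_counit_comul]
      simp)

/-- the Hopf structure on a Hopf subalgebra -/
abbrev subHopf : HopfAlgebra k B :=
  letI := subBialgebra hB
  HopfAlgebra.ofAlgHom
    (((HopfAlgebra.antipodeAlgHom k A).comp B.val).codRestrict B fun b => hB.2 b.1 b.2)
    (by
      refine AlgHom.ext fun b => Subtype.ext ?_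
      show ((Algebra.TensorProduct.lift (((HopfAlgebra.antipodeAlgHom k A).comp B.val).codRestrict B
            fun b => hB.2 b.1 b.2) (AlgHom.id k B) (fun _ _ => Commute.all _ _) (subComul hB b) : B) : A) =
        ((algebraMap k B (CoalgebraStruct.counit (R := k) (b : A)) : B) : A)
      have h1 : ∀ z : B ⊗[k] B,
          ((Algebra.TensorProduct.lift (((HopfAlgebra.antipodeAlgHom k A).comp B.val).codRestrict B
            fun b => hB.2 b.1 b.2) (AlgHom.id k B) (fun _ _ => Commute.all _ _) z : B) : A) =
          LinearMap.mul' k A ((HopfAlgebraStruct.antipode k (A := A)).rTensor A
            (Algebra.TensorProduct.map B.val B.val z)) := by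
        intro z
        induction z using TensorProduct.induction_on with
        | zero => simp
        | add p q hp hq => simp only [map_add, Subalgebra.coe_add, hp, hq]
        | tmul p q =>
          simp
          try rfl
      rw [h1, map_subComul hB b, HopfAlgebra.mul_antipode_rTensor_comul_apply]
      rfl)
    (by
      refine AlgHom.ext fun b => Subtype.ext ?_
      show ((Algebra.TensorProduct.lift (AlgHom.id k B) (((HopfAlgebra.antipodeAlgHom k A).comp B.val).codRestrict B
            fun b => hB.2 b.1 b.2) (fun _ _ => Commute.all _ _) (subComul hB b) : B) : A) =
        ((algebraMap k B (CoalgebraStruct.counit (R := k) (b : A)) : B) : A)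
      have h1 : ∀ z : B ⊗[k] B,
          ((Algebra.TensorProduct.lift (AlgHom.id k B) (((HopfAlgebra.antipodeAlgHom k A).comp B.val).codRestrict B
            fun b => hB.2 b.1 b.2) (fun _ _ => Commute.all _ _) z : B) : A) =
          LinearMap.mul' k A ((HopfAlgebraStruct.antipode k (A := A)).lTensor A
            (Algebra.TensorProduct.map B.val B.val z)) := by
        intro z
        induction z using TensorProduct.induction_on with
        | zero => simp
        | add p q hp hq => simp only [map_add, Subalgebra.coe_add, hp, hq]
        | tmul p q =>
          simp
          try rfl
      rw [h1, map_subComul hB b, HopfAlgebra.mul_antipode_lTensor_comul_apply]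
      rfl)

end Groth.Agent.HopfQuot.SubHopfRing
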