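import Groth.Agent.HopfQuot.UnitComponent
import Groth.Prelude.Def_CartDual2

/-!
# Invariants under the unit component; functoriality
-/

set_option autoImplicit false

noncomputable section

open TensorProduct

universe u v

namespace Groth.Agent.HopfQuot.UnitComp

section Invariant

variable {R : Type u} [CommRing R] {A : Type v} [CommRing A] [HopfAlgebra R A] {e : A}

/-- The two ways of writing invariance under the unit component. -/
theorem invariant_iff (he : IsIdempotentElem e) (x : A) :
    Algebra.TensorProduct.map (AlgHom.id R A) (Ideal.Quotient.mkₐ R (Ideal.span ({1 - e} : Set A)))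
        (Coalgebra.comul (R := R) x) = x ⊗ₜ[R] 1 ↔
      LinearMap.lTensor A (LinearMap.mulLeft R e) (Coalgebra.comul (R := R) x) = x ⊗ₜ[R] e := by
  set I := Ideal.span ({1 - e} : Set A)
  constructor
  · intro h
    let i : (A ⧸ I) →ₗ[R] A :=
      (I.restrictScalars R).liftQ (LinearMap.mulLeft R e) (fun a ha => by
        obtain ⟨c, rfl⟩ := Ideal.mem_span_singleton'.1 (Submodule.restrictScalars_mem .. |>.1 ha)
        rw [LinearMap.mem_ker, LinearMap.mulLeft_apply]
        linear_combination (-c) * he.eq)
    have key : ∀ t : A ⊗[R] A, i.lTensor A (Algebra.TensorProduct.map (AlgHom.id R A) (Ideal.Quotient.mkₐ R I) t) =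
        LinearMap.lTensor A (LinearMap.mulLeft R e) t := fun t => by
      induction t using TensorProduct.induction_on with
      | zero => simp
      | add p q hp hq => simp only [map_add, hp, hq]
      | tmul p q => rfl
    rw [← key, h, LinearMap.lTensor_tmul]
    show x ⊗ₜ[R] (e * 1) = _
    rw [mul_one]
  · intro h
    have key : ∀ t : A ⊗[R] A, Algebra.TensorProduct.map (AlgHom.id R A) (Ideal.Quotient.mkₐ R I)
        (LinearMap.lTensor A (LinearMap.mulLeft R e) t) =
        Algebra.TensorProduct.map (AlgHom.id R A) (Ideal.Quotient.mkₐ R I) t := fun t => by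
      induction t using TensorProduct.induction_on with
      | zero => simp
      | add p q hp hq => simp only [map_add, hp, hq]
      | tmul p q =>
        simp only [LinearMap.lTensor_tmul, LinearMap.mulLeft_apply, Algebra.TensorProduct.map_tmul, map_mul,
          AlgHom.id_apply]
        rw [show Ideal.Quotient.mkₐ R I e = 1 from mk_self, one_mul]
    rw [← key, h, Algebra.TensorProduct.map_tmul, show Ideal.Quotient.mkₐ R I e = 1 from mk_self, AlgHom.id_apply]

variable {B : Type*} [CommRing B] [HopfAlgebra R B] {f : B}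

/-- A bialgebra map carries invariants to invariants. -/
theorem map_invariant (φ : A →ₐc[R] B) (he : IsIdempotentElem e) (heε : Bialgebra.counitAlgHom R A e = 1)
    (hf : IsIdempotentElem f) (hfε : Bialgebra.counitAlgHom R B f = 1)
    [IsLocalRing (B ⧸ Ideal.span ({1 - f} : Set B))] {x : A}
    (hx : LinearMap.lTensor A (LinearMap.mulLeft R e) (Coalgebra.comul (R := R) x) = x ⊗ₜ[R] e) :
    LinearMap.lTensor B (LinearMap.mulLeft R f) (Coalgebra.comul (R := R) (φ x)) = φ x ⊗ₜ[R] f := by
  rw [← invariant_iff hf]
  rw [← invariant_iff he] at hx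
  have h1 : Ideal.Quotient.mkₐ R (Ideal.span ({1 - f} : Set B)) (φ e) = 1 :=
    eq_one_of_apply (counitQuot hfε) ((he.map _).map _) ((CoalgHomClass.counit_comp_apply φ e).trans heε)
  let φ' : (A ⧸ Ideal.span ({1 - e} : Set A)) →ₐ[R] (B ⧸ Ideal.span ({1 - f} : Set B)) :=
    Ideal.Quotient.liftₐ _ ((Ideal.Quotient.mkₐ R _).comp (φ : A →ₐ[R] B)) fun a ha => by
      obtain ⟨c, rfl⟩ := Ideal.mem_span_singleton'.1 ha
      rw [AlgHom.comp_apply]
      show Ideal.Quotient.mkₐ R _ (φ (c * (1 - e))) = 0
      rw [map_mul, map_sub, map_one, map_mul, map_sub, map_one, h1, sub_self, mul_zero]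
  have key : ∀ t : A ⊗[R] A, Algebra.TensorProduct.map (AlgHom.id R B) (Ideal.Quotient.mkₐ R (Ideal.span ({1 - f} : Set B)))
      (TensorProduct.map (φ : A →ₗ[R] B) (φ : A →ₗ[R] B) t) =
      Algebra.TensorProduct.map (φ : A →ₐ[R] B) φ'
        (Algebra.TensorProduct.map (AlgHom.id R A) (Ideal.Quotient.mkₐ R (Ideal.span ({1 - e} : Set A))) t) := fun t => by
    induction t using TensorProduct.induction_on with
    | zero => simp
    | add p q hp hq => simp only [map_add, hp, hq]
    | tmul p q => rfl
  rw [← CoalgHomClass.map_comp_comul_apply φ x, key, hx, Algebra.TensorProduct.map_tmul, map_one]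
  rfl

end Invariant

end Groth.Agent.HopfQuot.UnitComp
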